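import Cfsg.Agent.FusionTwoEssentials.Cases
import Cfsg.Agent.OddOrder.BG4.Basic

/-!
# A natural plane inside the intersection
-/

set_option autoImplicit false

namespace CfsgLib.FusionTwoEssentials

open scoped commutatorElement

variable {G : Type*} [Group G]

/-- Commutators of a generated subgroup lie in a central subgroup containing those of the
generators. -/
theorem comm_of_closure {T : Set G} {L : Subgroup G}
    (hL : ∀ l ∈ L, ∀ a ∈ Subgroup.closure T, a * l = l * a) (h : ∀ a ∈ T, ∀ b ∈ T, ⁅a, b⁆ ∈ L) :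
    ∀ a ∈ Subgroup.closure T, ∀ b ∈ Subgroup.closure T, ⁅a, b⁆ ∈ L := by
  have h1 : ∀ a ∈ T, ∀ b ∈ Subgroup.closure T, ⁅a, b⁆ ∈ L := by
    intro a ha b hb
    induction hb using Subgroup.closure_induction with
    | mem b hb => exact h a ha b hb
    | one => rw [commutatorElement_one_right]; exact L.one_mem
    | mul b c hb hc h1 h2 =>
      rw [comm_mul_right, hL _ h2 b hb, mul_inv_cancel_right]
      exact L.mul_mem h1 h2
    | inv b hb h1 =>
      have e : ⁅a, b⁻¹⁆ = b⁻¹ * ⁅a, b⁆⁻¹ * b⁻¹⁻¹ := by simp only [commutatorElement_def]; group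
      rw [e, hL _ (L.inv_mem h1) _ (Subgroup.inv_mem _ hb), mul_inv_cancel_right]
      exact L.inv_mem h1
  intro a ha b hb
  induction ha using Subgroup.closure_induction with
  | mem a ha => exact h1 a ha b hb
  | one => rw [commutatorElement_one_left]; exact L.one_mem
  | mul a c ha hc h2 h3 =>
    rw [comm_mul_left, hL _ h3 a ha, mul_inv_cancel_right]
    exact L.mul_mem h3 h2
  | inv a ha h2 =>
    have e : ⁅a⁻¹, b⁆ = a⁻¹ * ⁅a, b⁆⁻¹ * a⁻¹⁻¹ := by simp only [commutatorElement_def]; group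
    rw [e, hL _ (L.inv_mem h2) _ (Subgroup.inv_mem _ ha), mul_inv_cancel_right]
    exact L.inv_mem h2

/-- Central factors do not change a commutator. -/
theorem comm_mul_central {H : Type*} [Group H] {x y d d' : H} (hxd' : Commute x d') (hdy : Commute d y)
    (hdd' : Commute d d') : ⁅x * d, y * d'⁆ = ⁅x, y⁆ := by
  rw [comm_mul_left, comm_mul_right, comm_mul_right, commutatorElement_eq_one_iff_mul_comm.2 hxd'.eq,
    commutatorElement_eq_one_iff_mul_comm.2 hdy.eq, commutatorElement_eq_one_iff_mul_comm.2 hdd'.eq]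
  simp

variable {p : ℕ} {B B' : Subgroup (MulAut G)}

/-- The configuration: a natural plane and a larger elementary subgroup invariant under the first
side. -/
structure Plane (s : Side p B) (t : Side p B') (D : Subgroup G) : Prop where
  central : omegaZ p s.E ≤ omegaZ p (⊤ : Subgroup G)
  elem : Elem p D
  le : omegaZ p t.E ≤ D
  le_E : D ≤ s.E
  inv : ∀ α ∈ s.A, Pres α D
  card_D : Nat.card D = p ^ 3
  card_W : Nat.card (omegaZ p t.E) = p ^ 2
  card_Z : Nat.card (omegaZ p (⊤ : Subgroup G)) = p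
  moves : ¬ ∀ α ∈ t.A, Pres α (omegaZ p (⊤ : Subgroup G))

namespace Plane

variable [Finite G] [hp : Fact p.Prime] {s : Side p B} {t : Side p B'} {D : Subgroup G} (c : Plane s t D)
  (hG : IsPGroup p G) (hp2 : p ≠ 2) (hrk : Rank3 p G) (hne : s.E ≠ t.E)

include c hG

/-- No line of the plane is invariant. -/
theorem no_line {L : Subgroup G} (hLt : L ≤ t.E) (hcard : Nat.card L = p)
    (hL : ∀ γ ∈ t.A, Pres γ L) : False := by
  haveI hLn : L.Normal := t.normal_of_inv hLt hL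
  have h1 : L ≤ omegaZ p (⊤ : Subgroup G) := fun x hx => by
    refine ⟨Subgroup.mem_top x, ?_, fun g _ => commutatorElement_eq_one_iff_mul_comm.1
      (Subgroup.mem_bot.1 (comm_mem_of_relIndex hG Subgroup.normal_bot hLn
        (by rw [Subgroup.relIndex_bot_left, hcard]) g hx))⟩
    have h2 : (⟨x, hx⟩ : L) ^ Nat.card L = 1 := pow_card_eq_one'
    rw [hcard] at h2
    exact congrArg Subtype.val h2
  exact c.moves (Subgroup.eq_of_le_of_card_ge h1 (by rw [hcard, c.card_Z]) ▸ hL)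

omit hG in
theorem not_central : ¬ omegaZ p t.E ≤ omegaZ p (⊤ : Subgroup G) := fun h => by
  have h1 := Subgroup.card_le_of_le h
  rw [c.card_W, c.card_Z] at h1
  exact absurd h1 (not_le.2 (by nlinarith [hp.out.one_lt]))

omit hG in
theorem le_inf : D ≤ s.E ⊓ t.E := fun d hd => by
  refine ⟨c.le_E hd, ?_⟩
  by_contra hdt
  refine c.not_central fun w hw => ⟨Subgroup.mem_top w, hw.2.1, fun g _ => ?_⟩
  obtain ⟨n, e, he, rfl⟩ := t.exists_pow_mul hdt g
  exact ((show Commute d w from c.elem.1 d hd w (c.le hw)).pow_left n).mul_left (hw.2.2 e he)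

theorem relIndex_W : (omegaZ p t.E).relIndex D = p := by
  have h := Subgroup.relIndex_mul_relIndex (⊥ : Subgroup G) (omegaZ p t.E) D bot_le c.le
  rw [Subgroup.relIndex_bot_left, Subgroup.relIndex_bot_left, c.card_D, c.card_W, pow_succ p 2] at h
  exact Nat.eq_of_mul_eq_mul_left (pow_pos hp.out.pos 2) h

theorem relIndex_Z : (omegaZ p (⊤ : Subgroup G)).relIndex (omegaZ p t.E) = p := by
  have h := Subgroup.relIndex_mul_relIndex (⊥ : Subgroup G) _ _ bot_le t.omegaTop_le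
  rw [Subgroup.relIndex_bot_left, Subgroup.relIndex_bot_left, c.card_W, c.card_Z, pow_two] at h
  exact Nat.eq_of_mul_eq_mul_left hp.out.pos h

theorem comm_mem_W (g : G) {d : G} (hd : d ∈ D) : ⁅g, d⁆ ∈ omegaZ p t.E :=
  comm_mem_of_relIndex hG (omegaZ_normal t.normal) (s.normal_of_inv c.le_E c.inv)
    (c.relIndex_W hG).le g hd

theorem exists_v : ∃ v ∈ D, v ∉ omegaZ p t.E ∧
    ∀ d ∈ D, ∃ w ∈ omegaZ p t.E, ∃ i : ℕ, d = w * v ^ i := by
  haveI : (omegaZ p t.E).Normal := omegaZ_normal t.normal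
  have hnle : ¬ D ≤ omegaZ p t.E := fun h => by
    have h1 := Subgroup.card_le_of_le h
    rw [c.card_W, c.card_D] at h1
    exact absurd h1 (not_le.2 (Nat.pow_lt_pow_right hp.out.one_lt (by norm_num)))
  obtain ⟨v, hv, hvW⟩ := SetLike.not_le_iff_exists.1 hnle
  refine ⟨v, hv, hvW, fun d hd => ?_⟩
  have h := Subgroup.relIndex_mul_relIndex (omegaZ p t.E) _ D le_sup_left
    (sup_le c.le (Subgroup.zpowers_le.2 hv))
  rw [relIndex_sup_zpowers (by rw [c.elem.2 v hv]; exact one_mem _) hvW, c.relIndex_W hG] at h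
  have h2 := Subgroup.relIndex_eq_one.1 (Nat.eq_of_mul_eq_mul_left hp.out.pos
    (h.trans (mul_one p).symm)) hd
  obtain ⟨w, hw, y, hy, hwy⟩ := Subgroup.mem_sup_of_normal_left.1 h2
  obtain ⟨i, hi⟩ := mem_powers_iff_mem_zpowers.2 hy
  simp only at hi
  exact ⟨w, hw, i, by rw [hi, hwy]⟩

omit hG in
theorem false_of_card_four (hrk : Rank3 p G) (hG : IsPGroup p G) {H : Subgroup G} (hH : Elem p H)
    (hlt : D < H) : False := by
  have h := (FusionRankTwo.mul_card_le_of_lt (hG.to_subgroup _) hlt).trans (hrk.card_le hH)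
  rw [c.card_D] at h
  exact absurd (le_of_le_of_eq h (one_mul _).symm) (not_le.2
    (Nat.mul_lt_mul_of_pos_right hp.out.one_lt (pow_pos hp.out.pos 3)))

include hp2 hrk in
/-- The larger subgroup is invariant under the second side. -/
theorem inv_right : ∀ γ ∈ t.A, Pres γ D := by
  set W := omegaZ p t.E with hWdef
  haveI hWn : W.Normal := omegaZ_normal t.normal
  have hDt : D ≤ t.E := c.le_inf.trans inf_le_right
  have hWc : ∀ w ∈ W, ∀ y ∈ t.E, y * w = w * y := fun w hw y hy => hw.2.2 y hy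
  obtain ⟨v, hv, hvW, hvdec⟩ := c.exists_v hG
  set T : Set G := {x | ∃ γ ∈ t.A, ∃ d : t.E, (d : G) ∈ D ∧ (γ d : G) = x} with hT
  have hTt : ∀ x ∈ T, x ∈ t.E := by
    rintro _ ⟨γ, -, d, -, rfl⟩
    exact (γ d).2
  have hTp : ∀ x ∈ T, x ^ p = 1 := by
    rintro _ ⟨γ, -, d, hd, rfl⟩
    rw [← Subgroup.coe_pow, ← map_pow, show d ^ p = 1 from Subtype.ext (c.elem.2 d hd), map_one]
    rfl
  have hTc : ∀ x ∈ T, ∀ y ∈ T, ⁅x, y⁆ ∈ W := by
    rintro _ ⟨γ, hγ, d, hd, rfl⟩ _ ⟨δ, hδ, d', hd', rfl⟩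
    have h1 : ((⁅(γ⁻¹ * δ) d', d⁆ : t.E) : G) ∈ W := c.comm_mem_W hG _ hd
    have h2 := pres_omegaZ (p := p) γ (⁅(γ⁻¹ * δ) d', d⁆⁻¹ : t.E) (W.inv_mem h1)
    have h3 : γ (⁅(γ⁻¹ * δ) d', d⁆⁻¹) = ⁅γ d, δ d'⁆ := by
      rw [comm_swap, map_commutatorElement, MulAut.mul_apply, MulAut.apply_inv_self]
    rw [h3] at h2
    exact h2
  have hDT : ∀ d ∈ D, d ∈ T := fun d hd => ⟨1, t.A.one_mem, ⟨d, hDt hd⟩, hd, rfl⟩
  -- elements of the orbit outside `D` do not commute with `v`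
  have hextra : ∀ y ∈ t.E, y ^ p = 1 → y ∉ D → Commute v y → False := by
    intro y hyt hyp hyD hvy
    refine c.false_of_card_four hrk hG (H := Subgroup.closure ((D : Set G) ∪ {y})) (elem_closure ?_ ?_)
      (SetLike.lt_iff_le_and_exists.2 ⟨fun x hx => Subgroup.subset_closure (Or.inl hx), y,
        Subgroup.subset_closure (Or.inr rfl), hyD⟩)
    · have hcy : ∀ d ∈ D, Commute d y := fun d hd => by
        obtain ⟨w, hw, i, rfl⟩ := hvdec d hd
        exact (show Commute w y from (hWc w hw y hyt).symm).mul_left (hvy.pow_left i)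
      rintro a (ha | rfl) b (hb | hb)
      · exact c.elem.1 a ha b hb
      · exact Set.mem_singleton_iff.1 hb ▸ (hcy a ha).eq
      · exact (hcy b hb).eq.symm
      · rw [Set.mem_singleton_iff.1 hb]
    · rintro a (ha | rfl)
      exacts [c.elem.2 a ha, hyp]
  intro γ₀ hγ₀ d₀ hd₀
  by_contra hv'D
  set v' : G := (γ₀ d₀ : G) with hv'def
  have hv'T : v' ∈ T := ⟨γ₀, hγ₀, d₀, hd₀, rfl⟩
  have hv't := hTt v' hv'T
  have hvT := hDT v hv
  have hvt := hDt hv
  set H := Subgroup.closure ((W : Set G) ∪ {v, v'}) with hHdef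
  have hHt : H ≤ t.E := (Subgroup.closure_le _).2 (by
    rintro x (hx | rfl | rfl)
    exacts [omegaZ_le hx, hvt, hv't])
  have hDH : D ≤ H := fun d hd => by
    obtain ⟨w, hw, i, rfl⟩ := hvdec d hd
    exact H.mul_mem (Subgroup.subset_closure (Or.inl hw))
      (H.pow_mem (Subgroup.subset_closure (Or.inr (Or.inl rfl))) i)
  set c₂ := ⁅v, v'⁆ with hc₂
  have hc₂W : c₂ ∈ W := hTc v hvT v' hv'T
  have hc₂1 : c₂ ≠ 1 := fun h => hextra v' hv't (hTp v' hv'T) hv'D
    (commutatorElement_eq_one_iff_mul_comm.1 h)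
  have hc₂card : Nat.card (Subgroup.zpowers c₂) = p :=
    (Nat.card_zpowers c₂).trans (orderOf_eq_prime hc₂W.2.1 hc₂1)
  by_cases hall : ∀ y ∈ T, y ∈ H
  · -- the commutator line is invariant
    set L := Subgroup.zpowers c₂
    have hLc : ∀ l ∈ L, ∀ y ∈ H, y * l = l * y := fun l hl y hy =>
      hWc l (Subgroup.zpowers_le.2 hc₂W hl) y (hHt hy)
    have hHc := comm_of_closure hLc (by
      rintro a (ha | rfl | rfl) b (hb | rfl | rfl)
      all_goals first
        | (rw [commutatorElement_eq_one_iff_mul_comm.2 (elem_omegaZ.1 _ ha _ hb)]; exact one_mem _)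
        | (rw [commutatorElement_eq_one_iff_mul_comm.2 (hWc _ ha _ hvt).symm]; exact one_mem _)
        | (rw [commutatorElement_eq_one_iff_mul_comm.2 (hWc _ ha _ hv't).symm]; exact one_mem _)
        | (rw [commutatorElement_eq_one_iff_mul_comm.2 (hWc _ hb _ hvt)]; exact one_mem _)
        | (rw [commutatorElement_eq_one_iff_mul_comm.2 (hWc _ hb _ hv't)]; exact one_mem _)
        | (rw [commutatorElement_self]; exact one_mem _)
        | exact Subgroup.mem_zpowers c₂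
        | (rw [← comm_swap]; exact L.inv_mem (Subgroup.mem_zpowers c₂)))
    refine c.no_line hG (Subgroup.zpowers_le.2 (omegaZ_le hc₂W)) hc₂card fun γ hγ y hy => ?_
    have hle : L ≤ ((L.subgroupOf t.E).comap γ.toMonoidHom).map t.E.subtype := by
      refine Subgroup.zpowers_le.2 ⟨⁅(⟨v, hvt⟩ : t.E), ⟨v', hv't⟩⁆, ?_, rfl⟩
      show ((γ ⁅(⟨v, hvt⟩ : t.E), ⟨v', hv't⟩⁆ : t.E) : G) ∈ L
      rw [map_commutatorElement]
      refine hHc _ (hall _ ⟨γ, hγ, ⟨v, hvt⟩, hv, rfl⟩) _ (hall _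
        ⟨γ * γ₀, t.A.mul_mem hγ hγ₀, d₀, hd₀, ?_⟩)
      rw [MulAut.mul_apply]
    obtain ⟨y', hy', hyy⟩ := hle hy
    obtain rfl : y' = y := Subtype.ext hyy
    exact hy'
  -- three independent conjugates
  push Not at hall
  obtain ⟨y, hyT, hyH⟩ := hall
  have hyt := hTt y hyT
  set c₃ := ⁅v, y⁆ with hc₃
  have hc₃W : c₃ ∈ W := hTc v hvT y hyT
  set c₁ := ⁅v', y⁆ with hc₁
  have hc₁W : c₁ ∈ W := hTc v' hv'T y hyT
  have hcen : ∀ (w : G) (hw : w ∈ W) (z : t.E), Commute ⟨w, omegaZ_le hw⟩ z :=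
    fun w hw z => Subtype.ext (hWc w hw z z.2).symm
  have hprod : ∀ a b : G, a ∈ t.E → b ∈ t.E → a ^ p = 1 → b ^ p = 1 → ⁅b, a⁆ ∈ W →
      (a * b) ^ p = 1 := by
    intro a b ha hb hap hbp hba
    exact congrArg Subtype.val (OddOrder.BG4.mul_pow_eq_one (x := (⟨a, ha⟩ : t.E)) (y := ⟨b, hb⟩)
      hp2 (fun z => hcen _ hba z) (Subtype.ext hap) (Subtype.ext hbp))
  have hpowp : ∀ {a : G} (n : ℕ), a ^ p = 1 → (a ^ n) ^ p = 1 := fun n h => by
    rw [← pow_mul, mul_comm, pow_mul, h, one_pow]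
  have hpowc : ∀ (a b : G) (n : ℕ), a ∈ t.E → ⁅b, a⁆ ∈ W → ⁅b, a ^ n⁆ = ⁅b, a⁆ ^ n := by
    intro a b n ha hba
    induction n with
    | zero => rw [pow_zero, pow_zero, commutatorElement_one_right]
    | succ n ih => rw [pow_succ, comm_mul_right, ih, hWc _ hba _ (t.E.pow_mem ha n),
        mul_inv_cancel_right, pow_succ]
  by_cases hc₃mem : c₃ ∈ Subgroup.zpowers c₂
  · obtain ⟨m, hm⟩ : c₃⁻¹ ∈ Submonoid.powers c₂ :=
      mem_powers_iff_mem_zpowers.2 (Subgroup.inv_mem _ hc₃mem)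
    simp only at hm
    have hc1' : ⁅v, y * v' ^ m⁆ = 1 := by
      rw [comm_mul_right, hpowc v' v m hv't hc₂W, hm, hWc _ (W.inv_mem hc₃W) y hyt,
        mul_inv_cancel_right, mul_inv_cancel]
    refine hextra _ (t.E.mul_mem hyt (t.E.pow_mem hv't m)) (hprod _ _ hyt (t.E.pow_mem hv't m)
      (hTp y hyT) (hpowp m (hTp v' hv'T)) ?_) (fun h => hyH ?_)
      (commutatorElement_eq_one_iff_mul_comm.1 hc1')
    · rw [← comm_swap, hpowc v' y m hv't (hTc y hyT v' hv'T)]
      exact W.inv_mem (W.pow_mem (hTc y hyT v' hv'T) m)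
    · exact (H.mul_mem_cancel_right (H.pow_mem (Subgroup.subset_closure (Or.inr (Or.inr rfl))) m)).1
        (hDH h)
  have hspan : ∀ w ∈ W, ∃ a b : ℕ, w = c₂ ^ a * c₃ ^ b := by
    set U := Subgroup.closure ({c₂, c₃} : Set G)
    have hU : U ≤ W := (Subgroup.closure_le _).2 (by rintro x (rfl | rfl) <;> assumption)
    have hlt : Subgroup.zpowers c₂ < U := SetLike.lt_iff_le_and_exists.2
      ⟨Subgroup.zpowers_le.2 (Subgroup.subset_closure (Or.inl rfl)), c₃,
        Subgroup.subset_closure (Or.inr rfl), hc₃mem⟩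
    have h1 := FusionRankTwo.mul_card_le_of_lt (hG.to_subgroup _) hlt
    rw [hc₂card] at h1
    have hUW : U = W := Subgroup.eq_of_le_of_card_ge hU (by rw [c.card_W, pow_two]; exact h1)
    intro w hw
    rw [← hUW] at hw
    have hcc : ∀ a ∈ ({c₂, c₃} : Set G), a ∈ W := by rintro a (rfl | rfl) <;> assumption
    induction hw using Subgroup.closure_induction with
    | mem x hx =>
      rcases hx with rfl | rfl
      exacts [⟨1, 0, by simp⟩, ⟨0, 1, by simp⟩]
    | one => exact ⟨0, 0, by simp⟩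
    | mul a b _ _ ha hb =>
      obtain ⟨a₁, a₂, rfl⟩ := ha
      obtain ⟨b₁, b₂, rfl⟩ := hb
      refine ⟨a₁ + b₁, a₂ + b₂, ?_⟩
      rw [pow_add, pow_add]
      exact Commute.mul_mul_mul_comm
        ((show Commute c₃ c₂ from elem_omegaZ.1 _ hc₃W _ hc₂W).pow_pow a₂ b₁) _ _
    | inv a _ ha =>
      obtain ⟨a₁, a₂, rfl⟩ := ha
      refine ⟨a₁ * (p - 1), a₂ * (p - 1), ?_⟩
      have hi : ∀ z : G, z ^ p = 1 → ∀ n : ℕ, z ^ (n * (p - 1)) = (z ^ n)⁻¹ := fun z hz n => by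
        refine eq_inv_of_mul_eq_one_left ?_
        rw [← pow_add, ← Nat.mul_succ, Nat.succ_eq_add_one, Nat.sub_add_cancel hp.out.one_le,
          mul_comm, pow_mul, hz, one_pow]
      rw [hi c₂ hc₂W.2.1, hi c₃ hc₃W.2.1, mul_inv_rev]
      exact (((show Commute c₂ c₃ from elem_omegaZ.1 _ hc₂W _ hc₃W).pow_pow a₁ a₂).inv_inv).eq.symm
  obtain ⟨a, b, hab⟩ := hspan c₁ hc₁W
  -- `v' v^n` and `y v^a` commute
  set n := b * (p - 1) with hndef
  have hn : c₃ ^ n * c₃ ^ b = 1 := by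
    have h1 : b * (p - 1) + b = b * p := by
      rw [← Nat.mul_succ, Nat.succ_eq_add_one, Nat.sub_add_cancel hp.out.one_le]
    rw [hndef, ← pow_add, h1, mul_comm, pow_mul, hc₃W.2.1, one_pow]
  have hWcomm : ∀ w ∈ W, ∀ w' ∈ W, w * w' = w' * w := fun w hw w' hw' => elem_omegaZ.1 w hw w' hw'
  set y₁ := v' * v ^ n with hy₁
  set z := y * v ^ a with hz
  have hy₁t : y₁ ∈ t.E := t.E.mul_mem hv't (t.E.pow_mem hvt n)
  have hzt : z ∈ t.E := t.E.mul_mem hyt (t.E.pow_mem hvt a)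
  have hy₁z : ⁅y₁, z⁆ = 1 := by
    have hc₂' : ⁅v', v⁆ = c₂⁻¹ := (comm_swap v v').symm
    have hc₃' : ⁅y, v⁆ = c₃⁻¹ := (comm_swap v y).symm
    have e1 : ⁅v', z⁆ = c₁ * (c₂ ^ a)⁻¹ := by
      rw [hz, comm_mul_right, hpowc v v' a hvt (by rw [hc₂']; exact W.inv_mem hc₂W), hc₂', inv_pow,
        hWc _ (W.inv_mem (W.pow_mem hc₂W a)) y hyt, mul_inv_cancel_right]
    have e2 : ⁅v ^ n, z⁆ = c₃ ^ n := by
      rw [hz, comm_mul_right, commutatorElement_eq_one_iff_mul_comm.2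
        ((Commute.refl v).pow_pow n a).eq, mul_one, mul_inv_cancel, mul_one, ← comm_swap,
        hpowc v y n hvt (by rw [hc₃']; exact W.inv_mem hc₃W), hc₃', inv_pow, inv_inv]
    rw [hy₁, comm_mul_left, e1, e2, hWc _ (W.pow_mem hc₃W n) v' hv't, mul_inv_cancel_right, hab,
      hWcomm _ (W.pow_mem hc₂W a) _ (W.pow_mem hc₃W b), mul_inv_cancel_right]
    exact hn
  have hy₁p : y₁ ^ p = 1 := hprod _ _ hv't (t.E.pow_mem hvt n) (hTp v' hv'T)
    (hpowp n (hTp v hvT)) (by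
      rw [← comm_swap, hpowc v v' n hvt (hTc v' hv'T v hvT)]
      exact W.inv_mem (W.pow_mem (hTc v' hv'T v hvT) n))
  have hzp : z ^ p = 1 := hprod _ _ hyt (t.E.pow_mem hvt a) (hTp y hyT)
    (hpowp a (hTp v hvT)) (by
      rw [← comm_swap, hpowc v y a hvt (hTc y hyT v hvT)]
      exact W.inv_mem (W.pow_mem (hTc y hyT v hvT) a))
  have hy₁H : y₁ ∈ H := H.mul_mem (Subgroup.subset_closure (Or.inr (Or.inr rfl)))
    (H.pow_mem (Subgroup.subset_closure (Or.inr (Or.inl rfl))) n)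
  have hy₁W : y₁ ∉ W := fun h => hv'D
    ((D.mul_mem_cancel_right (D.pow_mem hv n)).1 (c.le h))
  have hzH : z ∉ H := fun h => hyH
    ((H.mul_mem_cancel_right (H.pow_mem (Subgroup.subset_closure (Or.inr (Or.inl rfl))) a)).1 h)
  have hW₂ : Elem p (Subgroup.closure ((W : Set G) ∪ {y₁, z})) := elem_closure (by
    have h1 : ∀ w ∈ W, ∀ u ∈ t.E, w * u = u * w := fun w hw u hu => (hWc w hw u hu).symm
    rintro x (hx | rfl | rfl) x' (hx' | rfl | rfl)
    all_goals first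
      | exact hWcomm _ hx _ hx'
      | exact h1 _ hx _ hy₁t
      | exact h1 _ hx _ hzt
      | exact (h1 _ hx' _ hy₁t).symm
      | exact (h1 _ hx' _ hzt).symm
      | rfl
      | exact commutatorElement_eq_one_iff_mul_comm.1 hy₁z
      | exact (commutatorElement_eq_one_iff_mul_comm.1 hy₁z).symm) (by
    rintro x (hx | rfl | rfl)
    exacts [hx.2.1, hy₁p, hzp])
  have hlt1 : W < Subgroup.closure ((W : Set G) ∪ {y₁}) := SetLike.lt_iff_le_and_exists.2
    ⟨fun x hx => Subgroup.subset_closure (Or.inl hx), y₁, Subgroup.subset_closure (Or.inr rfl), hy₁W⟩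
  have hlt2 : Subgroup.closure ((W : Set G) ∪ {y₁}) < Subgroup.closure ((W : Set G) ∪ {y₁, z}) := by
    refine SetLike.lt_iff_le_and_exists.2 ⟨Subgroup.closure_mono (Set.union_subset_union_right _
      (Set.singleton_subset_iff.2 (Set.mem_insert _ _))), z,
      Subgroup.subset_closure (Or.inr (Or.inr rfl)), fun h => hzH ?_⟩
    refine (Subgroup.closure_le H).2 ?_ h
    rintro x (hx | rfl)
    exacts [Subgroup.subset_closure (Or.inl hx), hy₁H]
  have h1 := (FusionRankTwo.mul_card_le_of_lt (hG.to_subgroup _) hlt2).trans (hrk.card_le hW₂)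
  have h2 := (Nat.mul_le_mul_left p (FusionRankTwo.mul_card_le_of_lt (hG.to_subgroup _) hlt1)).trans h1
  rw [c.card_W] at h2
  nlinarith [hp.out.one_lt, pow_pos hp.out.pos 3]

end Plane

namespace Plane

variable [Finite G] [hp : Fact p.Prime] {s t : Side p B} {D : Subgroup G} (c : Plane s t D)
  (hG : IsPGroup p G) (hp2 : p ≠ 2) (hrk : Rank3 p G) (hne : s.E ≠ t.E)

include c hG

include hp2 hrk hne in
/-- The centralizer of the larger subgroup. -/
theorem exists_centralizer :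
    ∃ C : Subgroup G, D ≤ C ∧ C ≤ s.E ⊓ t.E ∧ (∀ γ ∈ s.A, Pres γ C) ∧ (∀ γ ∈ t.A, Pres γ C) ∧
      C.relIndex s.E = p ^ 2 ∧ C.relIndex (s.E ⊓ t.E) = p ∧
      (∀ g, (g ∈ C ↔ ∀ d ∈ D, g * d = d * g)) ∧
      ∀ e ∈ s.E, ∀ d ∈ D, ⁅e, d⁆ ∈ omegaZ p (⊤ : Subgroup G) := by
  set W := omegaZ p t.E with hWdef
  set Z := omegaZ p (⊤ : Subgroup G) with hZdef
  haveI hWn : W.Normal := omegaZ_normal t.normal
  haveI hZn : Z.Normal := omegaZ_normal Subgroup.normal_top
  have hDn : D.Normal := s.normal_of_inv c.le_E c.inv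
  have hDt : D ≤ t.E := c.le_inf.trans inf_le_right
  have hDinv := c.inv_right hG hp2 hrk
  have hZW : Z ≤ W := t.omegaTop_le
  have hWs : W ≤ s.E := c.le.trans c.le_E
  have hncW : ∀ g, g ∉ t.E → ¬ ∀ w ∈ W, g * w = w * g := fun g hg h =>
    c.not_central fun w hw => ⟨Subgroup.mem_top w, hw.2.1, fun y _ => by
      obtain ⟨n, e, he, rfl⟩ := t.exists_pow_mul hg y
      exact ((show Commute g w from h w hw).pow_left n).mul_left (hw.2.2 e he)⟩
  have hZpres : ∀ γ ∈ s.A, Pres γ Z :=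
    s.pres_of_central hG c.central le_rfl fun β _ y hy => omegaTop_map hy
  have hsD : ∀ e ∈ s.E, ∀ d ∈ D, ⁅e, d⁆ ∈ Z := by
    set D₀ := D ⊓ commInto Z s.E
    have hWD₀ : W ≤ D₀ := fun w hw => ⟨c.le hw, fun e _ => by
      rw [← comm_swap]
      exact Z.inv_mem (comm_mem_of_relIndex hG hZn hWn (c.relIndex_Z hG).le e hw)⟩
    have hD₀inv : ∀ γ ∈ s.A, Pres γ D₀ := fun γ hγ x hx => ⟨c.inv γ hγ x hx.1, fun e he => by
      obtain ⟨e', he'⟩ := γ.surjective ⟨e, he⟩
      have h1 := hZpres γ hγ ⁅x, e'⁆ (hx.2 e' e'.2)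
      rw [map_commutatorElement, he'] at h1
      exact h1⟩
    intro e he d hd
    suffices hle : D ≤ D₀ by
      rw [← comm_swap]
      exact Z.inv_mem ((hle hd).2 e he)
    by_contra hle
    have hlt : D₀ < D := lt_of_le_not_ge inf_le_left hle
    have h1 := FusionRankTwo.mul_card_le_of_lt (hG.to_subgroup _) hlt
    rw [c.card_D, pow_succ' p 2] at h1
    have h2 : W = D₀ := Subgroup.eq_of_le_of_card_ge hWD₀
      (by rw [c.card_W]; exact Nat.le_of_mul_le_mul_left h1 hp.out.pos)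
    exact s.false_of_centralized t hG hp2 hrk hne c.not_central (D := D₀) hWD₀
      (inf_le_left.trans c.le_E) hD₀inv fun x hx y hy => (h2 ▸ hy : y ∈ W).2.2 x hx.2
  set C := Subgroup.centralizer (D : Set G) with hCdef
  have hmemC : ∀ g, (g ∈ C ↔ ∀ d ∈ D, g * d = d * g) := fun g => by
    rw [hCdef, Subgroup.mem_centralizer_iff]
    exact ⟨fun h d hd => (h d hd).symm, fun h d hd => (h d hd).symm⟩
  have hCt : C ≤ t.E := fun g hg => by
    by_contra hgt
    exact hncW g hgt fun w hw => (hmemC g).1 hg w (c.le hw)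
  have hCs : C ≤ s.E := fun g hg => by
    by_contra hgs
    have := s.finite_aut
    let L : Subgroup (MulAut s.E) := s.A ⊓ secStab Z D
    have hcj : s.cj.range ≤ L := by
      rintro _ ⟨h, rfl⟩
      refine ⟨s.cj_mem h, s.pres_cj hZn h, s.pres_cj hDn h, fun x hx => ?_⟩
      have h1 : ⁅h, (x : G)⁆ ∈ Z := by
        obtain ⟨n, e, he, rfl⟩ := s.exists_pow_mul hgs h
        rw [comm_mul_left]
        refine Z.mul_mem (hZn.conj_mem _ (hsD e he x hx) _) ?_
        rw [commutatorElement_eq_one_iff_mul_comm.2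
          ((show Commute g x from (hmemC g).1 hg x hx).pow_left n).eq]
        exact one_mem _
      rw [s.cj_apply, conj_eq_comm_mul]
      have h2 := hZn.conj_mem _ h1 (x : G)⁻¹
      simpa [mul_assoc] using h2
    refine s.false_of_centralized t hG hp2 hrk hne c.not_central (D := W) le_rfl hWs ?_
      fun e he w hw => hw.2.2 e he.2
    intro α hα x hx
    refine s.apply_mem_of_trivial hG L inf_le_left hcj ?_ ?_
      (fun β hβ w hw => t.apply_mem_of_inv omegaZ_le (fun γ _ => pres_omegaZ γ) hβ hw) hα hx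
    · intro γ hγ l hl
      refine ⟨s.A.mul_mem (s.A.mul_mem hγ hl.1) (s.A.inv_mem hγ), ?_, ?_, fun y hy => ?_⟩
      · exact fun y hy => hZpres _ (s.A.mul_mem (s.A.mul_mem hγ hl.1) (s.A.inv_mem hγ)) y hy
      · exact fun y hy => c.inv _ (s.A.mul_mem (s.A.mul_mem hγ hl.1) (s.A.inv_mem hγ)) y hy
      · obtain ⟨y, rfl⟩ := γ.surjective y
        have hy' : (y : G) ∈ D := by
          have := c.inv γ⁻¹ (s.A.inv_mem hγ) (γ y) hy
          rwa [MulAut.inv_apply_self] at this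
        have h2 := hZpres γ hγ (y⁻¹ * l y) (hl.2.2.2 y hy')
        rw [map_mul, map_inv] at h2
        rw [MulAut.mul_apply, MulAut.mul_apply, MulAut.inv_apply_self]
        exact h2
    · intro l hl y hy
      simpa using W.mul_mem hy (hZW (hl.2.2.2 y (c.le hy)))
  have hCinv : ∀ (r : Side p B), D ≤ r.E → (∀ γ ∈ r.A, Pres γ D) → C ≤ r.E →
      ∀ γ ∈ r.A, Pres γ C := by
    intro r hDr hr hCr γ hγ x hx
    refine (hmemC _).2 fun d hd => ?_
    obtain ⟨d', hd'⟩ := γ.surjective ⟨d, hDr hd⟩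
    have h1 : (d' : G) ∈ D := by
      have := hr γ⁻¹ (r.A.inv_mem hγ) ⟨d, hDr hd⟩ hd
      rwa [← hd', MulAut.inv_apply_self] at this
    have h2 : Commute x d' := Subtype.ext ((hmemC _).1 hx _ h1)
    have h3 := congrArg Subtype.val (h2.map γ.toMonoidHom).eq
    simp only [MulEquiv.toMonoidHom_eq_coe, MonoidHom.coe_coe, hd'] at h3
    exact h3
  -- the image of commutation with `v` is the whole plane
  obtain ⟨v, hv, hvW, hvdec⟩ := c.exists_v hG
  let f : t.E →* G :=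
    { toFun := fun e => ⁅(e : G), v⁆
      map_one' := by simp
      map_mul' := fun a b => by
        have hb : ⁅(b : G), v⁆ ∈ W := c.comm_mem_W hG _ hv
        rw [Subgroup.coe_mul, comm_mul_left, hb.2.2 a a.2, mul_inv_cancel_right]
        exact elem_omegaZ.1 _ hb _ (c.comm_mem_W hG _ hv) }
  have hfker : f.ker = C.subgroupOf t.E := by
    ext e
    rw [MonoidHom.mem_ker, Subgroup.mem_subgroupOf, hmemC]
    constructor
    · intro h d hd
      obtain ⟨w, hw, i, rfl⟩ := hvdec d hd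
      exact ((show Commute (e : G) w from hw.2.2 e e.2).mul_right
        ((show Commute (e : G) v from commutatorElement_eq_one_iff_mul_comm.1 h).pow_right i)).eq
    · exact fun h => commutatorElement_eq_one_iff_mul_comm.2 (h v hv)
  have hRW : f.range ≤ W := by
    rintro _ ⟨e, rfl⟩
    exact c.comm_mem_W hG _ hv
  have hRinv : ∀ γ ∈ t.A, Pres γ f.range := by
    rintro γ hγ x ⟨e, he⟩
    obtain ⟨w, hw, i, hwi⟩ := hvdec _ (hDinv γ hγ ⟨v, hDt hv⟩ hv)
    have hx : x = ⁅e, (⟨v, hDt hv⟩ : t.E)⁆ := Subtype.ext he.symm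
    rw [hx, map_commutatorElement]
    show ⁅(γ e : G), (γ ⟨v, hDt hv⟩ : G)⁆ ∈ f.range
    rw [hwi, comm_mul_right, commutatorElement_eq_one_iff_mul_comm.2 (hw.2.2 _ (γ e).2), one_mul]
    have h1 : ⁅(γ e : G), v ^ i⁆ = f (γ e) ^ i := by
      clear hwi
      induction i with
      | zero => rw [pow_zero, pow_zero, commutatorElement_one_right]
      | succ i ih =>
        have h2 : ⁅(γ e : G), v⁆ ∈ W := c.comm_mem_W hG _ hv
        rw [pow_succ, comm_mul_right, ih, h2.2.2 _ (t.E.pow_mem (hDt hv) i), mul_inv_cancel_right,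
          pow_succ]
        rfl
    rw [h1]
    have h3 : f (γ e) ^ i ∈ W := W.pow_mem (hRW ⟨_, rfl⟩) i
    rw [h3.2.2 w (omegaZ_le hw), mul_inv_cancel_right]
    exact Subgroup.pow_mem _ (⟨_, rfl⟩ : f (γ e) ∈ f.range) i
  have hCidx : C.relIndex t.E = p ^ 2 := by
    rw [Subgroup.relIndex, ← hfker, Subgroup.index_ker]
    have h1 := Subgroup.card_le_of_le hRW
    rw [c.card_W] at h1
    obtain ⟨k, hk⟩ := IsPGroup.iff_card.1 (hG.to_subgroup f.range)
    rw [hk] at h1 ⊢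
    have hk2 := (Nat.pow_le_pow_iff_right hp.out.one_lt).1 h1
    interval_cases k
    · exfalso
      have hbot : f.range = ⊥ := Subgroup.card_eq_one.1 (by rw [hk, pow_zero])
      obtain ⟨u, hut, hus⟩ := t.exists_mem_not_mem s hne.symm
      refine hus (hCs ?_)
      have : (⟨u, hut⟩ : t.E) ∈ f.ker := by
        rw [MonoidHom.mem_ker, ← Subgroup.mem_bot, ← hbot]
        exact ⟨_, rfl⟩
      rw [hfker] at this
      exact this
    · exact (c.no_line hG (hRW.trans omegaZ_le) (by rw [hk, pow_one]) hRinv).elim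
    · rfl
  have hidx12 : C.relIndex (s.E ⊓ t.E) = p := by
    have h1 : (s.E ⊓ t.E).relIndex t.E = p := by rw [inf_comm]; exact t.relIndex_inf s hG hne.symm
    have h2 := Subgroup.relIndex_mul_relIndex C _ t.E (_root_.le_inf hCs hCt) inf_le_right
    rw [h1, hCidx, pow_two] at h2
    exact Nat.eq_of_mul_eq_mul_right hp.out.pos h2
  refine ⟨C, fun d hd => (hmemC d).2 fun d' hd' => c.elem.1 d hd d' hd', _root_.le_inf hCs hCt,
    hCinv s c.le_E c.inv hCs, hCinv t hDt hDinv hCt, ?_, hidx12, hmemC, hsD⟩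
  rw [← Subgroup.relIndex_mul_relIndex C _ s.E (_root_.le_inf hCs hCt) inf_le_left, hidx12,
    s.relIndex_inf t hG hne, pow_two]

include hp2 hrk hne in
/-- A cyclic centralizer modulo the larger subgroup is impossible. -/
theorem false_of_cyclic (h : ∀ C : Subgroup G, D ≤ C → C ≤ s.E ⊓ t.E →
    (∀ γ ∈ s.A, Pres γ C) → (∀ γ ∈ t.A, Pres γ C) → C.relIndex s.E = p ^ 2 →
    C.relIndex (s.E ⊓ t.E) = p → ∃ k ∈ C, C ≤ D ⊔ Subgroup.zpowers k) : False := by
  obtain ⟨C, hDC, hCE, hCs, hCt, hCidx, hC12, hmemC, hsD⟩ := c.exists_centralizer hG hp2 hrk hne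
  obtain ⟨k, hk, hCk⟩ := h C hDC hCE hCs hCt hCidx hC12
  set Z := omegaZ p (⊤ : Subgroup G) with hZdef
  haveI hZn : Z.Normal := omegaZ_normal Subgroup.normal_top
  haveI hDn : D.Normal := s.normal_of_inv c.le_E c.inv
  have hkt : k ∈ t.E := (hCE hk).2
  have hkD : ∀ d ∈ D, Commute k d := fun d hd => (hmemC k).1 hk d hd
  have hform : ∀ x ∈ C, ∃ d ∈ D, ∃ i : ℕ, x = d * k ^ i := by
    intro x hx
    obtain ⟨d, hd, y, hy, hxy⟩ := Subgroup.mem_sup_of_normal_left.1 (hCk hx)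
    obtain ⟨i, hi⟩ := mem_powers_iff_mem_zpowers.2 hy
    simp only at hi
    exact ⟨d, hd, i, by rw [hi, hxy]⟩
  -- the element `k` has order at most `p`
  have hkp : k ^ p = 1 := by
    obtain ⟨m, hm⟩ := IsPGroup.iff_orderOf.1 hG k
    by_contra hne1
    have hm2 : 2 ≤ m := by
      by_contra hlt
      refine hne1 (orderOf_dvd_iff_pow_eq_one.1 ?_)
      rw [hm]
      exact (pow_dvd_pow p (show m ≤ 1 by omega)).trans (pow_one p).dvd
    set q := p ^ (m - 1) with hqdef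
    have hq : p ∣ q := dvd_pow_self p (by omega)
    have hkq : orderOf (k ^ q) = p := by
      have hmq : p ^ m = p * q := by rw [hqdef, ← pow_succ']; congr 1; omega
      rw [orderOf_pow, hm, hmq, Nat.gcd_mul_left_left, Nat.mul_div_cancel _ (pow_pos hp.out.pos _)]
    refine c.no_line hG (L := Subgroup.zpowers (k ^ q)) (Subgroup.zpowers_le.2 (t.E.pow_mem hkt q))
      (by rw [Nat.card_zpowers, hkq]) fun γ hγ y hy => ?_
    obtain ⟨i, hi⟩ := hy
    simp only at hi
    obtain ⟨d, hd, j, hdj⟩ := hform _ (hCt γ hγ ⟨k, hkt⟩ hk)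
    have hy' : y = ((⟨k, hkt⟩ : t.E) ^ q) ^ i := Subtype.ext (by
      rw [Subgroup.coe_zpow, Subgroup.coe_pow]; exact hi.symm)
    rw [hy', map_zpow, map_pow, Subgroup.coe_zpow, Subgroup.coe_pow, hdj,
      ((hkD d hd).symm.pow_right j).mul_pow]
    obtain ⟨q', hq'⟩ := hq
    rw [show d ^ q = 1 by rw [hq', pow_mul, c.elem.2 d hd, one_pow], one_mul, ← pow_mul, mul_comm,
      pow_mul]
    exact Subgroup.zpow_mem _ (Subgroup.pow_mem _ (Subgroup.mem_zpowers _) j) i
  have hCD : C ≤ D := by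
    have hel : Elem p (Subgroup.closure ((D : Set G) ∪ {k})) := elem_closure (by
      rintro a (ha | rfl) b (hb | hb)
      · exact c.elem.1 a ha b hb
      · exact Set.mem_singleton_iff.1 hb ▸ (hkD a ha).eq.symm
      · exact (hkD b hb).eq
      · rw [Set.mem_singleton_iff.1 hb]) (by
      rintro a (ha | rfl)
      exacts [c.elem.2 a ha, hkp])
    have hkD' : k ∈ D := by
      by_contra hk'
      exact c.false_of_card_four hrk hG hel (SetLike.lt_iff_le_and_exists.2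
        ⟨fun x hx => Subgroup.subset_closure (Or.inl hx), k, Subgroup.subset_closure (Or.inr rfl), hk'⟩)
    exact hCk.trans (sup_le le_rfl (Subgroup.zpowers_le.2 hkD'))
  obtain rfl : C = D := le_antisymm hCD hDC
  -- the quotient of the first side is elementary
  haveI hE12n : (s.E ⊓ t.E).Normal := s.inf_normal t
  obtain ⟨x, hx, hxt⟩ := s.exists_mem_not_mem t hne
  have hcommC : ∀ a ∈ s.E, ∀ b ∈ s.E, ⁅a, b⁆ ∈ C := by
    have h1 : ∀ g, ∀ d ∈ s.E ⊓ t.E, ⁅g, d⁆ ∈ C := fun g d hd =>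
      comm_mem_of_relIndex hG hDn hE12n hC12.le g hd
    have h2 : ∀ b ∈ s.E, ⁅x, b⁆ ∈ C := by
      intro b hb
      obtain ⟨n, d, hd, rfl⟩ := s.exists_form t hx hxt hb
      exact ((dC x C s.E).mul_mem ((dC x C s.E).pow_mem ⟨hx, by
        rw [commutatorElement_self]; exact one_mem _⟩ n) ⟨hd.1, h1 x d hd⟩).2
    intro a ha
    obtain ⟨n, d, hd, rfl⟩ := s.exists_form t hx hxt ha
    exact (commInto C s.E).mul_mem ((commInto C s.E).pow_mem (show x ∈ commInto C s.E from h2) n)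
      fun b _ => by rw [← comm_swap]; exact C.inv_mem (h1 b d hd)
  have hpowC : ∀ a ∈ s.E, a ^ p ∈ C := by
    by_contra hall
    push Not at hall
    obtain ⟨e, he, hep⟩ := hall
    have heD : e ^ p ∈ s.E ⊓ t.E := s.pow_mem_inf t hG e
    have hle : s.E ⊓ t.E ≤ C ⊔ Subgroup.zpowers (e ^ p) := by
      have h := Subgroup.relIndex_mul_relIndex C _ (s.E ⊓ t.E) le_sup_left
        (sup_le hCE (Subgroup.zpowers_le.2 heD))
      rw [relIndex_sup_zpowers (M := C) (y := e ^ p) (by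
        by_contra hpp
        have h3 : ¬ (C ⊔ Subgroup.zpowers (e ^ p)) ≤ C := fun h => hep
          (h (Subgroup.mem_sup_right (Subgroup.mem_zpowers _)))
        have h4 := le_relIndex_of_lt hG h3
        have h5 := comm_mem_of_relIndex hG hDn hE12n hC12.le
        have h6 : (e ^ p) ^ p ∈ C := by
          have h7 : (e ^ p) ^ C.relIndex (s.E ⊓ t.E) ∈ C := by
            haveI : (C.subgroupOf (s.E ⊓ t.E)).Normal := hDn.subgroupOf _
            have h8 : ((⟨e ^ p, heD⟩ : ↥(s.E ⊓ t.E)) ^ (C.subgroupOf (s.E ⊓ t.E)).index) ∈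
              C.subgroupOf (s.E ⊓ t.E) := Subgroup.pow_index_mem _ _
            exact h8
          rwa [hC12] at h7
        exact hpp h6) hep, hC12] at h
      exact Subgroup.relIndex_eq_one.1 (Nat.eq_of_mul_eq_mul_left hp.out.pos
        (h.trans (mul_one p).symm))
    refine s.not_inv t hG hp2 hrk hne fun α hα y hy => ?_
    obtain ⟨d, hd, z, ⟨i, rfl⟩, hyz⟩ := Subgroup.mem_sup_of_normal_left.1 (hle hy)
    have hy' : y = (⟨d, (hCE hd).1⟩ : s.E) * ((⟨e, he⟩ : s.E) ^ p) ^ i := Subtype.ext hyz.symm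
    rw [hy', map_mul, map_zpow, map_pow]
    exact (s.E ⊓ t.E).mul_mem (hCE (hCs α hα ⟨d, (hCE hd).1⟩ hd))
      ((s.E ⊓ t.E).zpow_mem (s.pow_mem_inf t hG _) i)
  -- the pairing with the plane
  have hZs : Z ≤ C := t.omegaTop_le.trans c.le
  have hZidx : Z.relIndex C = p ^ 2 := by
    rw [← Subgroup.relIndex_mul_relIndex Z (omegaZ p t.E) C t.omegaTop_le c.le, c.relIndex_Z hG,
      c.relIndex_W hG, pow_two]
  have hZpres : ∀ γ ∈ s.A, Pres γ Z :=
    s.pres_of_central hG c.central le_rfl fun β _ y hy => omegaTop_map hy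
  obtain ⟨u, hut, hus⟩ := t.exists_mem_not_mem s hne.symm
  obtain ⟨α, hα, hnp⟩ := s.exists_pair hG hus
  have hfixZ : ∀ γ ∈ s.pair u α, (orderOf γ).Coprime p → ∀ y : s.E, (y : G) ∈ Z → γ y = y :=
    fun γ hγ hco => fix_of_triv_bot hG hco (s.pair_triv_of_index hG hus Subgroup.normal_bot hZn
      (hZs.trans c.le_E) bot_le (by rw [Subgroup.relIndex_bot_left, c.card_Z])
      (fun y hy => by rw [show y = 1 from Subtype.ext (Subgroup.mem_bot.1 hy), map_one]; exact one_mem _)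
      (s.pres_conj_of_inv hZpres hα) γ hγ)
  obtain ⟨β, hβ, γ, hγ, hβγ, ⟨a, ha⟩, -, hβD⟩ := s.exists_inverting hG hp2 c.le_E hZs hZidx
    (fun x hx y hy => by rw [commutatorElement_eq_one_iff_mul_comm.2 (c.elem.1 x hx y hy)]; exact one_mem _)
    (fun x hx => by rw [c.elem.2 x hx]; exact one_mem _)
    hsD hus hα (fun δ hδ => hZpres δ (s.pair_le_A hα hδ))
    (fun δ hδ => c.inv δ (s.pair_le_A hα hδ)) (fun hall => s.not_all_fixed hnp fun δ hδ hco => by
      have hfixD := fix_step hG hco (hfixZ δ hδ hco) (hall δ hδ hco)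
      refine fix_step hG hco hfixD fun e he => (hmemC _).2 fun d hd => ?_
      have h1 : δ ⁅e, (⟨d, c.le_E hd⟩ : s.E)⁆ = ⁅e, (⟨d, c.le_E hd⟩ : s.E)⁆ :=
        hfixZ δ hδ hco _ (hsD _ e.2 d hd)
      rw [map_commutatorElement, hfixD ⟨d, c.le_E hd⟩ hd] at h1
      have h2 : ⁅(δ e : G), d⁆ = ⁅(e : G), d⁆ := congrArg Subtype.val h1
      rw [show (δ e : G) = e * ((e : G)⁻¹ * δ e) from (mul_inv_cancel_left _ _).symm, comm_mul_left,
        mul_eq_right, mul_inv_eq_one, mul_eq_left] at h2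
      exact commutatorElement_eq_one_iff_mul_comm.1 h2)
  have hβZ : ∀ z ∈ Z, β z = z := fun z hz => by
    rw [hβγ ⟨z, c.le_E (hZs hz)⟩, hfixZ γ hγ (coprime_of_restr hG hp2 ha hβγ) _ hz]
  have hβinv : ∀ e ∈ s.E, e * β e ∈ C := by
    intro e he
    refine (hmemC _).2 fun d hd => commutatorElement_eq_one_iff_mul_comm.1 ?_
    have hd' := hβD d hd
    have hβe := s.stable β hβ e he
    have h1 : ⁅β e, β d⁆ = ⁅e, d⁆ := by
      rw [← map_commutatorElement]; exact hβZ _ (hsD e he d hd)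
    rw [show β d = d⁻¹ * (d * β d) from (inv_mul_cancel_left _ _).symm, comm_mul_right,
      commutatorElement_eq_one_iff_mul_comm.2 (hd'.2.2 (β e) (Subgroup.mem_top _)), mul_one,
      mul_inv_cancel, mul_one] at h1
    have hz : ⁅β e, d⁆ ∈ Z := hsD _ hβe d hd
    have h2 : ⁅β e, d⁻¹⁆ = ⁅β e, d⁆⁻¹ := by
      have h3 : ⁅β e, d⁻¹⁆ = d⁻¹ * ⁅β e, d⁆⁻¹ * d := by
        simp only [commutatorElement_def]; group
      rw [h3, (Z.inv_mem hz).2.2 d⁻¹ (Subgroup.mem_top _), inv_mul_cancel_right]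
    rw [comm_mul_left, hz.2.2 e (Subgroup.mem_top e), mul_inv_cancel_right, ← h1, h2, mul_inv_cancel]
  have hcommZ : ∀ a ∈ s.E, ∀ b ∈ s.E, ⁅a, b⁆ ∈ Z := by
    intro a ha b hb
    set π := QuotientGroup.mk' Z
    have hf := hcommC a ha b hb
    refine mem_of_fixed_inverted hG hp2 (v := β ⁅a, b⁆) ?_ (hβD _ hf)
    refine QuotientGroup.eq.1 ?_
    show π ⁅a, b⁆ = π (β ⁅a, b⁆)
    have hc : ∀ d ∈ C, ∀ e ∈ s.E, Commute (π e) (π d) := fun d hd e he =>
      commutatorElement_eq_one_iff_mul_comm.1 (by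
        rw [← map_commutatorElement]; exact (QuotientGroup.eq_one_iff _).2 (hsD e he d hd))
    obtain ⟨d, hd, hβa⟩ : ∃ d ∈ C, β a = a⁻¹ * d :=
      ⟨_, hβinv a ha, (inv_mul_cancel_left _ _).symm⟩
    obtain ⟨d', hd', hβb⟩ : ∃ d' ∈ C, β b = b⁻¹ * d' :=
      ⟨_, hβinv b hb, (inv_mul_cancel_left _ _).symm⟩
    have h1 : π (β ⁅a, b⁆) = π ⁅a⁻¹, b⁻¹⁆ := by
      rw [map_commutatorElement, map_commutatorElement, hβa, hβb, map_mul π a⁻¹ d, map_mul π b⁻¹ d',
        comm_mul_central (hc d' hd' _ (s.E.inv_mem ha)) (hc d hd _ (s.E.inv_mem hb)).symm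
          (hc d' hd' d (c.le_E hd))]
      exact (map_commutatorElement π _ _).symm
    rw [h1]
    have hfa : Commute (π ⁅a, b⁆) (π (b * a)) := (hc _ hf _ (s.E.mul_mem hb ha)).symm
    have h2 : ⁅a⁻¹, b⁻¹⁆ = (b * a)⁻¹ * ⁅a, b⁆ * (b * a) := by
      simp only [commutatorElement_def]; group
    rw [h2, map_mul, map_mul, map_inv, mul_assoc, hfa.eq, inv_mul_cancel_left]
  have hpowZ : ∀ e ∈ s.E, e ^ p ∈ Z := by
    intro e he
    refine c.central ⟨s.E.pow_mem he p, c.elem.2 _ (hpowC e he), fun e' he' => ?_⟩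
    refine (commutatorElement_eq_one_iff_mul_comm.1 ?_).symm
    have hpow : ∀ n : ℕ, ⁅e ^ n, e'⁆ = ⁅e, e'⁆ ^ n := by
      intro n
      induction n with
      | zero => rw [pow_zero, pow_zero, commutatorElement_one_left]
      | succ n ih =>
        rw [pow_succ', comm_mul_left, ih,
          ((Z.pow_mem (hcommZ e he e' he') n).2.2 e (Subgroup.mem_top e)), mul_inv_cancel_right,
          pow_succ]
    rw [hpow p, (hcommZ e he e' he').2.1]
  have h4 := hrk Z s.E (hZs.trans c.le_E) hcommZ hpowZ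
  rw [← Subgroup.relIndex_mul_relIndex Z C s.E hZs c.le_E, hZidx, hCidx, ← pow_add] at h4
  exact absurd ((Nat.pow_le_pow_iff_right hp.out.one_lt).1 h4) (by norm_num)

end Plane

end CfsgLib.FusionTwoEssentials
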