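import Cfsg.Agent.FusionRankTwo.Util
import Cfsg.Agent.BlocksCharsC.PGroupCenter
import Cfsg.Agent.FusionEssential.Chain
import Cfsg.Agent.Solvable.Frattini
import Mathlib.GroupTheory.Index
import Mathlib.GroupTheory.Frattini

/-!
# Sections of a finite `p`-group

Auxiliary subgroups and counting lemmas for sections `N / M`:

* `Rank3`: elementary abelian sections have order at most `p ^ 3`.
* `phi`, `omegaZ`: the subgroup generated by powers and commutators; the central elements of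
  order `p`.
* `dC`, `dR`: kernel and image of commutation with one element on a section.
-/

set_option autoImplicit false

namespace CfsgLib.FusionTwoEssentials

open scoped commutatorElement

variable {G : Type*} [Group G]

/-- The elementary abelian sections have order at most `p ^ 3`. -/
def Rank3 (p : ℕ) (G : Type*) [Group G] : Prop :=
  ∀ M N : Subgroup G, M ≤ N → (∀ x ∈ N, ∀ y ∈ N, ⁅x, y⁆ ∈ M) → (∀ x ∈ N, x ^ p ∈ M) →
    M.relIndex N ≤ p ^ 3

theorem Rank3.quotient {p : ℕ} (h : Rank3 p G) (L : Subgroup G) [L.Normal] : Rank3 p (G ⧸ L) := by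
  intro M N hMN hc hp
  set π := QuotientGroup.mk' L
  have h1 := h (M.comap π) (N.comap π) (Subgroup.comap_mono hMN)
    (fun x hx y hy => by rw [Subgroup.mem_comap, map_commutatorElement]; exact hc _ hx _ hy)
    (fun x hx => by rw [Subgroup.mem_comap, map_pow]; exact hp _ hx)
  rwa [Subgroup.relIndex_comap, Subgroup.map_comap_eq_self_of_surjective
    (QuotientGroup.mk'_surjective L)] at h1

/-- An elementary abelian subgroup. -/
def Elem (p : ℕ) (H : Subgroup G) : Prop :=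
  (∀ x ∈ H, ∀ y ∈ H, x * y = y * x) ∧ ∀ x ∈ H, x ^ p = 1

theorem Rank3.card_le {p : ℕ} (h : Rank3 p G) {H : Subgroup G} (hH : Elem p H) :
    Nat.card H ≤ p ^ 3 := by
  have h1 := h ⊥ H bot_le (fun x hx y hy => Subgroup.mem_bot.2
    (commutatorElement_eq_one_iff_mul_comm.2 (hH.1 x hx y hy)))
    (fun x hx => Subgroup.mem_bot.2 (hH.2 x hx))
  rwa [Subgroup.relIndex_bot_left] at h1

theorem comm_closure {T : Set G} (hc : ∀ x ∈ T, ∀ y ∈ T, x * y = y * x) :
    ∀ x ∈ Subgroup.closure T, ∀ y ∈ Subgroup.closure T, x * y = y * x := by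
  have h1 : Subgroup.closure T ≤ Subgroup.centralizer T := (Subgroup.closure_le _).2 fun z hz =>
    Subgroup.mem_centralizer_iff.2 fun w hw => hc w hw z hz
  intro x hx
  have h2 : Subgroup.closure T ≤ Subgroup.centralizer {x} := (Subgroup.closure_le _).2 fun z hz =>
    Subgroup.mem_centralizer_iff.2 fun w hw => by
      rw [Set.mem_singleton_iff.1 hw]
      exact (Subgroup.mem_centralizer_iff.1 (h1 hx) z hz).symm
  exact fun y hy => Subgroup.mem_centralizer_iff.1 (h2 hy) x rfl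

theorem elem_closure {p : ℕ} {T : Set G} (hc : ∀ x ∈ T, ∀ y ∈ T, x * y = y * x)
    (hT : ∀ x ∈ T, x ^ p = 1) : Elem p (Subgroup.closure T) := by
  refine ⟨comm_closure hc, fun x hx => ?_⟩
  induction hx using Subgroup.closure_induction with
  | mem x hx => exact hT x hx
  | one => exact one_pow p
  | mul a b ha hb h1 h2 =>
    rw [(show Commute a b from comm_closure hc a ha b hb).mul_pow, h1, h2, one_mul]
  | inv a _ h => rw [inv_pow, h, inv_one]

/-- The subgroup generated by the powers and commutators of `H`. -/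
def phi (p : ℕ) (H : Subgroup G) : Subgroup G :=
  Subgroup.closure {z | (∃ a ∈ H, a ^ p = z) ∨ ∃ a ∈ H, ∃ b ∈ H, ⁅a, b⁆ = z}

theorem pow_mem_phi {p : ℕ} {H : Subgroup G} {a : G} (ha : a ∈ H) : a ^ p ∈ phi p H :=
  Subgroup.subset_closure (Or.inl ⟨a, ha, rfl⟩)

theorem comm_mem_phi {p : ℕ} {H : Subgroup G} {a b : G} (ha : a ∈ H) (hb : b ∈ H) :
    ⁅a, b⁆ ∈ phi p H :=
  Subgroup.subset_closure (Or.inr ⟨a, ha, b, hb, rfl⟩)

theorem phi_le {p : ℕ} {H M : Subgroup G} (hp : ∀ a ∈ H, a ^ p ∈ M)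
    (hc : ∀ a ∈ H, ∀ b ∈ H, ⁅a, b⁆ ∈ M) : phi p H ≤ M := by
  refine (Subgroup.closure_le _).2 ?_
  rintro z (⟨a, ha, rfl⟩ | ⟨a, ha, b, hb, rfl⟩)
  exacts [hp a ha, hc a ha b hb]

theorem phi_le_self {p : ℕ} {H : Subgroup G} : phi p H ≤ H :=
  phi_le (fun _ ha => H.pow_mem ha p) fun _ ha _ hb =>
    H.mul_mem (H.mul_mem (H.mul_mem ha hb) (H.inv_mem ha)) (H.inv_mem hb)

theorem phi_mono {p : ℕ} {H K : Subgroup G} (h : H ≤ K) : phi p H ≤ phi p K :=
  phi_le (fun _ ha => pow_mem_phi (h ha)) fun _ ha _ hb => comm_mem_phi (h ha) (h hb)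

theorem phi_map {G' : Type*} [Group G'] {p : ℕ} (f : G →* G') {H : Subgroup G} :
    (phi p H).map f = phi p (H.map f) := by
  refine le_antisymm (Subgroup.map_le_iff_le_comap.2 (phi_le ?_ ?_)) (phi_le ?_ ?_)
  · intro a ha
    rw [Subgroup.mem_comap, map_pow]
    exact pow_mem_phi (Subgroup.mem_map_of_mem f ha)
  · intro a ha b hb
    rw [Subgroup.mem_comap, map_commutatorElement]
    exact comm_mem_phi (Subgroup.mem_map_of_mem f ha) (Subgroup.mem_map_of_mem f hb)
  · rintro _ ⟨a, ha, rfl⟩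
    exact ⟨a ^ p, pow_mem_phi ha, map_pow f a p⟩
  · rintro _ ⟨a, ha, rfl⟩ _ ⟨b, hb, rfl⟩
    exact ⟨⁅a, b⁆, comm_mem_phi ha hb, map_commutatorElement f a b⟩

theorem phi_normal {p : ℕ} {H : Subgroup G} (hH : H.Normal) : (phi p H).Normal := by
  refine ⟨fun x hx g => ?_⟩
  have h := Subgroup.mem_map_of_mem (MulAut.conj g).toMonoidHom hx
  rw [phi_map] at h
  refine phi_mono ?_ h
  rintro _ ⟨a, ha, rfl⟩
  exact hH.conj_mem a ha g

/-- The central elements of exponent `p` of `H`. -/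
def omegaZ (p : ℕ) (H : Subgroup G) : Subgroup G where
  carrier := {x | x ∈ H ∧ x ^ p = 1 ∧ ∀ e ∈ H, e * x = x * e}
  one_mem' := ⟨H.one_mem, one_pow p, fun e _ => by rw [mul_one, one_mul]⟩
  mul_mem' := by
    rintro a b ⟨ha, hap, hac⟩ ⟨hb, hbp, hbc⟩
    refine ⟨H.mul_mem ha hb, ?_, fun e he => Commute.mul_right (hac e he) (hbc e he)⟩
    rw [(show Commute a b from hbc a ha).mul_pow, hap, hbp, one_mul]
  inv_mem' := by
    rintro a ⟨ha, hap, hac⟩
    exact ⟨H.inv_mem ha, by rw [inv_pow, hap, inv_one],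
      fun e he => Commute.inv_right (show Commute e a from hac e he)⟩

theorem mem_omegaZ {p : ℕ} {H : Subgroup G} {x : G} :
    x ∈ omegaZ p H ↔ x ∈ H ∧ x ^ p = 1 ∧ ∀ e ∈ H, e * x = x * e := Iff.rfl

theorem omegaZ_le {p : ℕ} {H : Subgroup G} : omegaZ p H ≤ H := fun _ h => h.1

theorem elem_omegaZ {p : ℕ} {H : Subgroup G} : Elem p (omegaZ p H) :=
  ⟨fun _ hx y hy => hy.2.2 _ hx.1, fun _ hx => hx.2.1⟩

theorem omegaZ_normal {p : ℕ} {H : Subgroup G} (hH : H.Normal) : (omegaZ p H).Normal := by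
  refine ⟨fun x hx g => ⟨hH.conj_mem x hx.1 g, by rw [conj_pow, hx.2.1]; simp, fun e he => ?_⟩⟩
  have h := congrArg (fun y => g * y * g⁻¹)
    (hx.2.2 (g⁻¹ * e * g) (by simpa using hH.conj_mem e he g⁻¹))
  simpa [mul_assoc] using h

section Comm

variable {M N : Subgroup G}

theorem comm_mul_left (a b z : G) : ⁅a * b, z⁆ = a * ⁅b, z⁆ * a⁻¹ * ⁅a, z⁆ := by
  simp only [commutatorElement_def]; group

theorem comm_mul_right (z a b : G) : ⁅z, a * b⁆ = ⁅z, a⁆ * (a * ⁅z, b⁆ * a⁻¹) := by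
  simp only [commutatorElement_def]; group

theorem conj_eq_comm_mul (g x : G) : g * x * g⁻¹ = ⁅g, x⁆ * x := by
  simp only [commutatorElement_def]; group

theorem comm_swap (a b : G) : ⁅a, b⁆⁻¹ = ⁅b, a⁆ := commutatorElement_inv a b

/-- A set of elements commuting into `M` with a fixed subgroup, as a subgroup. -/
def commInto (M N : Subgroup G) [hM : M.Normal] : Subgroup G where
  carrier := {a | ∀ z ∈ N, ⁅a, z⁆ ∈ M}
  one_mem' := fun z _ => by rw [commutatorElement_one_left]; exact M.one_mem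
  mul_mem' := fun {a b} ha hb z hz => by
    rw [comm_mul_left]
    exact M.mul_mem (hM.conj_mem _ (hb z hz) a) (ha z hz)
  inv_mem' := fun {a} ha z hz => by
    have h := hM.conj_mem _ (M.inv_mem (ha z hz)) a⁻¹
    have e : ⁅a⁻¹, z⁆ = a⁻¹ * ⁅a, z⁆⁻¹ * a⁻¹⁻¹ := by simp only [commutatorElement_def]; group
    rwa [e]

theorem mem_commInto [M.Normal] {a : G} : a ∈ commInto M N ↔ ∀ z ∈ N, ⁅a, z⁆ ∈ M := Iff.rfl

/-- The elements of `N` whose commutator with `g` lies in `M`. -/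
def dC (g : G) (M N : Subgroup G) [hM : M.Normal] : Subgroup G where
  carrier := {z | z ∈ N ∧ ⁅g, z⁆ ∈ M}
  one_mem' := ⟨N.one_mem, by rw [commutatorElement_one_right]; exact M.one_mem⟩
  mul_mem' := fun {a b} ha hb => ⟨N.mul_mem ha.1 hb.1, by
    rw [comm_mul_right]
    exact M.mul_mem ha.2 (hM.conj_mem _ hb.2 a)⟩
  inv_mem' := fun {a} ha => ⟨N.inv_mem ha.1, by
    have h := hM.conj_mem _ (M.inv_mem ha.2) a⁻¹
    have e : ⁅g, a⁻¹⁆ = a⁻¹ * ⁅g, a⁆⁻¹ * a⁻¹⁻¹ := by simp only [commutatorElement_def]; group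
    rwa [e]⟩

/-- The image of commutation with `g` on a section. -/
def dR (g : G) (M N : Subgroup G) : Subgroup G :=
  M ⊔ Subgroup.closure ((fun z => ⁅g, z⁆) '' N)

theorem le_dR {g : G} : M ≤ dR g M N := le_sup_left

theorem comm_mem_dR {g z : G} (hz : z ∈ N) : ⁅g, z⁆ ∈ dR g M N :=
  Subgroup.mem_sup_right (Subgroup.subset_closure ⟨z, hz, rfl⟩)

theorem dR_le [hN : N.Normal] {g : G} (hMN : M ≤ N) : dR g M N ≤ N := by
  refine sup_le hMN ((Subgroup.closure_le _).2 ?_)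
  rintro _ ⟨z, hz, rfl⟩
  exact N.mul_mem (hN.conj_mem z hz g) (N.inv_mem hz)

theorem le_dC [hM : M.Normal] {g : G} (hMN : M ≤ N) : M ≤ dC g M N := fun _ hz =>
  ⟨hMN hz, M.mul_mem (hM.conj_mem _ hz g) (M.inv_mem hz)⟩

/-- The first isomorphism theorem for commutation with `g` on an abelian section. -/
theorem relIndex_dC [hM : M.Normal] [hN : N.Normal] (hc : ∀ a ∈ N, ∀ b ∈ N, ⁅a, b⁆ ∈ M) (g : G) :
    (dC g M N).relIndex N = M.relIndex (dR g M N) ∧
      ∀ r ∈ dR g M N, ∃ z ∈ N, ⁅g, z⁆⁻¹ * r ∈ M := by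
  set π := QuotientGroup.mk' M
  have hcn : ∀ z ∈ N, ⁅g, z⁆ ∈ N := fun z hz => N.mul_mem (hN.conj_mem z hz g) (N.inv_mem hz)
  have hπ : ∀ a ∈ N, ∀ b ∈ N, π a * π b = π b * π a := fun a ha b hb => by
    rw [← commutatorElement_eq_one_iff_mul_comm, ← map_commutatorElement]
    exact (QuotientGroup.eq_one_iff _).2 (hc a ha b hb)
  let f : N →* G ⧸ M :=
    { toFun := fun z => π ⁅g, z⁆
      map_one' := by simp
      map_mul' := fun a b => by
        rw [Subgroup.coe_mul, comm_mul_right, map_mul π, map_mul π, map_mul π, hπ _ a.2 _ (hcn _ b.2),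
          map_inv, mul_inv_cancel_right] }
  have hker : f.ker = (dC g M N).subgroupOf N := by
    ext z
    rw [MonoidHom.mem_ker, Subgroup.mem_subgroupOf]
    exact ⟨fun h => ⟨z.2, (QuotientGroup.eq_one_iff _).1 h⟩,
      fun h => (QuotientGroup.eq_one_iff _).2 h.2⟩
  have hmap : (dR g M N).map π = f.range := by
    rw [dR, Subgroup.map_sup, (Subgroup.map_eq_bot_iff M).2 (QuotientGroup.ker_mk' M).ge,
      bot_sup_eq, MonoidHom.map_closure]
    refine le_antisymm ((Subgroup.closure_le _).2 ?_) ?_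
    · rintro _ ⟨_, ⟨z, hz, rfl⟩, rfl⟩
      exact ⟨⟨z, hz⟩, rfl⟩
    · rintro _ ⟨z, rfl⟩
      exact Subgroup.subset_closure ⟨_, ⟨z, z.2, rfl⟩, rfl⟩
  refine ⟨?_, fun r hr => ?_⟩
  · rw [Subgroup.relIndex, ← hker, Subgroup.index_ker, ← hmap, ← Subgroup.relIndex_ker,
      QuotientGroup.ker_mk']
  · obtain ⟨z, hz⟩ : π r ∈ f.range := hmap ▸ Subgroup.mem_map_of_mem π hr
    exact ⟨z, z.2, QuotientGroup.eq.1 hz⟩

end Comm

section PGroup

variable [Finite G] {p : ℕ} [hp : Fact p.Prime] (hG : IsPGroup p G)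

include hG

theorem exists_relIndex_eq (M N : Subgroup G) : ∃ k, M.relIndex N = p ^ k :=
  (hG.to_subgroup N).index _

theorem le_relIndex_of_lt {M N : Subgroup G} (h : ¬ N ≤ M) : p ≤ M.relIndex N := by
  obtain ⟨_ | k, hk⟩ := exists_relIndex_eq hG M N
  · exact absurd (Subgroup.relIndex_eq_one.1 hk) h
  · rw [hk]; exact Nat.le_self_pow k.succ_ne_zero p

theorem relIndex_cases {M N : Subgroup G} (h : M.relIndex N ≤ p ^ 3) :
    N ≤ M ∨ M.relIndex N = p ∨ M.relIndex N = p ^ 2 ∨ M.relIndex N = p ^ 3 := by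
  obtain ⟨k, hk⟩ := exists_relIndex_eq hG M N
  rw [hk] at h
  have hk3 := (Nat.pow_le_pow_iff_right hp.out.one_lt).1 h
  interval_cases k
  · exact Or.inl (Subgroup.relIndex_eq_one.1 hk)
  · exact Or.inr (Or.inl (hk.trans (pow_one p)))
  · exact Or.inr (Or.inr (Or.inl hk))
  · exact Or.inr (Or.inr (Or.inr hk))

/-- An element whose square lies in a subgroup lies in it (`p` odd). -/
theorem mem_of_sq_mem (hp2 : p ≠ 2) {M : Subgroup G} {o : G} (h : o * o ∈ M) : o ∈ M := by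
  obtain ⟨k, hk⟩ := hG o
  have h1 : o ∈ Subgroup.zpowers (o ^ 2) := mem_zpowers_pow_iff.2 (Nat.Coprime.coprime_dvd_right
    (orderOf_dvd_of_pow_eq_one hk)
    (((Nat.coprime_primes Nat.prime_two hp.out).2 (Ne.symm hp2)).pow_right k))
  exact Subgroup.zpowers_le.2 (by rwa [pow_two]) h1

/-- What is both fixed and inverted modulo `M` lies in `M`. -/
theorem mem_of_fixed_inverted (hp2 : p ≠ 2) {M : Subgroup G} {o v : G} (h1 : o⁻¹ * v ∈ M)
    (h2 : o * v ∈ M) : o ∈ M := by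
  refine mem_of_sq_mem hG hp2 ?_
  have h := M.mul_mem h2 (M.inv_mem h1)
  simpa [mul_assoc] using h

/-- A normal factor of order `p` is central. -/
theorem comm_mem_of_relIndex {M N : Subgroup G} (hM : M.Normal) (hN : N.Normal)
    (h : M.relIndex N ≤ p) (g : G) {x : G} (hx : x ∈ N) : ⁅g, x⁆ ∈ M := by
  have hmem : ⁅g, x⁆ = x * (x⁻¹ * (g * x * g⁻¹)) * x⁻¹ := by
    simp only [commutatorElement_def]; group
  rw [hmem]
  refine hM.conj_mem _ ?_ x
  obtain ⟨_ | k, hk⟩ := exists_relIndex_eq hG M N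
  · have h1 := Subgroup.relIndex_eq_one.1 hk
    exact M.mul_mem (M.inv_mem (h1 hx)) (hM.conj_mem _ (h1 hx) g)
  · have hidx : M.relIndex N = p := le_antisymm h (by rw [hk]; exact Nat.le_self_pow k.succ_ne_zero p)
    haveI : (M.subgroupOf N).Normal := hM.subgroupOf N
    obtain ⟨j, hj⟩ := hG g
    exact FusionEssential.inv_mul_apply_mem_of_relIndex (α := MulAut.conj g) (k := j) hidx
      (by rw [← map_pow, hj, map_one]) (fun y hy => hN.conj_mem y hy g)
      (fun y hy => hM.conj_mem y hy g) hx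

/-- A normal section contains an element central modulo its bottom. -/
theorem exists_central_mod {M N : Subgroup G} [hM : M.Normal] (hN : N.Normal) (h : ¬ N ≤ M) :
    ∃ x ∈ N, x ∉ M ∧ ∀ g : G, ⁅g, x⁆ ∈ M := by
  set π := QuotientGroup.mk' M
  haveI : (N.map π).Normal := hN.map π (QuotientGroup.mk'_surjective M)
  haveI : Nontrivial (N.map π) := (Subgroup.nontrivial_iff_ne_bot _).2 fun hb => h (by
    have h1 := (Subgroup.map_eq_bot_iff N).1 hb
    rwa [QuotientGroup.ker_mk'] at h1)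
  obtain ⟨z, hz, hz1⟩ := BlocksCharsC.exists_mem_ne_one
    (BlocksCharsC.inf_center_ne_bot (hG.to_quotient M) (N.map π))
  obtain ⟨⟨x, hx, rfl⟩, hzc⟩ := hz
  refine ⟨x, hx, fun hxM => hz1 ((QuotientGroup.eq_one_iff x).2 hxM), fun g => ?_⟩
  refine (QuotientGroup.eq_one_iff _).1 ?_
  show π ⁅g, x⁆ = 1
  rw [map_commutatorElement, commutatorElement_eq_one_iff_mul_comm]
  exact Subgroup.mem_center_iff.1 hzc (π g)

end PGroup

theorem phi_le_frattini {P : Type*} [Group P] [Finite P] {p : ℕ} [Fact p.Prime]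
    (hP : IsPGroup p P) : phi p (⊤ : Subgroup P) ≤ frattini P :=
  phi_le (fun a _ => Solvable.pow_mem_frattini hP a) fun a _ b _ =>
    Solvable.commutator_le_frattini hP
      (Subgroup.commutator_mem_commutator (Subgroup.mem_top a) (Subgroup.mem_top b))


/-- The index of a subgroup one element above another. -/
theorem relIndex_sup_zpowers {p : ℕ} [hp : Fact p.Prime] {M : Subgroup G} [hM : M.Normal] {y : G}
    (hy : y ^ p ∈ M) (hyM : y ∉ M) : M.relIndex (M ⊔ Subgroup.zpowers y) = p := by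
  have h1 := Subgroup.relIndex_ker (QuotientGroup.mk' M) (K := M ⊔ Subgroup.zpowers y)
  rw [QuotientGroup.ker_mk', Subgroup.map_sup, MonoidHom.map_zpowers,
    (Subgroup.map_eq_bot_iff M).2 (QuotientGroup.ker_mk' M).ge, bot_sup_eq, Nat.card_zpowers] at h1
  rw [h1]
  refine orderOf_eq_prime ?_ fun h => hyM ((QuotientGroup.eq_one_iff y).1 h)
  rw [← map_pow]
  exact (QuotientGroup.eq_one_iff _).2 hy

end CfsgLib.FusionTwoEssentials
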