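import Cfsg.Agent.Sp4Pres.Concrete
import Cfsg.Agent.FusionTwoEssentials.Section
import Mathlib.GroupTheory.Sylow

/-!
# A regular unipotent element on an elementary group of order `p ^ 3`

* `Rel`: four generators `x f v z` with the relations of a Sylow subgroup of `Sp₄(p)`.
* `nonempty_mulEquiv`: two groups of order `p ^ 4` so generated are isomorphic.
* `nonempty_sylow`: such a group is a Sylow subgroup of `Sp₄(p)`.
-/

set_option autoImplicit false

namespace CfsgLib.FusionTwoEssentials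

open scoped Pointwise

variable {G : Type*} [Group G] {p : ℕ}

/-- The relations. -/
structure Rel (p : ℕ) (x f v z : G) : Prop where
  xp : x ^ p = 1
  fp : f ^ p = 1
  vp : v ^ p = 1
  zp : z ^ p = 1
  zx : Commute z x
  zf : Commute z f
  zv : Commute z v
  fv : Commute f v
  xv : x * v = f * v * x
  xf : x * f = z * f * x

namespace Rel

variable {x f v z : G} (h : Rel p x f v z)
include h

theorem map {G' : Type*} [Group G'] (φ : G →* G') : Rel p (φ x) (φ f) (φ v) (φ z) where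
  xp := by rw [← map_pow, h.xp, map_one]
  fp := by rw [← map_pow, h.fp, map_one]
  vp := by rw [← map_pow, h.vp, map_one]
  zp := by rw [← map_pow, h.zp, map_one]
  zx := h.zx.map φ
  zf := h.zf.map φ
  zv := h.zv.map φ
  fv := h.fv.map φ
  xv := by rw [← map_mul, ← map_mul, ← map_mul, h.xv]
  xf := by rw [← map_mul, ← map_mul, ← map_mul, h.xf]

theorem pair {G' : Type*} [Group G'] {x' f' v' z' : G'} (h' : Rel p x' f' v' z') :
    Rel p (x, x') (f, f') (v, v') (z, z') where
  xp := Prod.ext h.xp h'.xp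
  fp := Prod.ext h.fp h'.fp
  vp := Prod.ext h.vp h'.vp
  zp := Prod.ext h.zp h'.zp
  zx := Prod.ext h.zx.eq h'.zx.eq
  zf := Prod.ext h.zf.eq h'.zf.eq
  zv := Prod.ext h.zv.eq h'.zv.eq
  fv := Prod.ext h.fv.eq h'.fv.eq
  xv := Prod.ext h.xv h'.xv
  xf := Prod.ext h.xf h'.xf

variable [Finite G] [hp : Fact p.Prime]

omit h in
theorem card_zpowers_le {g : G} (hg : g ^ p = 1) : Nat.card (Subgroup.zpowers g) ≤ p := by
  rw [Nat.card_zpowers]
  exact Nat.le_of_dvd hp.out.pos (orderOf_dvd_of_pow_eq_one hg)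

omit h hp in
theorem card_sup_le_mul {A B : Subgroup G} (hBA : B ≤ Subgroup.normalizer (A : Set G)) :
    Nat.card (A ⊔ B : Subgroup G) ≤ Nat.card A * Nat.card B := by
  have e := Subgroup.coe_mul_of_right_le_normalizer_left A B hBA
  have h := Set.natCard_mul_le (s := (A : Set G)) (t := (B : Set G))
  rw [← e] at h
  exact h

/-- The subgroup generated by `z`, `f`, `v`. -/
theorem conj_mem {a : G} (ha : a ∈ Subgroup.closure {z, f, v}) :
    x * a * x⁻¹ ∈ Subgroup.closure {z, f, v} := by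
  have hle : Subgroup.closure {z, f, v} ≤
      (Subgroup.closure {z, f, v}).comap (MulAut.conj x).toMonoidHom := by
    have hz : z ∈ Subgroup.closure ({z, f, v} : Set G) :=
      Subgroup.subset_closure (Or.inl rfl)
    have hf : f ∈ Subgroup.closure ({z, f, v} : Set G) :=
      Subgroup.subset_closure (Or.inr (Or.inl rfl))
    have hv : v ∈ Subgroup.closure ({z, f, v} : Set G) :=
      Subgroup.subset_closure (Or.inr (Or.inr rfl))
    refine (Subgroup.closure_le _).2 ?_
    intro a ha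
    show x * a * x⁻¹ ∈ Subgroup.closure {z, f, v}
    rcases ha with ha | ha | ha <;> rw [ha]
    · rw [← h.zx.eq, mul_inv_cancel_right]; exact hz
    · rw [h.xf, mul_inv_cancel_right]; exact Subgroup.mul_mem _ hz hf
    · rw [h.xv, mul_inv_cancel_right]; exact Subgroup.mul_mem _ hf hv
  exact hle ha

theorem closure_eq :
    Subgroup.closure {x, f, v, z} = Subgroup.closure {z, f, v} ⊔ Subgroup.zpowers x := by
  refine le_antisymm ((Subgroup.closure_le _).2 ?_) (sup_le (Subgroup.closure_mono ?_)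
    (Subgroup.zpowers_le.2 (Subgroup.subset_closure (Or.inl rfl))))
  · rintro a (rfl | rfl | rfl | rfl)
    · exact Subgroup.mem_sup_right (Subgroup.mem_zpowers _)
    · exact Subgroup.mem_sup_left (Subgroup.subset_closure (Or.inr (Or.inl rfl)))
    · exact Subgroup.mem_sup_left (Subgroup.subset_closure (Or.inr (Or.inr rfl)))
    · exact Subgroup.mem_sup_left (Subgroup.subset_closure (Or.inl rfl))
  · rintro a (rfl | rfl | rfl) <;> simp

theorem closure3_eq : Subgroup.closure {z, f, v} =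
    (Subgroup.zpowers z ⊔ Subgroup.zpowers f) ⊔ Subgroup.zpowers v := by
  refine le_antisymm ((Subgroup.closure_le _).2 ?_) (sup_le (sup_le ?_ ?_) ?_)
  · rintro a (rfl | rfl | rfl)
    · exact Subgroup.mem_sup_left (Subgroup.mem_sup_left (Subgroup.mem_zpowers _))
    · exact Subgroup.mem_sup_left (Subgroup.mem_sup_right (Subgroup.mem_zpowers _))
    · exact Subgroup.mem_sup_right (Subgroup.mem_zpowers _)
  all_goals refine Subgroup.zpowers_le.2 (Subgroup.subset_closure ?_)
  exacts [Or.inl rfl, Or.inr (Or.inl rfl), Or.inr (Or.inr rfl)]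

theorem card3_le : Nat.card (Subgroup.closure {z, f, v}) ≤ p ^ 3 := by
  have hcz : ∀ a b : G, Commute a b →
      Subgroup.zpowers b ≤ Subgroup.normalizer (Subgroup.zpowers a : Set G) := fun a b hab =>
    (Subgroup.zpowers_le.2 (Subgroup.mem_centralizer_iff.2 fun w hw => by
      obtain ⟨i, rfl⟩ := hw
      exact (hab.zpow_left i).eq)).trans (Subgroup.centralizer_le_normalizer _)
  have h1 : Nat.card (Subgroup.zpowers z ⊔ Subgroup.zpowers f : Subgroup G) ≤ p * p :=
    (card_sup_le_mul (hcz z f h.zf)).trans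
      (Nat.mul_le_mul (card_zpowers_le h.zp) (card_zpowers_le h.fp))
  have h2 : Subgroup.zpowers v ≤
      Subgroup.normalizer ((Subgroup.zpowers z ⊔ Subgroup.zpowers f : Subgroup G) : Set G) := by
    refine (Subgroup.zpowers_le.2 ?_).trans (Subgroup.centralizer_le_normalizer _)
    have hle : Subgroup.zpowers z ⊔ Subgroup.zpowers f ≤ Subgroup.centralizer {v} :=
      sup_le (Subgroup.zpowers_le.2 (Subgroup.mem_centralizer_iff.2 fun w hw => by
        rw [Set.mem_singleton_iff.1 hw]; exact h.zv.eq.symm))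
        (Subgroup.zpowers_le.2 (Subgroup.mem_centralizer_iff.2 fun w hw => by
        rw [Set.mem_singleton_iff.1 hw]; exact h.fv.eq.symm))
    exact Subgroup.mem_centralizer_iff.2 fun w hw =>
      ((Subgroup.mem_centralizer_iff.1 (hle hw)) v rfl).symm
  rw [h.closure3_eq, pow_succ, pow_two]
  exact (card_sup_le_mul h2).trans (Nat.mul_le_mul h1 (card_zpowers_le h.vp))

theorem card_le : Nat.card (Subgroup.closure {x, f, v, z}) ≤ p ^ 4 := by
  rw [h.closure_eq, pow_succ]
  refine (card_sup_le_mul (Subgroup.zpowers_le.2 ?_)).trans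
    (Nat.mul_le_mul h.card3_le (card_zpowers_le h.xp))
  exact Subgroup.mem_normalizer_fintype (fun a ha => h.conj_mem ha)

theorem elem3 : Elem p (Subgroup.closure {z, f, v}) := by
  refine elem_closure ?_ ?_
  · rintro a (rfl | rfl | rfl) b (rfl | rfl | rfl)
    exacts [rfl, h.zf.eq, h.zv.eq, h.zf.eq.symm, rfl, h.fv.eq, h.zv.eq.symm, h.fv.eq.symm, rfl]
  · rintro a (rfl | rfl | rfl)
    exacts [h.zp, h.fp, h.vp]

theorem isPGroup : IsPGroup p (Subgroup.closure {x, f, v, z}) := by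
  rw [h.closure_eq]
  have hV : IsPGroup p (Subgroup.closure {z, f, v}) := fun a =>
    ⟨1, Subtype.ext (by rw [pow_one, Subgroup.coe_pow]; exact h.elem3.2 a a.2)⟩
  have hX : IsPGroup p (Subgroup.zpowers x) := fun a =>
    ⟨1, Subtype.ext (by
      obtain ⟨i, hi⟩ := a.2
      rw [pow_one, Subgroup.coe_pow, ← hi, ← zpow_natCast, zpow_comm, zpow_natCast, h.xp, one_zpow]
      rfl)⟩
  exact hV.to_sup_of_normal_left' hX
    (Subgroup.zpowers_le.2 (Subgroup.mem_normalizer_fintype fun a ha => h.conj_mem ha))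

/-- With `z ≠ 1` the generated groups have the largest possible order. -/
theorem cards (hz : z ≠ 1) :
    Nat.card (Subgroup.closure {z, f, v}) = p ^ 3 ∧
      Nat.card (Subgroup.closure {x, f, v, z}) = p ^ 4 := by
  have hG := h.isPGroup
  have hcl := h.closure_eq
  have hx' : x ∈ Subgroup.closure ({x, f, v, z} : Set G) := Subgroup.subset_closure (Or.inl rfl)
  set Z := Subgroup.zpowers z
  set W := Z ⊔ Subgroup.zpowers f with hW
  set V := Subgroup.closure ({z, f, v} : Set G) with hV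
  set T := Subgroup.closure ({x, f, v, z} : Set G) with hT
  have hVT : V ≤ T := hcl ▸ le_sup_left
  have hV' : V = W ⊔ Subgroup.zpowers v := h.closure3_eq
  have hWV : W ≤ V := hV' ▸ le_sup_left
  -- commutation with `x`
  have hxW : ∀ w ∈ W, (x * w * x⁻¹) * w⁻¹ ∈ Z := by
    intro w hw
    obtain ⟨a, ⟨i, rfl⟩, b, ⟨j, rfl⟩, rfl⟩ : ∃ a ∈ Z, ∃ b ∈ Subgroup.zpowers f, a * b = w := by
      have e := Subgroup.coe_mul_of_right_le_normalizer_left Z (Subgroup.zpowers f)
        ((Subgroup.zpowers_le.2 (Subgroup.mem_centralizer_iff.2 fun w hw => by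
          obtain ⟨i, rfl⟩ := hw
          exact (h.zf.zpow_left i).eq)).trans (Subgroup.centralizer_le_normalizer _))
      rw [← SetLike.mem_coe, hW, e] at hw
      exact hw
    have h1 : x * (z ^ i * f ^ j) * x⁻¹ = z ^ i * (z * f) ^ j := by
      rw [← MulAut.conj_apply, map_mul, map_zpow, map_zpow, MulAut.conj_apply, MulAut.conj_apply,
        ← h.zx.eq, mul_inv_cancel_right, h.xf, mul_inv_cancel_right]
    show x * (z ^ i * f ^ j) * x⁻¹ * (z ^ i * f ^ j)⁻¹ ∈ Z
    rw [h1, h.zf.mul_zpow, mul_inv_rev, ← mul_assoc, ← mul_assoc, mul_inv_cancel_right,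
      ← zpow_add, ← zpow_neg, ← zpow_add]
    exact Subgroup.zpow_mem _ (Subgroup.mem_zpowers z) _
  have hfZ : f ∉ Z := fun hf => hz <| by
    obtain ⟨i, hi⟩ := hf
    have h1 : Commute x f := hi ▸ (h.zx.symm.zpow_right i)
    have h2 := h.xf
    rw [h1.eq, mul_assoc, right_eq_mul] at h2
    exact h2
  have hvW : v ∉ W := fun hv => hfZ <| by
    have h1 := hxW v hv
    rwa [h.xv, mul_inv_cancel_right, mul_inv_cancel_right] at h1
  have hxV : x ∉ V := fun hx => hz <| by
    have hc : ∀ a ∈ V, Commute f a := by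
      intro a ha
      have hle : V ≤ Subgroup.centralizer {f} := (Subgroup.closure_le _).2 fun b hb =>
        Subgroup.mem_centralizer_iff.2 fun w hw => by
          rw [Set.mem_singleton_iff.1 hw]
          rcases hb with rfl | rfl | rfl
          exacts [h.zf.eq.symm, rfl, h.fv.eq]
      exact Subgroup.mem_centralizer_iff.1 (hle ha) f rfl
    have h2 := h.xf
    rw [← (hc x hx).eq, mul_assoc, right_eq_mul] at h2
    exact h2
  have hZ : p ≤ Nat.card Z := by rw [Nat.card_zpowers, orderOf_eq_prime h.zp hz]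
  have hlt1 : Z < W := SetLike.lt_iff_le_and_exists.2
    ⟨le_sup_left, f, Subgroup.mem_sup_right (Subgroup.mem_zpowers f), hfZ⟩
  have hlt2 : W < V := SetLike.lt_iff_le_and_exists.2
    ⟨hWV, v, hV'.symm ▸ Subgroup.mem_sup_right (Subgroup.mem_zpowers v), hvW⟩
  have hlt3 : V < T := SetLike.lt_iff_le_and_exists.2 ⟨hVT, x, hx', hxV⟩
  have hVp : IsPGroup p V := hG.to_le hVT
  have i1 := FusionRankTwo.mul_card_le_of_lt (hVp.to_le hWV) hlt1
  have i2 := FusionRankTwo.mul_card_le_of_lt hVp hlt2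
  have i3 := FusionRankTwo.mul_card_le_of_lt hG hlt3
  have j2 : p ^ 3 ≤ Nat.card V := by
    refine le_trans ?_ i2
    rw [pow_succ', pow_two]
    exact Nat.mul_le_mul_left p ((Nat.mul_le_mul_left p hZ).trans i1)
  have j3 : p ^ 4 ≤ Nat.card T := by
    refine le_trans ?_ i3
    rw [pow_succ']
    exact Nat.mul_le_mul_left p j2
  exact ⟨le_antisymm h.card3_le j2, le_antisymm h.card_le j3⟩

end Rel

/-- Two groups of order `p ^ 4` generated along `Rel` are isomorphic. -/
theorem nonempty_mulEquiv [hp : Fact p.Prime] [Finite G] {G' : Type*} [Group G'] [Finite G']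
    {x f v z : G} {x' f' v' z' : G'} (h : Rel p x f v z) (h' : Rel p x' f' v' z')
    (hG : Subgroup.closure {x, f, v, z} = ⊤) (hG' : Subgroup.closure {x', f', v', z'} = ⊤)
    (hc : Nat.card G = p ^ 4) (hc' : Nat.card G' = p ^ 4) : Nonempty (G ≃* G') := by
  have hH := (h.pair h').card_le
  set H := Subgroup.closure ({(x, x'), (f, f'), (v, v'), (z, z')} : Set (G × G')) with hHdef
  let π₁ : H →* G := (MonoidHom.fst G G').comp H.subtype
  let π₂ : H →* G' := (MonoidHom.snd G G').comp H.subtype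
  have hs₁ : Function.Surjective π₁ := by
    rw [← MonoidHom.range_eq_top, eq_top_iff, ← hG, Subgroup.closure_le]
    rintro a (rfl | rfl | rfl | rfl)
    exacts [⟨⟨(_, x'), Subgroup.subset_closure (Or.inl rfl)⟩, rfl⟩,
      ⟨⟨(_, f'), Subgroup.subset_closure (Or.inr (Or.inl rfl))⟩, rfl⟩,
      ⟨⟨(_, v'), Subgroup.subset_closure (Or.inr (Or.inr (Or.inl rfl)))⟩, rfl⟩,
      ⟨⟨(_, z'), Subgroup.subset_closure (Or.inr (Or.inr (Or.inr rfl)))⟩, rfl⟩]
  have hs₂ : Function.Surjective π₂ := by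
    rw [← MonoidHom.range_eq_top, eq_top_iff, ← hG', Subgroup.closure_le]
    rintro a (rfl | rfl | rfl | rfl)
    exacts [⟨⟨(x, _), Subgroup.subset_closure (Or.inl rfl)⟩, rfl⟩,
      ⟨⟨(f, _), Subgroup.subset_closure (Or.inr (Or.inl rfl))⟩, rfl⟩,
      ⟨⟨(v, _), Subgroup.subset_closure (Or.inr (Or.inr (Or.inl rfl)))⟩, rfl⟩,
      ⟨⟨(z, _), Subgroup.subset_closure (Or.inr (Or.inr (Or.inr rfl)))⟩, rfl⟩]
  have hcard : Nat.card H = p ^ 4 :=
    le_antisymm hH (hc ▸ Nat.card_le_card_of_surjective _ hs₁)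
  have b₁ : Function.Bijective π₁ :=
    (Nat.bijective_iff_surjective_and_card π₁).2 ⟨hs₁, hcard.trans hc.symm⟩
  have b₂ : Function.Bijective π₂ :=
    (Nat.bijective_iff_surjective_and_card π₂).2 ⟨hs₂, hcard.trans hc'.symm⟩
  exact ⟨(MulEquiv.ofBijective π₁ b₁).symm.trans (MulEquiv.ofBijective π₂ b₂)⟩

open Sp4Pres SL2Pres Matrix in
/-- The relations in `Sp₄(p)`. -/
theorem rel_symplectic [hp : Fact p.Prime] :
    Rel p (embA (xU (1 : ZMod p))) (xC 1 * xAB 1) (embB (xU (1 : ZMod p)))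
      (xC (2 : ZMod p)) := by
  have hadd : ∀ s t : ZMod p, xC (s + t) = (xC s * xC t : Matrix.symplecticGroup (Fin 2) (ZMod p)) := by
    intro s t
    apply Subtype.ext
    simp only [Submonoid.coe_mul, coe_xC, fromBlocks_multiply]
    refine ext_blocks ?_ ?_ ?_ ?_ <;> intro i j <;> fin_cases i <;> fin_cases j <;>
      simp [Matrix.mul_apply, Fin.sum_univ_two] <;> ring
  have haddB : ∀ s t : ZMod p,
      xAB (s + t) = (xAB s * xAB t : Matrix.symplecticGroup (Fin 2) (ZMod p)) := by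
    intro s t
    apply Subtype.ext
    simp only [Submonoid.coe_mul, coe_xAB, fromBlocks_multiply]
    refine ext_blocks ?_ ?_ ?_ ?_ <;> intro i j <;> fin_cases i <;> fin_cases j <;>
      simp [Matrix.mul_apply, Fin.sum_univ_two] <;> ring
  have hpow : ∀ (X : ZMod p → Matrix.symplecticGroup (Fin 2) (ZMod p)),
      (∀ s t, X (s + t) = X s * X t) → ∀ t, X t ^ p = 1 := by
    intro X hX t
    let φ : Multiplicative (ZMod p) →* Matrix.symplecticGroup (Fin 2) (ZMod p) :=
      MonoidHom.mk' (fun a => X a.toAdd) fun a b => hX _ _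
    show φ (Multiplicative.ofAdd t) ^ p = 1
    rw [← map_pow, ← ofAdd_nsmul, nsmul_eq_mul, ZMod.natCast_self, zero_mul, ofAdd_zero, map_one]
  have hCC : Commute (xC (1 : ZMod p)) (xAB 1) := by
    apply Subtype.ext
    simp only [Submonoid.coe_mul, coe_xC, coe_xAB, fromBlocks_multiply]
    refine ext_blocks ?_ ?_ ?_ ?_ <;> intro i j <;> fin_cases i <;> fin_cases j <;>
      simp [Matrix.mul_apply, Fin.sum_univ_two]
  have hCC2 : Commute (xC (2 : ZMod p)) (xAB 1) := by
    apply Subtype.ext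
    simp only [Submonoid.coe_mul, coe_xC, coe_xAB, fromBlocks_multiply]
    refine ext_blocks ?_ ?_ ?_ ?_ <;> intro i j <;> fin_cases i <;> fin_cases j <;>
      simp [Matrix.mul_apply, Fin.sum_univ_two, add_comm]
  refine ⟨?_, ?_, ?_, hpow xC hadd 2, (xa_xC 1 2).symm, ?_, (xb_xC 1 2).symm, ?_, ?_, ?_⟩
  · exact hpow (fun t => embA (xU t)) (fun s t => by rw [xU_add, map_mul]) 1
  · rw [hCC.mul_pow, hpow xC hadd, hpow xAB haddB, one_mul]
  · exact hpow (fun t => embB (xU t)) (fun s t => by rw [xU_add, map_mul]) 1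
  · exact (Commute.mul_right (by rw [Commute, SemiconjBy, ← hadd, ← hadd, add_comm]) hCC2)
  · exact ((xb_xC 1 1).mul_right (xb_xAB 1 1)).symm
  · rw [xa_xb, mul_one, mul_one]
  · have h2 := xa_xAB (1 : ZMod p) 1
    rw [mul_one, mul_one] at h2
    rw [← mul_assoc, (xa_xC 1 1).eq, mul_assoc (xC 1), h2, ← mul_assoc, ← mul_assoc, ← mul_assoc,
      ← hadd, ← hadd, add_comm]

open Sp4Pres SL2Pres Matrix in
/-- A group of order `p ^ 4` generated along `Rel` is a Sylow subgroup of `Sp₄(p)`. -/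
theorem nonempty_sylow [hp : Fact p.Prime] (hp2 : p ≠ 2) [Finite G] {x f v z : G}
    (h : Rel p x f v z) (hG : Subgroup.closure {x, f, v, z} = ⊤) (hc : Nat.card G = p ^ 4) :
    ∃ P : Sylow p ↥(Matrix.symplecticGroup (Fin 2) (ZMod p)),
      Nonempty (G ≃* ↥(P : Subgroup ↥(Matrix.symplecticGroup (Fin 2) (ZMod p)))) := by
  have h' := rel_symplectic (p := p)
  set X : Matrix.symplecticGroup (Fin 2) (ZMod p) := embA (xU 1)
  set F : Matrix.symplecticGroup (Fin 2) (ZMod p) := xC 1 * xAB 1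
  set V : Matrix.symplecticGroup (Fin 2) (ZMod p) := embB (xU 1)
  set Z : Matrix.symplecticGroup (Fin 2) (ZMod p) := xC 2
  haveI : Finite (Matrix.symplecticGroup (Fin 2) (ZMod p)) := inferInstance
  have hZ : Z ≠ 1 := by
    intro e
    have e1 := congrArg (fun g : Matrix.symplecticGroup (Fin 2) (ZMod p) =>
      g.1 (Sum.inl 0) (Sum.inr 0)) e
    have e2 : (2 : ZMod p) = 0 := by simpa [Z, coe_xC] using e1
    have e3 : p ∣ 2 := (ZMod.natCast_eq_zero_iff 2 p).1 (by simpa using e2)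
    exact hp2 ((Nat.prime_dvd_prime_iff_eq hp.out Nat.prime_two).1 e3)
  set H := Subgroup.closure ({X, F, V, Z} : Set (Matrix.symplecticGroup (Fin 2) (ZMod p)))
  have hHp : IsPGroup p H := h'.isPGroup
  have hH4 : Nat.card H = p ^ 4 := (h'.cards hZ).2
  obtain ⟨P, hP⟩ := hHp.exists_le_sylow
  have hcardSp : Nat.card (Matrix.symplecticGroup (Fin 2) (ZMod p)) =
      p ^ 4 * ((p ^ 2 - 1) * (p ^ 4 - 1)) := by
    rw [Forms.card_symplecticGroup, ZMod.card, Finset.prod_range_succ, Finset.prod_range_one]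
    norm_num
  have hdvd : ∀ n : ℕ, 0 < n → ¬ p ∣ p ^ n - 1 := by
    intro n hn h1
    have h2 : p ∣ p ^ n := dvd_pow_self p hn.ne'
    have h3 := Nat.dvd_sub h2 h1
    rw [Nat.sub_sub_self (Nat.one_le_pow _ _ hp.out.pos)] at h3
    exact hp.out.ne_one (Nat.dvd_one.1 h3)
  have hPH : (P : Subgroup (Matrix.symplecticGroup (Fin 2) (ZMod p))) = H := by
    refine (Subgroup.eq_of_le_of_card_ge hP ?_).symm
    obtain ⟨k, hk⟩ := IsPGroup.iff_card.1 P.isPGroup'
    have h1 := Subgroup.card_subgroup_dvd_card (P : Subgroup (Matrix.symplecticGroup (Fin 2) (ZMod p)))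
    rw [hcardSp, hk] at h1
    have hco : (p ^ k).Coprime ((p ^ 2 - 1) * (p ^ 4 - 1)) :=
      Nat.Coprime.pow_left k (hp.out.coprime_iff_not_dvd.2 fun h2 =>
        (hp.out.dvd_mul.1 h2).elim (hdvd 2 (by norm_num)) (hdvd 4 (by norm_num)))
    rw [hH4, hk]
    exact Nat.le_of_dvd (pow_pos hp.out.pos 4) (hco.dvd_of_dvd_mul_right h1)
  refine ⟨P, ?_⟩
  rw [hPH]
  refine nonempty_mulEquiv h (G' := H) (x' := ⟨X, Subgroup.subset_closure (Or.inl rfl)⟩)
    (f' := ⟨F, Subgroup.subset_closure (Or.inr (Or.inl rfl))⟩)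
    (v' := ⟨V, Subgroup.subset_closure (Or.inr (Or.inr (Or.inl rfl)))⟩)
    (z' := ⟨Z, Subgroup.subset_closure (Or.inr (Or.inr (Or.inr rfl)))⟩) ?_ hG ?_ hc hH4
  · refine ⟨Subtype.ext h'.xp, Subtype.ext h'.fp, Subtype.ext h'.vp, Subtype.ext h'.zp,
      Subtype.ext h'.zx.eq, Subtype.ext h'.zf.eq, Subtype.ext h'.zv.eq, Subtype.ext h'.fv.eq,
      Subtype.ext h'.xv, Subtype.ext h'.xf⟩
  · refine eq_top_iff.2 fun a _ => ?_
    have ha : (a : Matrix.symplecticGroup (Fin 2) (ZMod p)) ∈ H := a.2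
    rw [← Subgroup.mem_map_iff_mem (f := H.subtype) Subtype.val_injective, MonoidHom.map_closure]
    simpa [Set.image_insert_eq] using ha

end CfsgLib.FusionTwoEssentials
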