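import Cfsg.Agent.FusionTwoEssentials.Core
import Cfsg.Agent.FusionTwoEssentials.Regular

/-!
# Consequences of a `Core`

The commutators `f`, `z` of the two chosen generators, the powers and the order of the group.
-/

set_option autoImplicit false

namespace CfsgLib.FusionTwoEssentials

open scoped commutatorElement

variable {G : Type*} [Group G] {p : ℕ} {B B' : Subgroup (MulAut G)} {s : Side p B} {t : Side p B'}

namespace Core

variable (c : Core s t)

/-- The commutator of the two generators. -/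
def f : G := ⁅c.r', c.u⁆

/-- The second commutator. -/
def z : G := ⁅c.r', c.f⁆

include c

theorem K_normal : c.K.Normal :=
  ⟨fun k hk g => by rw [c.central k hk g, mul_inv_cancel_right]; exact hk⟩

/-- The `p`-th powers of the centre. -/
def pk : Subgroup G where
  carrier := {x | ∃ k ∈ c.K, k ^ p = x}
  one_mem' := ⟨1, c.K.one_mem, one_pow p⟩
  mul_mem' := by
    rintro _ _ ⟨a, ha, rfl⟩ ⟨b, hb, rfl⟩
    exact ⟨a * b, c.K.mul_mem ha hb,
      (show Commute a b from (c.central a ha b).symm).mul_pow p⟩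
  inv_mem' := by
    rintro _ ⟨a, ha, rfl⟩
    exact ⟨a⁻¹, c.K.inv_mem ha, inv_pow a p⟩

theorem mem_pk {x : G} : x ∈ c.pk ↔ ∃ k ∈ c.K, k ^ p = x := Iff.rfl

theorem pk_le : c.pk ≤ c.K := by
  rintro _ ⟨a, ha, rfl⟩
  exact c.K.pow_mem ha p

variable [Finite G] [hp : Fact p.Prime] (hG : IsPGroup p G)

include hG

theorem f_mem : c.f ∈ s.E ⊓ t.E := by
  have h := t.comm_mem_inf s hG c.r' c.u_mem
  exact ⟨h.2, h.1⟩

theorem f_pow : c.f ^ p = 1 := by
  have h1 : c.r' * c.u * c.r'⁻¹ ∈ t.E := t.conj_mem_E _ c.u_mem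
  show (c.r' * c.u * c.r'⁻¹ * c.u⁻¹) ^ p = 1
  rw [(show Commute (c.r' * c.u * c.r'⁻¹) c.u⁻¹ from
    c.abelian _ h1 _ (t.E.inv_mem c.u_mem)).mul_pow, conj_pow, inv_pow, c.u_pow]
  simp

theorem f_not : c.f ∉ c.K := by
  intro hf
  haveI := c.K_normal
  have := s.finite_aut
  have hKs : c.K ≤ s.E := c.K_le.trans inf_le_left
  -- everything is trivial on `s.E` modulo `K`
  have hu : c.u ∈ commInto c.K s.E := by
    intro y hy
    obtain ⟨n, d, hd, rfl⟩ := s.exists_form t c.r'_mem c.r'_not hy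
    refine ((dC c.u c.K s.E).mul_mem ((dC c.u c.K s.E).pow_mem ⟨c.r'_mem, ?_⟩ n)
      ⟨hd.1, ?_⟩).2
    · rw [← comm_swap]; exact c.K.inv_mem hf
    · rw [commutatorElement_eq_one_iff_mul_comm.2 (c.abelian _ c.u_mem _ hd.2)]
      exact one_mem _
  have hall : ∀ g : G, ∀ y ∈ s.E, ⁅g, y⁆ ∈ c.K := fun g => by
    obtain ⟨n, e, he, rfl⟩ := s.exists_pow_mul c.u_not g
    exact (commInto c.K s.E).mul_mem ((commInto c.K s.E).pow_mem hu n) (fun y hy => c.comm e he y hy)
  set αK := (c.K.subgroupOf s.E).map (s.E.subtype.comp c.α.toMonoidHom) with hαK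
  set M := c.K ⊔ αK with hM
  have hMs : M ≤ s.E := sup_le hKs (by rintro _ ⟨x, -, rfl⟩; exact (c.α x).2)
  have hMn : M.Normal := ⟨fun x hx g => by
    rw [conj_eq_comm_mul]
    exact M.mul_mem (Subgroup.mem_sup_left (hall g x (hMs hx))) hx⟩
  set w := c.α * s.cj c.u * c.α⁻¹ with hw
  have hwK : ∀ x : s.E, (x : G) ∈ c.K → w x = x := c.fix w (s.conj_mem_pair _ _)
  have hwM : ∀ x : s.E, (x : G) ∈ M → w x = x := by
    have hle : M ≤ (MonoidHom.eqLocus w.toMonoidHom (MonoidHom.id s.E)).map s.E.subtype := by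
      refine sup_le (fun x hx => ⟨⟨x, hKs hx⟩, hwK _ hx, rfl⟩) ?_
      rintro _ ⟨x, hx, rfl⟩
      refine ⟨c.α x, ?_, rfl⟩
      show w (c.α x) = c.α x
      rw [hw, MulAut.mul_apply, MulAut.mul_apply, MulAut.inv_apply_self]
      congr 1
      exact Subtype.ext (by
        rw [s.cj_apply, c.central (x : G) hx c.u, mul_inv_cancel_right])
    intro x hx
    obtain ⟨y, hy, hyx⟩ := hle hx
    obtain rfl : y = x := Subtype.ext hyx
    exact hy
  have hconj : ∀ (g : G) (x : s.E), (x : G)⁻¹ * (s.cj g x : G) ∈ c.K := fun g x => by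
    rw [s.cj_apply, conj_eq_comm_mul, c.central _ (hall g x x.2) _ |>.symm, inv_mul_cancel_left]
    exact hall g x x.2
  refine c.np ((s.closure_pgroup hG c.K M (S := Set.range s.cj ∪ {w}) ?_).to_le
    (sup_le ?_ (Subgroup.zpowers_le.2 (Subgroup.subset_closure (Or.inr rfl)))))
  swap
  · rintro _ ⟨g, rfl⟩
    exact Subgroup.subset_closure (Or.inl ⟨g, rfl⟩)
  rintro γ (⟨g, rfl⟩ | rfl)
  · refine ⟨s.pres_cj c.K_normal g, s.pres_cj hMn g, fun x hx => ?_,
      fun x _ => hconj g x, fun x _ => Subgroup.mem_sup_left (hconj g x)⟩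
    rw [s.cj_apply, c.central _ hx g, mul_inv_cancel_right, inv_mul_cancel]
    exact one_mem _
  · refine ⟨fun x hx => by rw [hwK x hx]; exact hx, fun x hx => by rw [hwM x hx]; exact hx,
      fun x hx => by rw [hwK x hx, inv_mul_cancel]; exact one_mem _,
      fun x hx => by rw [hwM x hx, inv_mul_cancel]; exact one_mem _, fun x _ => ?_⟩
    obtain ⟨y, rfl⟩ := c.α.surjective x
    have hd : ((y⁻¹ * s.cj c.u y : s.E) : G) ∈ c.K := hconj c.u y
    refine Subgroup.mem_sup_right ⟨y⁻¹ * s.cj c.u y, hd, ?_⟩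
    show ((c.α (y⁻¹ * s.cj c.u y) : s.E) : G) = _
    rw [map_mul, map_inv, hw, MulAut.mul_apply, MulAut.mul_apply, MulAut.inv_apply_self]
    rfl

theorem gen_f : ∀ d ∈ s.E ⊓ t.E, ∃ k ∈ c.K, ∃ j : ℕ, d = k * c.f ^ j := by
  haveI := c.K_normal
  intro d hd
  have hsup : c.K ⊔ Subgroup.zpowers c.f = s.E ⊓ t.E := by
    have hle : c.K ⊔ Subgroup.zpowers c.f ≤ s.E ⊓ t.E :=
      sup_le c.K_le (Subgroup.zpowers_le.2 (c.f_mem hG))
    have h1 := relIndex_sup_zpowers (M := c.K) (p := p) (y := c.f)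
      (by rw [c.f_pow hG]; exact one_mem _) (c.f_not hG)
    have h2 := Subgroup.relIndex_mul_relIndex c.K _ _ le_sup_left hle
    rw [h1, c.relIndex_eq] at h2
    exact le_antisymm hle
      (Subgroup.relIndex_eq_one.1 ((Nat.mul_eq_left hp.out.ne_zero).1 h2))
  rw [← hsup, ← SetLike.mem_coe,
    Subgroup.coe_mul_of_right_le_normalizer_left c.K (Subgroup.zpowers c.f)
      (c.K.normalizer_eq_top ▸ le_top)] at hd
  obtain ⟨k, hk, w, hw, rfl⟩ := hd
  have hw' := mem_powers_iff_mem_zpowers.2 hw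
  obtain ⟨j, rfl⟩ := hw'
  exact ⟨k, hk, j, rfl⟩

theorem z_mem : c.z ∈ c.K := c.comm _ c.r'_mem _ (c.f_mem hG).1

theorem z_pow : c.z ^ p = 1 := by
  have h := c.central _ (c.z_mem hG)
  have key : ∀ n : ℕ, c.z ^ n = ⁅c.r', c.f ^ n⁆ := by
    intro n
    induction n with
    | zero => simp
    | succ n ih =>
      rw [pow_succ', pow_succ', ih, comm_mul_right c.r' c.f (c.f ^ n), ← ih,
        c.central _ (c.K.pow_mem (c.z_mem hG) n) c.f, mul_inv_cancel_right]
      rfl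
  rw [key, c.f_pow hG, commutatorElement_one_right]

theorem decomp (g : G) :
    ∃ n m j : ℕ, ∃ k ∈ c.K, g = c.u ^ n * (c.r' ^ m * (k * c.f ^ j)) := by
  obtain ⟨n, e, he, rfl⟩ := s.exists_pow_mul c.u_not g
  obtain ⟨m, d, hd, rfl⟩ := s.exists_form t c.r'_mem c.r'_not he
  obtain ⟨k, hk, j, rfl⟩ := c.gen_f hG d hd
  exact ⟨n, m, j, k, hk, rfl⟩

theorem closure_eq_top :
    Subgroup.closure ((c.K : Set G) ∪ {c.r', c.f, c.u}) = ⊤ := by
  refine eq_top_iff.2 fun g _ => ?_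
  obtain ⟨n, m, j, k, hk, rfl⟩ := c.decomp hG g
  set H := Subgroup.closure ((c.K : Set G) ∪ {c.r', c.f, c.u}) with hH
  have h1 : c.u ∈ H := Subgroup.subset_closure (by simp)
  have h2 : c.r' ∈ H := Subgroup.subset_closure (by simp)
  have h3 : c.f ∈ H := Subgroup.subset_closure (by simp)
  have h4 : k ∈ H := Subgroup.subset_closure (Or.inl hk)
  exact H.mul_mem (H.pow_mem h1 n) (H.mul_mem (H.pow_mem h2 m) (H.mul_mem h4 (H.pow_mem h3 j)))

/-- All `p`-th powers lie in `⟨z⟩` times the powers of the centre. -/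
theorem pow_mem_sup (hp2 : p ≠ 2) (g : G) : g ^ p ∈ Subgroup.zpowers c.z ⊔ c.pk := by
  set N := Subgroup.zpowers c.z ⊔ c.pk with hN
  have hNK : N ≤ c.K := sup_le (Subgroup.zpowers_le.2 (c.z_mem hG)) c.pk_le
  haveI : N.Normal := ⟨fun x hx g => by rw [c.central x (hNK hx) g, mul_inv_cancel_right]; exact hx⟩
  set π := QuotientGroup.mk' N
  have hmem : ∀ {x : G}, x ∈ N → π x = 1 := fun hx => (QuotientGroup.eq_one_iff _).2 hx
  have hK : ∀ k ∈ c.K, ∀ q : G ⧸ N, Commute (π k) q := fun k hk q => by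
    obtain ⟨w, rfl⟩ := QuotientGroup.mk'_surjective _ q
    exact (show Commute k w from (c.central k hk w).symm).map π
  have hf : ∀ q : G ⧸ N, Commute (π c.f) q := fun q => by
    obtain ⟨w, rfl⟩ := QuotientGroup.mk'_surjective _ q
    have hle : ⊤ ≤ (Subgroup.centralizer {π c.f}).comap π := by
      rw [← c.closure_eq_top hG, Subgroup.closure_le]
      intro a ha
      refine Subgroup.mem_centralizer_iff.2 fun y hy => ?_
      rw [Set.mem_singleton_iff.1 hy]
      rcases ha with ha | ha | ha | ha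
      · exact (hK a ha _).eq.symm
      · rw [ha]
        refine (commutatorElement_eq_one_iff_mul_comm.1 ?_).symm
        rw [← map_commutatorElement]
        exact hmem (Subgroup.mem_sup_left (Subgroup.mem_zpowers _))
      · rw [ha]
      · rw [ha, ← map_mul, ← map_mul, c.abelian _ (c.f_mem hG).2 _ c.u_mem]
    exact Subgroup.mem_centralizer_iff.1 (hle (Subgroup.mem_top w)) _ rfl
  have hkp : ∀ k ∈ c.K, π k ^ p = 1 := fun k hk => by
    rw [← map_pow]; exact hmem (Subgroup.mem_sup_right ⟨k, hk, rfl⟩)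
  have hd : ∀ d ∈ s.E ⊓ t.E, (∀ q : G ⧸ N, Commute (π d) q) ∧ π d ^ p = 1 := fun d hd => by
    obtain ⟨k, hk, j, rfl⟩ := c.gen_f hG d hd
    rw [map_mul, map_pow]
    refine ⟨fun q => (hK k hk q).mul_left ((hf q).pow_left j), ?_⟩
    rw [(hK k hk _).mul_pow, hkp k hk, ← pow_mul, mul_comm j, pow_mul, ← map_pow π c.f,
      c.f_pow hG, map_one, one_pow, one_mul]
  obtain ⟨n, m, j, k, hk, rfl⟩ := c.decomp hG g
  have he := hd (k * c.f ^ j) ((s.E ⊓ t.E).mul_mem (c.K_le hk)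
    ((s.E ⊓ t.E).pow_mem (c.f_mem hG) j))
  have hc := hd ⁅(c.r' ^ m)⁻¹, (c.u ^ n)⁻¹⁆ (by
    have h := t.comm_mem_inf s hG (c.r' ^ m)⁻¹ (t.E.inv_mem (t.E.pow_mem c.u_mem n))
    exact ⟨h.2, h.1⟩)
  refine (QuotientGroup.eq_one_iff _).1 ?_
  show π _ = 1
  rw [map_pow, ← mul_assoc, map_mul π _ (k * c.f ^ j), (he.1 _).symm.mul_pow, he.2, mul_one,
    map_mul]
  rw [FusionRankTwo.mul_pow_comm (z := π ⁅(c.r' ^ m)⁻¹, (c.u ^ n)⁻¹⁆)
    (by rw [map_commutatorElement, map_inv, map_inv, commutatorElement_def]; group)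
    (hc.1 _) (hc.1 _) p]
  have hch : p ∣ p.choose 2 :=
    hp.out.dvd_choose_self two_ne_zero (lt_of_le_of_ne hp.out.two_le (Ne.symm hp2))
  obtain ⟨q, hq⟩ := hch
  rw [hq, pow_mul, hc.2, one_pow, ← map_pow, ← map_pow, ← pow_mul, ← pow_mul, mul_comm n,
    mul_comm m, pow_mul, pow_mul, c.u_pow, c.r'_pow, one_pow, one_pow, map_one, one_mul, one_mul]

theorem card_eq : Nat.card G = p ^ 3 * Nat.card c.K := by
  have h1 := Subgroup.relIndex_mul_index (c.K_le.trans inf_le_left : c.K ≤ s.E)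
  rw [c.relIndex_sq, s.index] at h1
  have h2 := c.K.card_mul_index
  rw [← h1] at h2
  rw [← h2]; ring

end Core

end CfsgLib.FusionTwoEssentials
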