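import Cfsg.Agent.FusionTwoEssentials.Torus
import Cfsg.Agent.FusionTwoEssentials.Section
import Cfsg.Agent.FusionRankThree.Derived

/-!
# Action of the automorphisms of a side on sections

* `Pres γ M`, `Triv γ M N`: `γ` preserves `M`, is trivial on `N` modulo `M`.
* coprime elements trivial along a series, on the Frattini quotient or on the elements of order
  `p` fix everything.
-/

set_option autoImplicit false

namespace CfsgLib.FusionTwoEssentials

open scoped commutatorElement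

variable {G : Type*} [Group G]

/-- `γ` preserves `M`. -/
def Pres {E : Subgroup G} (γ : MulAut E) (M : Subgroup G) : Prop :=
  ∀ x : E, (x : G) ∈ M → (γ x : G) ∈ M

/-- `γ` is trivial on `N` modulo `M`. -/
def Triv {E : Subgroup G} (γ : MulAut E) (M N : Subgroup G) : Prop :=
  ∀ x : E, (x : G) ∈ N → (x : G)⁻¹ * (γ x : G) ∈ M

theorem Triv.pres {E : Subgroup G} {γ : MulAut E} {M N : Subgroup G} (h : Triv γ M N)
    (hMN : M ≤ N) : Pres γ N := fun x hx => by
  simpa using N.mul_mem hx (hMN (h x hx))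

theorem pres_map {E : Subgroup G} {γ : MulAut E} {H : Subgroup G} (hHE : H ≤ E) (h : Pres γ H) :
    ((H.subgroupOf E).map γ.toMonoidHom).map E.subtype ≤ H := by
  rintro _ ⟨_, ⟨x, hx, rfl⟩, rfl⟩
  exact h x hx

theorem pres_phi {p : ℕ} {E : Subgroup G} {γ : MulAut E} {H : Subgroup G} (hHE : H ≤ E)
    (h : Pres γ H) : Pres γ (phi p H) := by
  intro x hx
  have e : (H.subgroupOf E).map E.subtype = H := by
    rw [Subgroup.subgroupOf_map_subtype, inf_eq_left.2 hHE]
  rw [← e, ← phi_map] at hx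
  obtain ⟨y, hy, hyx⟩ := hx
  obtain rfl : y = x := Subtype.ext hyx
  have h1 := Subgroup.mem_map_of_mem E.subtype (Subgroup.mem_map_of_mem γ.toMonoidHom hy)
  rw [phi_map, phi_map] at h1
  exact phi_mono (pres_map hHE h) h1

theorem pres_omegaZ {p : ℕ} {E : Subgroup G} (γ : MulAut E) : Pres γ (omegaZ p E) := by
  intro x hx
  refine ⟨(γ x).2, ?_, fun e he => ?_⟩
  · rw [← Subgroup.coe_pow, ← map_pow, show x ^ p = 1 from Subtype.ext hx.2.1, map_one]; rfl
  · have h1 : γ⁻¹ ⟨e, he⟩ * x = x * γ⁻¹ ⟨e, he⟩ := Subtype.ext (hx.2.2 _ (γ⁻¹ ⟨e, he⟩).2)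
    have h2 := congrArg γ h1
    rw [map_mul, map_mul, MulAut.apply_inv_self] at h2
    exact congrArg Subtype.val h2

/-- A finite injective map preserving a subgroup reflects membership. -/
theorem Pres.iff [Finite G] {E : Subgroup G} {γ : MulAut E} {H : Subgroup G} (h : Pres γ H)
    (x : E) : (γ x : G) ∈ H ↔ (x : G) ∈ H := by
  refine ⟨fun hx => ?_, h x⟩
  let f : {y : E // (y : G) ∈ H} → {y : E // (y : G) ∈ H} := fun y => ⟨γ y.1, h y.1 y.2⟩
  have hf : Function.Injective f := fun a b hab =>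
    Subtype.ext (γ.injective (congrArg Subtype.val hab))
  obtain ⟨⟨y, hy⟩, hyx⟩ := Finite.surjective_of_injective hf ⟨γ x, hx⟩
  rwa [← γ.injective (congrArg Subtype.val hyx)]

theorem Pres.inv [Finite G] {E : Subgroup G} {γ : MulAut E} {H : Subgroup G} (h : Pres γ H) :
    Pres γ⁻¹ H := fun x hx => by
  rw [← h.iff, MulAut.apply_inv_self]
  exact hx

section Coprime

variable [Finite G] {p : ℕ} [hp : Fact p.Prime] (hG : IsPGroup p G) {E : Subgroup G}
  {γ : MulAut E} (hco : (orderOf γ).Coprime p)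

include hG hco

theorem triv_trans {L M N : Subgroup G} [hL : L.Normal] (hpL : Pres γ L) (h1 : Triv γ L M)
    (h2 : Triv γ M N) : Triv γ L N := by
  intro x hx
  exact step_mod (hG.to_subgroup E) hco (L.subgroupOf E) (fun m hm => hpL m hm)
    (x := x) (h1 _ (h2 x hx))

theorem fix_of_triv_bot {N : Subgroup G} (h : Triv γ ⊥ N) :
    ∀ x : E, (x : G) ∈ N → γ x = x := fun x hx => by
  have h1 := h x hx
  rw [Subgroup.mem_bot, inv_mul_eq_one] at h1
  exact (Subtype.ext h1).symm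

theorem fix_step {M N : Subgroup G} (h1 : ∀ x : E, (x : G) ∈ M → γ x = x) (h2 : Triv γ M N) :
    ∀ x : E, (x : G) ∈ N → γ x = x := fun x hx =>
  step (hG.to_subgroup E) hco (h1 _ (h2 x hx))

theorem fix_of_phi {H : Subgroup G} (hHE : H ≤ E) (hH : Pres γ H) (h : Triv γ (phi p H) H) :
    ∀ x : E, (x : G) ∈ H → γ x = x := by
  let r : MulAut H :=
    { toFun := fun x => ⟨(γ ⟨x, hHE x.2⟩ : G), hH _ x.2⟩
      invFun := fun x => ⟨(γ⁻¹ ⟨x, hHE x.2⟩ : G), hH.inv _ x.2⟩
      left_inv := fun x => Subtype.ext (by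
        show ((γ⁻¹ (γ ⟨x, hHE x.2⟩) : E) : G) = x
        rw [MulAut.inv_apply_self])
      right_inv := fun x => Subtype.ext (by
        show ((γ (γ⁻¹ ⟨x, hHE x.2⟩) : E) : G) = x
        rw [MulAut.apply_inv_self])
      map_mul' := fun x y => Subtype.ext (by
        show ((γ (⟨x, hHE x.2⟩ * ⟨y, hHE y.2⟩) : E) : G) = _
        rw [map_mul]; rfl) }
  have hr : ∀ (k : ℕ) (x : H), ((r ^ k) x : G) = ((γ ^ k) ⟨x, hHE x.2⟩ : G) := by
    intro k
    induction k with
    | zero => intro x; rfl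
    | succ k ih =>
      intro x
      rw [pow_succ', pow_succ', MulAut.mul_apply, MulAut.mul_apply]
      show ((γ ⟨((r ^ k) x : G), _⟩ : E) : G) = _
      exact congrArg (fun z => ((γ z : E) : G)) (Subtype.ext (ih x))
  have hco' : (orderOf r).Coprime p := hco.coprime_dvd_left (orderOf_dvd_of_pow_eq_one
    (MulEquiv.ext fun x => Subtype.ext (by rw [hr, pow_orderOf_eq_one]; rfl)))
  have hfr : ∀ x : H, r x * x⁻¹ ∈ frattini H := by
    intro x
    have h1 : (x : G)⁻¹ * (r x : G) ∈ (phi p (⊤ : Subgroup H)).map H.subtype := by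
      rw [phi_map, ← MonoidHom.range_eq_map, Subgroup.range_subtype]
      exact h ⟨x, hHE x.2⟩ x.2
    obtain ⟨z, hz, hzv⟩ := h1
    have h2 : x⁻¹ * r x ∈ frattini H := by
      rw [show x⁻¹ * r x = z from Subtype.ext hzv.symm]
      exact phi_le_frattini (hG.to_subgroup H) hz
    have h3 := (inferInstance : (frattini H).Normal).conj_mem _ h2 x
    rwa [mul_assoc, mul_assoc, mul_inv_cancel_left] at h3
  have hone := FusionMetaSuper.eq_one_of_coprime_trivial_frattini (hG.to_subgroup H) hco' hfr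
  intro x hx
  have h1 := congrArg (fun z : MulAut H => ((z ⟨x, hx⟩ : H) : G)) hone
  exact Subtype.ext h1

theorem fix_of_ord (hp2 : p ≠ 2) {H : Subgroup G} (hH : Pres γ H)
    (h : ∀ x : E, (x : G) ∈ H → (x : G) ^ p = 1 → γ x = x) :
    ∀ x : E, (x : G) ∈ H → γ x = x :=
  FusionClosed.fix_of_fix_prime_order hp2 ((hG.to_subgroup E).to_subgroup (H.subgroupOf E))
    (fun x => hH.iff x) hco fun x hx hxp => h x hx (by rw [← Subgroup.coe_pow, hxp]; rfl)

end Coprime

namespace Side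

variable {p : ℕ} {B : Subgroup (MulAut G)} (s : Side p B)

theorem mem_iff_apply {β : MulAut G} (hβ : β ∈ B) (x : G) : β x ∈ s.E ↔ x ∈ s.E := by
  refine ⟨fun h => ?_, s.stable β hβ x⟩
  have := s.stable β⁻¹ (B.inv_mem hβ) _ h
  rwa [MulAut.inv_apply_self] at this

theorem exists_restr {β : MulAut G} (hβ : β ∈ B) :
    ∃ α ∈ s.A, ∀ x : s.E, (α x : G) = β x := by
  let α : MulAut s.E :=
    { toFun := fun x => ⟨β x, s.stable β hβ x x.2⟩
      invFun := fun x => ⟨β⁻¹ x, s.stable β⁻¹ (B.inv_mem hβ) x x.2⟩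
      left_inv := fun x => Subtype.ext (MulAut.inv_apply_self G β x)
      right_inv := fun x => Subtype.ext (MulAut.apply_inv_self G β x)
      map_mul' := fun x y => Subtype.ext (map_mul β (x : G) y) }
  exact ⟨α, s.restr β hβ α fun x => rfl, fun x => rfl⟩

/-- Subgroups invariant under `A` are invariant under `B`. -/
theorem apply_mem_of_inv {M : Subgroup G} (hME : M ≤ s.E) (hM : ∀ α ∈ s.A, Pres α M) {β : MulAut G}
    (hβ : β ∈ B) {x : G} (hx : x ∈ M) : β x ∈ M := by
  obtain ⟨α, hα, hαv⟩ := s.exists_restr hβ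
  have h := hM α hα ⟨x, hME hx⟩ hx
  rwa [hαv] at h

theorem normal_of_inv {M : Subgroup G} (hME : M ≤ s.E) (hM : ∀ α ∈ s.A, Pres α M) : M.Normal :=
  ⟨fun x hx g => by
    have h := hM _ (s.cj_mem g) ⟨x, hME hx⟩ hx
    rwa [s.cj_apply] at h⟩

theorem pres_cj {M : Subgroup G} (hM : M.Normal) (g : G) : Pres (s.cj g) M := fun x hx => by
  rw [s.cj_apply]; exact hM.conj_mem _ hx g

variable [Finite G] [hp : Fact p.Prime]

theorem pair_pres {u : G} (hu : u ∉ s.E) {α : MulAut s.E} {M : Subgroup G} (hM : M.Normal)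
    (hw : Pres (α * s.cj u * α⁻¹) M) : ∀ γ ∈ s.pair u α, Pres γ M := by
  have := s.finite_aut
  have key : ∀ γ : MulAut s.E, Pres γ M → γ ∈ secStab M M := fun γ h =>
    ⟨h, h, fun x hx => M.mul_mem (M.inv_mem hx) (h x hx)⟩
  intro γ hγ
  exact (mem_secStab.1 (s.pair_induction hu (key _ (s.pres_cj hM u))
    (fun e _ => key _ (s.pres_cj hM e)) (key _ hw) hγ)).1

omit [Finite G] hp in
theorem pres_conj_of_inv {M : Subgroup G} (hM : ∀ α ∈ s.A, Pres α M) {u : G} {α : MulAut s.E}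
    (hα : α ∈ s.A) : Pres (α * s.cj u * α⁻¹) M :=
  hM _ (s.A.mul_mem (s.A.mul_mem hα (s.cj_mem u)) (s.A.inv_mem hα))

/-- A `pair` is trivial on a factor of order at most `p`. -/
theorem pair_triv_of_index (hG : IsPGroup p G) {u : G} (hu : u ∉ s.E) {α : MulAut s.E}
    {M N : Subgroup G} (hM : M.Normal) (hN : N.Normal) (hNE : N ≤ s.E) (hMN : M ≤ N)
    (hidx : M.relIndex N ≤ p)
    (hwM : Pres (α * s.cj u * α⁻¹) M) (hwN : Pres (α * s.cj u * α⁻¹) N) :
    ∀ γ ∈ s.pair u α, Triv γ M N := by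
  have := s.finite_aut
  rcases relIndex_cases hG (hidx.trans (Nat.le_self_pow three_ne_zero p)) with h | h | h | h
  · intro γ hγ x hx
    exact M.mul_mem (M.inv_mem (h hx)) (s.pair_pres hu hM hwM γ hγ x (h hx))
  · have key : ∀ (γ : MulAut s.E) (g : G) (δ : MulAut s.E), γ = δ * s.cj g * δ⁻¹ → Pres γ M →
        Pres γ N → γ ∈ secStab M N := by
      intro γ g δ hγ h1 h2
      refine ⟨h1, h2, fun x hx => ?_⟩
      obtain ⟨k, hk⟩ := hG g
      haveI : ((M.subgroupOf s.E).subgroupOf (N.subgroupOf s.E)).Normal :=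
        (hM.subgroupOf s.E).subgroupOf _
      refine FusionEssential.inv_mul_apply_mem_of_relIndex (p := p) (B := N.subgroupOf s.E)
        (D := M.subgroupOf s.E) (α := γ) (k := k) ?_ ?_ (fun y hy => h2 y hy) (fun y hy => h1 y hy)
        (x := x) hx
      · refine Eq.trans ?_ h
        exact (Subgroup.relIndex_comap M s.E.subtype _).trans (by
          rw [Subgroup.subgroupOf, Subgroup.map_comap_eq, Subgroup.range_subtype,
            inf_eq_right.2 hNE])
      · rw [hγ, ← MulAut.conj_apply, ← map_pow, ← map_pow, hk, map_one, map_one]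
    exact fun γ hγ => (mem_secStab.1 (s.pair_induction hu
      (key _ u 1 (by rw [one_mul, inv_one, mul_one]) (s.pres_cj hM u) (s.pres_cj hN u))
      (fun e _ => key _ e 1 (by rw [one_mul, inv_one, mul_one]) (s.pres_cj hM e) (s.pres_cj hN e))
      (key _ u α rfl hwM hwN) hγ)).2.2
  · rw [h] at hidx
    exact absurd (hidx.trans_eq (pow_one p).symm) (not_le.2 (Nat.pow_lt_pow_right hp.out.one_lt
      (by norm_num)))
  · rw [h] at hidx
    exact absurd (hidx.trans_eq (pow_one p).symm) (not_le.2 (Nat.pow_lt_pow_right hp.out.one_lt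
      (by norm_num)))

/-- A `pair` is trivial where its generating conjugation and the inner automorphisms are. -/
theorem pair_triv_of_comm {u : G} (hu : u ∉ s.E) {α : MulAut s.E} (hα : α ∈ s.A)
    {M N : Subgroup G} (hM : M.Normal) (hN : N.Normal)
    (hiM : ∀ δ ∈ s.A, Pres δ M) (hiN : ∀ δ ∈ s.A, Pres δ N)
    (hu' : ∀ x ∈ N, ⁅u, x⁆ ∈ M) (he : ∀ e ∈ s.E, ∀ x ∈ N, ⁅e, x⁆ ∈ M) :
    ∀ γ ∈ s.pair u α, Triv γ M N := by
  have := s.finite_aut
  have key : ∀ g : G, (∀ x ∈ N, ⁅g, x⁆ ∈ M) → s.cj g ∈ secStab M N := fun g h =>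
    ⟨s.pres_cj hM g, s.pres_cj hN g, fun x hx => by
      rw [s.cj_apply, conj_eq_comm_mul]
      have h1 := hM.conj_mem _ (h _ hx) (x : G)⁻¹
      simpa [mul_assoc] using h1⟩
  intro γ hγ
  refine (mem_secStab.1 (s.pair_induction hu (key u hu') (fun e hme => key e (he e hme)) ?_ hγ)).2.2
  refine ⟨s.pres_conj_of_inv hiM hα, s.pres_conj_of_inv hiN hα, fun x hx => ?_⟩
  obtain ⟨y, rfl⟩ := α.surjective x
  have hy : (y : G) ∈ N := by
    have := hiN α⁻¹ (s.A.inv_mem hα) (α y) hx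
    rwa [MulAut.inv_apply_self] at this
  have h2 := hiM α hα (y⁻¹ * s.cj u y) ((key u hu').2.2 y hy)
  rw [map_mul, map_inv, Subgroup.coe_mul, Subgroup.coe_inv] at h2
  rwa [MulAut.mul_apply, MulAut.mul_apply, MulAut.inv_apply_self]

/-- A `pair` whose coprime elements fix everything is impossible. -/
theorem not_all_fixed {u : G} {α : MulAut s.E}
    (hnp : ¬ IsPGroup p (s.pair u α))
    (h : ∀ γ ∈ s.pair u α, (orderOf γ).Coprime p → ∀ x : s.E, (x : G) ∈ s.E → γ x = x) : False :=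
  hnp (isPGroup_of_forall fun γ hγ hco x => h γ hγ hco x x.2)

/-- An element outside `E` is nontrivial on the Frattini quotient. -/
theorem not_trivial_phi (hG : IsPGroup p G) {v : G} (hv : v ∉ s.E)
    (h : ∀ z ∈ s.E, ⁅v, z⁆ ∈ phi p s.E) : False := by
  have := s.finite_aut
  haveI hn : (phi p s.E).Normal := phi_normal s.normal
  let K : Subgroup (MulAut s.E) := secStab (phi p s.E) s.E
  have hKp : IsPGroup p K := isPGroup_of_forall fun γ hγ hco x =>
    fix_of_phi hG hco le_rfl (mem_secStab.1 hγ).2.1 (mem_secStab.1 hγ).2.2 x x.2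
  have hrange : s.cj.range ≤ K := by
    rintro _ ⟨g, rfl⟩
    obtain ⟨n, e, he, rfl⟩ := s.exists_pow_mul hv g
    have h1 : ∀ w : G, (∀ z ∈ s.E, ⁅w, z⁆ ∈ phi p s.E) → s.cj w ∈ K := fun w hw =>
      ⟨s.pres_cj hn w, s.pres_cj s.normal w, fun x hx => by
        rw [s.cj_apply, conj_eq_comm_mul]
        have h2 := hn.conj_mem _ (hw _ hx) (x : G)⁻¹
        simpa [mul_assoc] using h2⟩
    rw [map_mul, map_pow]
    exact K.mul_mem (K.pow_mem (h1 v h) n) (h1 e fun z hz => comm_mem_phi he hz)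
  have hKA : K ⊓ s.A ≤ s.cj.range := s.syl _ inf_le_right (hKp.to_le inf_le_left)
    (le_inf hrange (by rintro _ ⟨g, rfl⟩; exact s.cj_mem g))
  obtain ⟨α, hα, g, hg⟩ := s.moved
  refine hg (hKA (Subgroup.mem_inf.2 ⟨⟨fun x hx => ?_, fun x _ => (Subtype.prop _), fun x hx => ?_⟩,
    s.A.mul_mem (s.A.mul_mem hα (s.cj_mem g)) (s.A.inv_mem hα)⟩))
  · have hp' : ∀ δ : MulAut s.E, Pres δ (phi p s.E) := fun δ =>
      pres_phi le_rfl fun y _ => (δ y).2
    exact hp' _ x hx
  · obtain ⟨y, rfl⟩ := α.surjective x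
    have h2 := pres_phi (p := p) le_rfl (fun y _ => (α y).2) (y⁻¹ * s.cj g y)
      ((mem_secStab.1 (hrange ⟨g, rfl⟩)).2.2 y y.2)
    rw [map_mul, map_inv, Subgroup.coe_mul, Subgroup.coe_inv] at h2
    rwa [show @MulAut.conjNormal G _ s.E s.normal g = s.cj g from rfl, MulAut.mul_apply, MulAut.mul_apply,
      MulAut.inv_apply_self]

end Side

end CfsgLib.FusionTwoEssentials
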