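import Cfsg.Agent.FusionEssential.Chain
import Cfsg.Agent.FusionClosed.Stabilizer
import Cfsg.Prelude.Def_CaseTheorems
import Mathlib.GroupTheory.Sylow
import Mathlib.GroupTheory.Frattini

/-!
# Two sides of a pushing-up configuration on a finite `p`-group

A `Side` is a normal subgroup `E` of index `p` with a group `A` of automorphisms in which the
conjugations by the elements of the whole group form a Sylow subgroup that is not normal, and whose
normalizing elements extend to the ambient automorphism group `B`.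
-/

set_option autoImplicit false

namespace CfsgLib.FusionTwoEssentials

open scoped commutatorElement

variable {G : Type*} [Group G]

/-- The data carried by an essential subgroup of index `p` invariant under `B`. -/
structure Side (p : ℕ) (B : Subgroup (MulAut G)) where
  E : Subgroup G
  normal : E.Normal
  index : E.index = p
  A : Subgroup (MulAut E)
  conj_mem : ∀ g : G, @MulAut.conjNormal G _ E normal g ∈ A
  syl : ∀ P : Subgroup (MulAut E), P ≤ A → IsPGroup p P →
    (@MulAut.conjNormal G _ E normal).range ≤ P → P ≤ (@MulAut.conjNormal G _ E normal).range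
  moved : ∃ α ∈ A, ∃ g : G,
    α * @MulAut.conjNormal G _ E normal g * α⁻¹ ∉ (@MulAut.conjNormal G _ E normal).range
  inner : ∀ g : G, MulAut.conj g ∈ B
  stable : ∀ β ∈ B, ∀ x ∈ E, β x ∈ E
  restr : ∀ β ∈ B, ∀ α : MulAut E, (∀ x : E, (α x : G) = β x) → α ∈ A
  ext : ∀ α ∈ A,
    (∀ g : G, α * @MulAut.conjNormal G _ E normal g * α⁻¹ ∈
      (@MulAut.conjNormal G _ E normal).range) →
    ∃ β ∈ B, ∀ x : E, β (x : G) = (α x : G)

/-- The automorphisms of `E` keeping `M` and `N` and acting trivially on `N` modulo `M`. -/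
def secStab {E : Subgroup G} [Finite E] (M N : Subgroup G) : Subgroup (MulAut E) :=
  let T : Submonoid (MulAut E) :=
    { carrier := {α | (∀ x : E, (x : G) ∈ M → (α x : G) ∈ M) ∧
        (∀ x : E, (x : G) ∈ N → (α x : G) ∈ N) ∧
        ∀ x : E, (x : G) ∈ N → (x : G)⁻¹ * (α x : G) ∈ M}
      one_mem' := ⟨fun x h => h, fun x h => h, fun x _ => by simp⟩
      mul_mem' := by
        rintro a b ⟨a1, a2, a3⟩ ⟨b1, b2, b3⟩
        refine ⟨fun x h => a1 _ (b1 x h), fun x h => a2 _ (b2 x h), fun x h => ?_⟩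
        have h1 := M.mul_mem (b3 x h) (a3 (b x) (b2 x h))
        simpa [mul_assoc] using h1 }
  { T with
    inv_mem' := fun {α} hα => by
      have : Finite (MulAut E) := Finite.of_injective (fun φ => (φ : E → E)) DFunLike.coe_injective
      obtain ⟨n, hn⟩ := (mem_powers_iff_mem_zpowers (x := α) (y := α⁻¹)).2
        (Subgroup.inv_mem _ (Subgroup.mem_zpowers α))
      exact hn ▸ T.pow_mem hα n }

theorem mem_secStab {E : Subgroup G} [Finite E] {M N : Subgroup G} {α : MulAut E} :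
    α ∈ secStab M N ↔ (∀ x : E, (x : G) ∈ M → (α x : G) ∈ M) ∧
      (∀ x : E, (x : G) ∈ N → (α x : G) ∈ N) ∧
      ∀ x : E, (x : G) ∈ N → (x : G)⁻¹ * (α x : G) ∈ M :=
  Iff.rfl

/-- A coprime automorphism whose displacement at `x` is fixed modulo `M` fixes `x` modulo `M`. -/
theorem step_mod {X : Type*} [Group X] [Finite X] {p : ℕ} [Fact p.Prime] (hX : IsPGroup p X)
    {α : MulAut X} (hco : (orderOf α).Coprime p) (M : Subgroup X) [M.Normal]
    (hM : ∀ m ∈ M, α m ∈ M) {x : X}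
    (hd : (x⁻¹ * α x)⁻¹ * α (x⁻¹ * α x) ∈ M) : x⁻¹ * α x ∈ M := by
  set π := QuotientGroup.mk' M
  set d := x⁻¹ * α x with hddef
  have hmem : ∀ a b : X, π a = π b → π (α a) = π (α b) := fun a b h => by
    have h1 : a⁻¹ * b ∈ M := QuotientGroup.eq.1 h
    refine QuotientGroup.eq.2 ?_
    rw [← map_inv, ← map_mul]
    exact hM _ h1
  have hπd : π (α d) = π d := (QuotientGroup.eq.2 hd).symm
  have hαx : α x = x * d := by rw [hddef]; group
  clear_value d
  have hk : ∀ k : ℕ, π ((α ^ k) x) = π (x * d ^ k) := by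
    intro k
    induction k with
    | zero => simp
    | succ k ih =>
      rw [pow_succ', MulAut.mul_apply, hmem _ _ ih, map_mul α, map_pow α, hαx, map_mul π,
        map_pow π, hπd, map_mul π, map_mul π, map_pow π, pow_succ', mul_assoc]
  have h1 := hk (orderOf α)
  rw [pow_orderOf_eq_one, MulAut.one_apply, map_mul, left_eq_mul, map_pow] at h1
  obtain ⟨k, hkd⟩ := hX d
  have h2 : π d ^ p ^ k = 1 := by rw [← map_pow, hkd, map_one]
  have h3 := pow_gcd_eq_one.2 ⟨h1, h2⟩
  rw [(hco.pow_right k).gcd_eq_one, pow_one] at h3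
  exact (QuotientGroup.eq_one_iff d).1 h3

/-- A coprime automorphism fixes an element whose displacement it fixes. -/
theorem step {X : Type*} [Group X] [Finite X] {p : ℕ} [Fact p.Prime] (hX : IsPGroup p X)
    {α : MulAut X} (hco : (orderOf α).Coprime p) {x : X}
    (hd : α (x⁻¹ * α x) = x⁻¹ * α x) : α x = x := by
  have h := step_mod hX hco (⊥ : Subgroup X) (fun m hm => by rw [Subgroup.mem_bot.1 hm, map_one]; rfl)
    (x := x) (by rw [Subgroup.mem_bot, hd, inv_mul_cancel])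
  rw [Subgroup.mem_bot, inv_mul_eq_one] at h
  exact h.symm

/-- Enough coprime fixed points in a series make a group of automorphisms a `p`-group. -/
theorem isPGroup_of_forall {X : Type*} [Group X] [Finite X] {p : ℕ} [Fact p.Prime]
    {J : Subgroup (MulAut X)} (h : ∀ α ∈ J, (orderOf α).Coprime p → ∀ x, α x = x) :
    IsPGroup p J := by
  have : Finite (MulAut X) := Finite.of_injective (fun φ => (φ : X → X)) DFunLike.coe_injective
  exact FusionClosed.isPGroup_of_coprime_trivial fun α hα hco => MulEquiv.ext (h α hα hco)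

namespace Side

variable {p : ℕ} {B : Subgroup (MulAut G)} (s : Side p B)

/-- Conjugation by the elements of the whole group. -/
def cj : G →* MulAut s.E := @MulAut.conjNormal G _ s.E s.normal

theorem cj_apply (g : G) (x : s.E) : (s.cj g x : G) = g * x * g⁻¹ :=
  @MulAut.conjNormal_apply G _ s.E s.normal g x

theorem cj_mem (g : G) : s.cj g ∈ s.A := s.conj_mem g

/-- The automorphisms induced by the elements of `E`. -/
def inn : Subgroup (MulAut s.E) := s.E.map s.cj

theorem cj_conj (α : MulAut s.E) (e : s.E) : α * s.cj e * α⁻¹ = s.cj (α e) := by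
  refine MulEquiv.ext fun x => Subtype.ext ?_
  rw [MulAut.mul_apply, MulAut.mul_apply, cj_apply]
  have h : s.cj e (α⁻¹ x) = e * α⁻¹ x * e⁻¹ := Subtype.ext (by rw [cj_apply]; rfl)
  rw [h, map_mul, map_mul, map_inv, MulAut.apply_inv_self]
  rfl

theorem conj_mem_E (g : G) {x : G} (hx : x ∈ s.E) : g * x * g⁻¹ ∈ s.E := s.normal.conj_mem x hx g

theorem comm_mem_E (g : G) {x : G} (hx : x ∈ s.E) : ⁅g, x⁆ ∈ s.E :=
  s.E.mul_mem (s.conj_mem_E g hx) (s.E.inv_mem hx)

theorem exists_not_mem [hp : Fact p.Prime] : ∃ u : G, u ∉ s.E := by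
  by_contra h
  push Not at h
  have h1 := s.index
  rw [show s.E = ⊤ from eq_top_iff.2 fun g _ => h g, Subgroup.index_top] at h1
  exact hp.out.one_lt.ne h1

theorem exists_pow_mul [hp : Fact p.Prime] {u : G} (hu : u ∉ s.E) (g : G) :
    ∃ n : ℕ, ∃ e ∈ s.E, g = u ^ n * e := by
  haveI := s.normal
  have hcard : Nat.card (G ⧸ s.E) = p := by rw [← Subgroup.index_eq_card]; exact s.index
  have hne : QuotientGroup.mk' s.E u ≠ 1 := fun h => hu ((QuotientGroup.eq_one_iff u).1 h)
  obtain ⟨n, hn⟩ := mem_powers_of_prime_card (g' := QuotientGroup.mk' s.E g) hcard hne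
  exact ⟨n, (u ^ n)⁻¹ * g, QuotientGroup.eq.1 ((map_pow _ u n).trans hn), by group⟩

theorem sup_eq_top [Fact p.Prime] {u : G} (hu : u ∉ s.E) {H : Subgroup G} (hE : s.E ≤ H)
    (huH : u ∈ H) : H = ⊤ :=
  eq_top_iff.2 fun g _ => by
    obtain ⟨n, e, he, rfl⟩ := s.exists_pow_mul hu g
    exact H.mul_mem (H.pow_mem huH n) (hE he)

theorem pow_mem [Fact p.Prime] (g : G) : g ^ p ∈ s.E := by
  haveI := s.normal
  have hcard : Nat.card (G ⧸ s.E) = p := by rw [← Subgroup.index_eq_card]; exact s.index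
  have h : (QuotientGroup.mk' s.E g) ^ Nat.card (G ⧸ s.E) = 1 := pow_card_eq_one'
  rw [hcard] at h
  rw [← map_pow] at h
  exact (QuotientGroup.eq_one_iff _).1 h

theorem centralizer_le [Fact p.Prime] {g : G} (hg : ∀ x ∈ s.E, g * x = x * g) : g ∈ s.E := by
  by_contra hgE
  obtain ⟨α, -, h, hh⟩ := s.moved
  refine hh ?_
  have hone : s.cj g = 1 := MulEquiv.ext fun x => Subtype.ext (by
    rw [cj_apply, hg x x.2, mul_inv_cancel_right]; rfl)
  obtain ⟨n, e, he, rfl⟩ := s.exists_pow_mul hgE h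
  show α * s.cj (g ^ n * e) * α⁻¹ ∈ s.cj.range
  rw [map_mul, map_pow, hone, one_pow, one_mul]
  exact ⟨α ⟨e, he⟩, (s.cj_conj α ⟨e, he⟩).symm⟩

variable [Finite G] [hp : Fact p.Prime]

theorem finite_aut : Finite (MulAut s.E) :=
  Finite.of_injective (fun φ => (φ : s.E → s.E)) DFunLike.coe_injective

theorem isPGroup_range (hG : IsPGroup p G) : IsPGroup p s.cj.range := by
  have h := (hG.to_subgroup ⊤).map s.cj
  rwa [← MonoidHom.range_eq_map] at h

/-- Two conjugates of a generator outside `E` generate a `p`-group only if they agree. -/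
theorem eq_of_pgroup (hG : IsPGroup p G) {u : G} (hu : u ∉ s.E) {α : MulAut s.E} (hα : α ∈ s.A)
    (hJ : IsPGroup p (Subgroup.closure {s.cj u, α * s.cj u * α⁻¹})) (g : G) :
    α * s.cj g * α⁻¹ ∈ s.cj.range := by
  set J := Subgroup.closure {s.cj u, α * s.cj u * α⁻¹} with hJdef
  have hJA : J ≤ s.A := (Subgroup.closure_le _).2 (by
    rintro x (rfl | rfl)
    exacts [s.cj_mem u, s.A.mul_mem (s.A.mul_mem hα (s.cj_mem u)) (s.A.inv_mem hα)])
  have hInn : s.inn ≤ s.A := by
    rintro _ ⟨e, -, rfl⟩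
    exact s.cj_mem e
  have hnorm : J ≤ Subgroup.normalizer (s.inn : Set (MulAut s.E)) := by
    intro j _
    rw [Subgroup.mem_normalizer_iff]
    intro x
    constructor
    · rintro ⟨e, he, rfl⟩
      exact ⟨_, (j ⟨e, he⟩).2, (s.cj_conj j ⟨e, he⟩).symm⟩
    · rintro ⟨e, he, hx⟩
      refine ⟨_, (j⁻¹ ⟨e, he⟩).2, ?_⟩
      rw [← s.cj_conj j⁻¹ ⟨e, he⟩]
      show j⁻¹ * s.cj e * j⁻¹⁻¹ = x
      rw [hx]; group
  have hP : IsPGroup p (J ⊔ s.inn : Subgroup (MulAut s.E)) :=
    hJ.to_sup_of_normal_right' ((hG.to_subgroup s.E).map s.cj) hnorm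
  have hgen : ∀ h : G, s.cj h ∈ J ⊔ s.inn := fun h => by
    obtain ⟨n, e, he, rfl⟩ := s.exists_pow_mul hu h
    rw [map_mul, map_pow]
    exact Subgroup.mul_mem _ (Subgroup.pow_mem _ (Subgroup.mem_sup_left
      (Subgroup.subset_closure (Set.mem_insert _ _))) n) (Subgroup.mem_sup_right ⟨e, he, rfl⟩)
  have hle := s.syl _ (sup_le hJA hInn) hP (by rintro _ ⟨h, rfl⟩; exact hgen h)
  obtain ⟨n, e, he, rfl⟩ := s.exists_pow_mul hu g
  rw [show α * s.cj (u ^ n * e) * α⁻¹ = (α * s.cj u * α⁻¹) ^ n * (α * s.cj e * α⁻¹) by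
    rw [map_mul, map_pow, ← MulAut.conj_apply, map_mul, map_pow, MulAut.conj_apply,
      MulAut.conj_apply]]
  exact s.cj.range.mul_mem (Subgroup.pow_mem _ (hle (Subgroup.mem_sup_left
    (Subgroup.subset_closure (Set.mem_insert_of_mem _ rfl)))) n)
    ⟨α ⟨e, he⟩, (s.cj_conj α ⟨e, he⟩).symm⟩

/-- Some conjugate of a generator does not lie in a common `p`-group with it. -/
theorem exists_moved (hG : IsPGroup p G) {u : G} (hu : u ∉ s.E) :
    ∃ α ∈ s.A, ¬ IsPGroup p (Subgroup.closure {s.cj u, α * s.cj u * α⁻¹}) := by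
  obtain ⟨α, hα, g, hg⟩ := s.moved
  exact ⟨α, hα, fun h => hg (s.eq_of_pgroup hG hu hα h g)⟩

/-- Frattini argument: inside a subgroup containing all conjugations one can correct a
normalizing element so that it normalizes the conjugations. -/
theorem exists_normalizing (hG : IsPGroup p G) {L : Subgroup (MulAut s.E)} (hLA : L ≤ s.A)
    (hL : s.cj.range ≤ L) {α : MulAut s.E} (hαL : ∀ x ∈ s.cj.range, α * x * α⁻¹ ∈ L) :
    ∃ l ∈ L, ∀ g : G, (l * α) * s.cj g * (l * α)⁻¹ ∈ s.cj.range := by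
  have := s.finite_aut
  let R₀ := s.cj.range.subgroupOf L
  have hR₀ : IsPGroup p R₀ :=
    (s.isPGroup_range hG).comap_of_injective L.subtype Subtype.val_injective
  obtain ⟨P, hP⟩ := hR₀.exists_le_sylow
  have hPle : (P : Subgroup L).map L.subtype ≤ s.cj.range :=
    s.syl _ ((Subgroup.map_subtype_le _).trans hLA) (P.isPGroup'.map _) (fun x hx =>
      ⟨⟨x, hL hx⟩, hP hx, rfl⟩)
  let C : Subgroup L := (s.cj.range.map (MulAut.conj α).toMonoidHom).subgroupOf L
  have hC : IsPGroup p C :=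
    ((s.isPGroup_range hG).map _).comap_of_injective L.subtype Subtype.val_injective
  obtain ⟨Q, hQ⟩ := hC.exists_le_sylow
  obtain ⟨l, hl⟩ := MulAction.exists_smul_eq L Q P
  refine ⟨l, l.2, fun g => hPle ?_⟩
  have hmem : α * s.cj g * α⁻¹ ∈ L := hαL _ ⟨g, rfl⟩
  refine ⟨l * ⟨_, hmem⟩ * l⁻¹, ?_, by simp [mul_assoc]⟩
  rw [← hl, Sylow.coe_subgroup_smul]
  exact ⟨⟨_, hmem⟩, hQ ⟨_, ⟨g, rfl⟩, rfl⟩, rfl⟩

/-- An automorphism of `A` fixing a subgroup `L` of the centre pointwise up to `B`. -/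
theorem apply_mem_of_trivial (hG : IsPGroup p G) (L : Subgroup (MulAut s.E)) (hLA : L ≤ s.A)
    (hL : s.cj.range ≤ L) (hnorm : ∀ α ∈ s.A, ∀ x ∈ L, α * x * α⁻¹ ∈ L) {N : Subgroup G}
    (hLN : ∀ l ∈ L, ∀ x : s.E, (x : G) ∈ N → (l x : G) ∈ N)
    (hBN : ∀ β ∈ B, ∀ x ∈ N, β x ∈ N) {α : MulAut s.E} (hα : α ∈ s.A) {x : s.E}
    (hx : (x : G) ∈ N) : (α x : G) ∈ N := by
  obtain ⟨l, hl, hn⟩ := s.exists_normalizing hG hLA hL fun y hy => hnorm α hα y (hL hy)
  obtain ⟨β, hβ, hβv⟩ := s.ext _ (s.A.mul_mem (hLA hl) hα) hn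
  have h1 : ((l * α) x : G) ∈ N := by rw [← hβv]; exact hBN β hβ _ hx
  have h2 := hLN l⁻¹ (L.inv_mem hl) _ h1
  rwa [MulAut.mul_apply, MulAut.inv_apply_self] at h2

end Side

end CfsgLib.FusionTwoEssentials
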