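import Cfsg.Agent.FusionTwoEssentials.Action
import Cfsg.Agent.FusionClosed.Transvection

/-!
# An invariant line in a three-dimensional Frattini quotient with a transvection
-/

set_option autoImplicit false

namespace CfsgLib.FusionTwoEssentials

open scoped commutatorElement

variable {G : Type*} [Group G] [Finite G] {p : ℕ} [hp : Fact p.Prime] {B : Subgroup (MulAut G)}

open FusionClosed in
/-- A line fixed by two transvections generating different groups is fixed by all transvections. -/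
theorem fix_le_of_pair {X : Type*} [CommGroup X] [Finite X] (hX : IsPGroup p X)
    {A : Subgroup (MulAut X)} (hA : ∀ M ≤ A, IsPGroup p M → Nat.card M ≤ p) {σ τ ρ : MulAut X}
    {z z' : X} (P : Pair p σ τ z z') (hσA : σ ∈ A) (hτA : τ ∈ A) (hρA : ρ ∈ A)
    (hρ : IsTransvection p ρ) : fixSub σ ⊓ fixSub τ ≤ fixSub ρ := by
  intro c hc
  have hcσ := mem_fixSub.1 (Subgroup.mem_inf.1 hc).1
  have hcτ := mem_fixSub.1 (Subgroup.mem_inf.1 hc).2
  have hfix : ∀ {δ : MulAut X}, δ c = c → ∀ ρ' ∈ Subgroup.zpowers δ, ρ' c = c := fun {δ} hδ ρ' hρ' =>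
    (Subgroup.zpowers_le (H := MulAction.stabilizer (MulAut X) c)).2 hδ hρ'
  rw [mem_fixSub]
  by_cases hρσ : ρ ∈ Subgroup.zpowers σ
  · exact hfix hcσ ρ hρσ
  have hw : disp ρ z ≠ 1 := fun h => not_range_le_fix hX hA hσA hρA P.left hρ hρσ
    (by rw [P.z_range]; exact Subgroup.zpowers_le.2 h)
  have hr := hρ.range_eq ⟨z, rfl⟩ hw
  obtain ⟨j, hj⟩ : (disp ρ z')⁻¹ ∈ Submonoid.powers (disp ρ z) := by
    rw [mem_powers_iff_mem_zpowers, ← hr]
    exact inv_mem ⟨z', rfl⟩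
  simp only at hj
  have hy : ρ ((σ ^ j) z') = (σ ^ j) z' := by
    rw [← mem_fixSub, fixSub, MonoidHom.mem_ker, P.left.pow_apply, P.left_apply, map_mul, map_pow,
      hj, inv_mul_cancel]
  set g := σ ^ j
  have hδA : g * τ * g⁻¹ ∈ A := A.mul_mem (A.mul_mem (A.pow_mem hσA j) hτA)
    (A.inv_mem (A.pow_mem hσA j))
  have hδρ : ρ ∈ Subgroup.zpowers (g * τ * g⁻¹) := by
    by_contra hne
    refine not_range_le_fix hX hA hδA hρA (P.right.conj g) hρ hne ?_
    rintro _ ⟨v, rfl⟩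
    obtain ⟨v', rfl⟩ := g.surjective v
    rw [disp_conj, mem_fixSub]
    obtain ⟨i, hi⟩ : disp τ v' ∈ Subgroup.zpowers z' := P.z'_range ▸ ⟨v', rfl⟩
    simp only at hi
    rw [← hi, map_zpow, map_zpow, hy]
  refine hfix ?_ ρ hδρ
  have hg : g c = c := hfix hcσ g (Subgroup.npow_mem_zpowers σ j)
  have hg' : g⁻¹ c = c := hfix hcσ _ (Subgroup.inv_mem _ (Subgroup.npow_mem_zpowers σ j))
  rw [MulAut.mul_apply, MulAut.mul_apply, hg', hcτ, hg]

namespace Side

open FusionClosed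

/-- The invariant line below the fixed plane of a transvection. -/
theorem exists_invariant_line (s : Side p B) (hG : IsPGroup p G) {g : G} (hg : g ∉ s.E)
    [(phi p s.E).Normal] (h3 : (phi p s.E).relIndex s.E = p ^ 3)
    (hC : (dC g (phi p s.E) s.E).relIndex s.E = p)
    (hsq : ∀ z ∈ s.E, ⁅g, ⁅g, z⁆⁆ ∈ phi p s.E) :
    ∃ L : Subgroup G, L.Normal ∧ phi p s.E ≤ L ∧ L ≤ dC g (phi p s.E) s.E ∧
      (∀ α ∈ s.A, Pres α L) ∧ (phi p s.E).relIndex L = p ∧ ∃ z ∈ s.E, ⁅g, z⁆ ∉ L := by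
  classical
  have := s.finite_aut
  set Φ := phi p s.E with hΦ
  have hΦE : Φ ≤ s.E := phi_le_self
  haveI hΦn : (Φ.subgroupOf s.E).Normal := Subgroup.Normal.subgroupOf inferInstance s.E
  let π := QuotientGroup.mk' (Φ.subgroupOf s.E)
  letI : CommGroup (↥s.E ⧸ Φ.subgroupOf s.E) :=
    { (inferInstance : Group (↥s.E ⧸ Φ.subgroupOf s.E)) with
      mul_comm := fun a b => by
        obtain ⟨a, rfl⟩ := QuotientGroup.mk'_surjective _ a
        obtain ⟨b, rfl⟩ := QuotientGroup.mk'_surjective _ b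
        rw [← commutatorElement_eq_one_iff_mul_comm, ← map_commutatorElement]
        exact (QuotientGroup.eq_one_iff _).2 (comm_mem_phi a.2 b.2) }
  have hπ : ∀ x : s.E, π x = 1 ↔ (x : G) ∈ Φ := fun x => QuotientGroup.eq_one_iff x
  have hpres : ∀ γ : MulAut s.E, Pres γ Φ := fun γ => pres_phi le_rfl fun y _ => (γ y).2
  have hmap : ∀ γ : MulAut s.E, (Φ.subgroupOf s.E).map γ.toMonoidHom = Φ.subgroupOf s.E := by
    intro γ
    refine Subgroup.eq_of_le_of_card_ge ?_ (by rw [Subgroup.card_map_of_injective γ.injective])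
    rintro _ ⟨x, hx, rfl⟩
    exact hpres γ x hx
  let ψ : s.A →* MulAut (↥s.E ⧸ Φ.subgroupOf s.E) :=
    { toFun := fun γ => QuotientGroup.congr _ _ γ.1 (hmap γ.1)
      map_one' := MulEquiv.ext fun x => by
        obtain ⟨x, rfl⟩ := QuotientGroup.mk'_surjective _ x
        rfl
      map_mul' := fun _ _ => MulEquiv.ext fun x => by
        obtain ⟨x, rfl⟩ := QuotientGroup.mk'_surjective _ x
        rfl }
  have hψ : ∀ (γ : s.A) (x : s.E), ψ γ (π x) = π (γ.1 x) := fun _ _ => rfl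
  have hV : IsPGroup p (↥s.E ⧸ Φ.subgroupOf s.E) := (hG.to_subgroup _).to_quotient _
  let cjA : G → s.A := fun h => ⟨s.cj h, s.cj_mem h⟩
  set σ := ψ (cjA g) with hσdef
  have hdispσ : ∀ x : s.E, disp σ (π x) = π ⟨⁅g, (x : G)⁆, s.comm_mem_E g x.2⟩ := by
    intro x
    show σ (π x) * (π x)⁻¹ = _
    rw [hσdef, hψ, ← map_inv, ← map_mul]
    refine congrArg π (Subtype.ext ?_)
    show (s.cj g x : G) * (x : G)⁻¹ = ⁅g, (x : G)⁆
    rw [commutatorElement_def, s.cj_apply]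
  have hψE : ∀ e ∈ s.E, ψ (cjA e) = 1 := by
    intro e he
    refine MulEquiv.ext fun v => ?_
    obtain ⟨x, rfl⟩ := QuotientGroup.mk'_surjective _ v
    rw [hψ, MulAut.one_apply]
    refine mul_inv_eq_one.1 ?_
    rw [← map_inv, ← map_mul, hπ, Subgroup.coe_mul, Subgroup.coe_inv]
    show (s.cj e x : G) * (x : G)⁻¹ ∈ Φ
    rw [s.cj_apply]
    exact comm_mem_phi he x.2
  have hσp : σ ^ p = 1 := by
    rw [hσdef, ← map_pow, ← hψE _ (s.pow_mem g)]
    exact congrArg ψ (Subtype.ext (map_pow s.cj g p).symm)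
  have hfix : (fixSub σ).comap π = (dC g Φ s.E).subgroupOf s.E := by
    ext x
    rw [Subgroup.mem_comap, fixSub, MonoidHom.mem_ker, hdispσ, hπ, Subgroup.mem_subgroupOf]
    exact ⟨fun h => ⟨x.2, h⟩, fun h => h.2⟩
  have hσi : (fixSub σ).index = p := by
    rw [← Subgroup.index_comap_of_surjective (fixSub σ) (QuotientGroup.mk'_surjective _), hfix]
    exact hC
  have hσ1 : σ ≠ 1 := fun h => hp.out.one_lt.ne' (by
    rw [← hσi, show fixSub σ = ⊤ from eq_top_iff.2 fun y _ => mem_fixSub.2 (by rw [h]; rfl),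
      Subgroup.index_top])
  have hσt : IsTransvection p σ := by
    refine ⟨orderOf_eq_prime hσp hσ1, hσi, fun y => ?_⟩
    obtain ⟨x, rfl⟩ := QuotientGroup.mk'_surjective _ y
    rw [← mem_fixSub, fixSub, MonoidHom.mem_ker, hdispσ, hdispσ, hπ]
    exact hsq x x.2
  have hσmem : σ ∈ ψ.range := ⟨_, rfl⟩
  -- the `p`-subgroups of the image
  have hA : ∀ M ≤ ψ.range, IsPGroup p M → Nat.card M ≤ p := by
    intro M hM hMp
    let T : Sylow p s.A :=
      { toSubgroup := s.cj.range.subgroupOf s.A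
        isPGroup' := (s.isPGroup_range hG).comap_of_injective s.A.subtype Subtype.val_injective
        is_maximal' := fun {Q} hQ hle => le_antisymm (fun x hx => s.syl _ (Subgroup.map_subtype_le _)
            (hQ.map _) (fun y hy => by
              obtain ⟨h, rfl⟩ := hy
              exact ⟨cjA h, hle (show cjA h ∈ s.cj.range.subgroupOf s.A from ⟨h, rfl⟩), rfl⟩)
            ⟨x, hx, rfl⟩) hle }
    let T' : Sylow p ψ.range := T.mapSurjective ψ.rangeRestrict_surjective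
    obtain ⟨Q, hQ⟩ := (hMp.comap_of_injective ψ.range.subtype Subtype.val_injective).exists_le_sylow
    calc Nat.card M = Nat.card (M.subgroupOf ψ.range) :=
          (Nat.card_congr (Subgroup.subgroupOfEquivOfLe hM).toEquiv).symm
      _ ≤ Nat.card Q := Subgroup.card_le_of_le hQ
      _ = Nat.card T' := by rw [Q.card_eq_multiplicity, T'.card_eq_multiplicity]
      _ ≤ Nat.card ((Subgroup.zpowers σ).subgroupOf ψ.range) := by
          refine Subgroup.card_le_of_le ?_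
          rintro _ ⟨x, ⟨h, hh⟩, rfl⟩
          obtain ⟨n, e, he, rfl⟩ := s.exists_pow_mul hg h
          have hx : x = cjA g ^ n * cjA e := Subtype.ext (hh.symm.trans (by
            rw [map_mul, map_pow]; rfl))
          show ψ x ∈ Subgroup.zpowers σ
          rw [hx, map_mul, map_pow, hψE e he, mul_one]
          exact Subgroup.npow_mem_zpowers σ n
      _ = p := by
          rw [Nat.card_congr (Subgroup.subgroupOfEquivOfLe (Subgroup.zpowers_le.2 hσmem)).toEquiv,
            Nat.card_zpowers, hσt.order]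
  -- a second transvection
  obtain ⟨α, hα, hnp⟩ := s.exists_pair hG hg
  set τ := ψ ⟨α * s.cj g * α⁻¹, s.pair_le_A hα (s.conj_mem_pair g α)⟩ with hτdef
  have hτt : IsTransvection p τ := by
    have e : τ = ψ ⟨α, hα⟩ * σ * (ψ ⟨α, hα⟩)⁻¹ := by
      rw [hτdef, hσdef, ← map_inv, ← map_mul, ← map_mul]; rfl
    rw [e]
    exact hσt.conj _
  have hne : τ ∉ Subgroup.zpowers σ := by
    intro hmem
    refine s.not_all_fixed hnp fun γ hγ hco => fix_of_phi hG hco le_rfl (fun x _ => (γ x).2) ?_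
    have hle : s.pair g α ≤ ((Subgroup.zpowers σ).comap ψ).map s.A.subtype :=
      s.pair_induction hg ⟨cjA g, Subgroup.mem_zpowers σ, rfl⟩
        (fun e he => ⟨cjA e, by
          rw [SetLike.mem_coe, Subgroup.mem_comap, hψE e he]; exact Subgroup.one_mem _, rfl⟩)
        ⟨_, hmem, rfl⟩
    obtain ⟨δ, hδ, rfl⟩ := hle hγ
    have h1 : ψ δ ^ p = 1 := by
      obtain ⟨i, hi⟩ := hδ
      simp only at hi
      rw [← hi, ← zpow_natCast, ← zpow_mul, mul_comm, zpow_mul, zpow_natCast, hσp, one_zpow]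
    have h2 : ψ δ ^ orderOf (s.A.subtype δ) = 1 := by
      rw [← map_pow, show δ ^ orderOf (s.A.subtype δ) = 1 from
        Subtype.ext (pow_orderOf_eq_one (s.A.subtype δ)), map_one]
    have h3 := pow_gcd_eq_one.2 ⟨h2, h1⟩
    rw [hco.gcd_eq_one, pow_one] at h3
    intro x hx
    have h4 : π (δ.1 x) = π x := by rw [← hψ, h3]; rfl
    have h5 : x⁻¹ * δ.1 x ∈ Φ.subgroupOf s.E := QuotientGroup.eq.1 h4.symm
    exact h5
  obtain ⟨τ', z, z', hτ'A, P, -, -⟩ := FusionClosed.exists_pair hV hA hσmem ⟨_, rfl⟩ hσt hτt hne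
  set C₀ := fixSub σ ⊓ fixSub τ'
  have hinv : ∀ γ : s.A, ∀ c ∈ C₀, ψ γ c ∈ C₀ := by
    intro γ c hc
    have h : ∀ ρ ∈ ψ.range, IsTransvection p ρ → ρ (ψ γ c) = ψ γ c := by
      intro ρ hρA hρ
      have h1 := mem_fixSub.1 (fix_le_of_pair hV hA P hσmem hτ'A
        (ψ.range.mul_mem (ψ.range.mul_mem (inv_mem ⟨γ, rfl⟩) hρA) (inv_mem (inv_mem ⟨γ, rfl⟩)))
        (hρ.conj (ψ γ)⁻¹) hc)
      rw [MulAut.mul_apply, MulAut.mul_apply, inv_inv] at h1
      have h2 := congrArg (ψ γ) h1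
      rwa [MulAut.apply_inv_self] at h2
    exact Subgroup.mem_inf.2 ⟨mem_fixSub.2 (h σ hσmem hσt), mem_fixSub.2 (h τ' hτ'A P.right)⟩
  have hC0 : Nat.card C₀ = p := by
    have h1 : Nat.card (fixSub σ) * p = p ^ 3 := by
      have h2 := (fixSub σ).card_mul_index
      rw [hσi] at h2
      rw [h2, ← h3, Subgroup.relIndex, Subgroup.index_eq_card]
    have h2 : C₀.relIndex (fixSub σ) = p := by
      rw [Subgroup.inf_relIndex_left, fixSub, Subgroup.relIndex_ker]
      refine Eq.trans ?_ (orderOf_eq_prime P.z'_pow P.z'_ne)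
      rw [← Nat.card_zpowers]
      refine congrArg (fun H : Subgroup _ => Nat.card H) (le_antisymm ?_ ?_)
      · rintro _ ⟨y, -, rfl⟩
        rw [← P.z'_range]
        exact ⟨y, rfl⟩
      · exact Subgroup.zpowers_le.2 ⟨z, P.disp_left_z, P.right_apply⟩
    have h3' := Subgroup.relIndex_mul_relIndex (⊥ : Subgroup _) C₀ (fixSub σ) bot_le inf_le_left
    rw [Subgroup.relIndex_bot_left, Subgroup.relIndex_bot_left, h2] at h3'
    rw [← h3', mul_assoc, pow_succ, pow_two] at h1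
    exact mul_right_cancel₀ (mul_ne_zero hp.out.ne_zero hp.out.ne_zero) (by linarith)
  set L := (C₀.comap π).map s.E.subtype with hL
  have hmemL : ∀ x : s.E, (x : G) ∈ L ↔ π x ∈ C₀ := fun x =>
    ⟨fun ⟨y, hy, hyx⟩ => (Subtype.ext hyx : y = x) ▸ hy, fun h => ⟨x, h, rfl⟩⟩
  have hLE : L ≤ s.E := Subgroup.map_subtype_le _
  have hLinv : ∀ α ∈ s.A, Pres α L := fun α hα x hx =>
    (hmemL _).2 (by rw [← hψ ⟨α, hα⟩]; exact hinv _ _ ((hmemL x).1 hx))
  have hΦL : Φ ≤ L := fun x hx => (hmemL ⟨x, hΦE hx⟩).2 (by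
    rw [(hπ ⟨x, hΦE hx⟩).2 hx]; exact C₀.one_mem)
  refine ⟨L, s.normal_of_inv hLE hLinv, hΦL, fun x hx => ?_, hLinv, ?_, ?_⟩
  · have h1 : (⟨x, hLE hx⟩ : s.E) ∈ (fixSub σ).comap π :=
      (Subgroup.mem_inf.1 ((hmemL ⟨x, hLE hx⟩).1 hx)).1
    rw [hfix] at h1
    exact h1
  · refine Eq.trans ?_ hC0
    rw [← Subgroup.relIndex_bot_left C₀]
    have h1 : (⊥ : Subgroup _).comap π = Φ.subgroupOf s.E := (MonoidHom.comap_bot π).trans
      (QuotientGroup.ker_mk' _)
    calc Φ.relIndex L = (Φ.comap s.E.subtype).relIndex (C₀.comap π) :=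
          (Subgroup.relIndex_comap Φ s.E.subtype _).symm
      _ = ((⊥ : Subgroup _).comap π).relIndex (C₀.comap π) := by rw [h1]; rfl
      _ = (⊥ : Subgroup _).relIndex ((C₀.comap π).map π) := Subgroup.relIndex_comap _ π _
      _ = _ := by rw [Subgroup.map_comap_eq_self_of_surjective (QuotientGroup.mk'_surjective _)]
  · obtain ⟨x, hx⟩ := QuotientGroup.mk'_surjective _ z'
    refine ⟨x, x.2, fun hmem => P.z_ne ?_⟩
    have h1 := (hmemL ⟨_, s.comm_mem_E g x.2⟩).1 hmem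
    rw [← hdispσ, show π x = z' from hx, P.left_apply] at h1
    have h2 := P.zpow_mul_mem_fix (a := 1) (b := 0) (by rwa [zpow_one, zpow_zero, mul_one])
    rwa [zpow_one, zpow_zero, mul_one] at h2

end Side

end CfsgLib.FusionTwoEssentials
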