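import Cfsg.Agent.FusionTwoEssentials.Pair
import Cfsg.Agent.FusionTwoEssentials.Line

/-!
# The intersection of two sides is invariant under neither automorphism group
-/

set_option autoImplicit false

namespace CfsgLib.FusionTwoEssentials

open scoped commutatorElement

variable {G : Type*} [Group G] [Finite G] {p : ℕ} [hp : Fact p.Prime] {B B' : Subgroup (MulAut G)}

namespace Side

variable (s : Side p B) (t : Side p B') (hG : IsPGroup p G)

include hG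

/-- A `pair` cannot act trivially on a series of the intersection with factors below the
Frattini subgroup. -/
theorem not_triv_phi (hne : s.E ≠ t.E) (hinv : ∀ γ ∈ s.A, Pres γ (s.E ⊓ t.E)) {u : G}
    (hu : u ∉ s.E) {α : MulAut s.E} (hα : α ∈ s.A) (hnp : ¬ IsPGroup p (s.pair u α))
    (h : ∀ γ ∈ s.pair u α, (orderOf γ).Coprime p →
      Triv γ (phi p (s.E ⊓ t.E)) (s.E ⊓ t.E)) : False := by
  refine s.not_all_fixed hnp fun γ hγ hco => fix_step hG hco
    (fix_of_phi hG hco inf_le_left (hinv γ (s.pair_le_A hα hγ)) (h γ hγ hco)) ?_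
  exact s.pair_triv_of_index hG hu (s.inf_normal t) s.normal le_rfl inf_le_left
    (s.relIndex_inf t hG hne).le (s.pres_conj_of_inv hinv hα) (fun x _ => Subtype.prop _) γ hγ

variable (hp2 : p ≠ 2) (hrk : Rank3 p G) (hne : s.E ≠ t.E)
  (hinv : ∀ γ ∈ s.A, Pres γ (s.E ⊓ t.E))

include hrk hne hinv

/-- Commutators of `E` with the intersection lie in its Frattini subgroup. -/
theorem comm_mem_phi_inf :
    ∀ e ∈ s.E, ∀ z ∈ s.E ⊓ t.E, ⁅e, z⁆ ∈ phi p (s.E ⊓ t.E) := by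
  set D := s.E ⊓ t.E with hD
  set Φ := phi p D with hΦ
  haveI hDn : D.Normal := s.inf_normal t
  haveI hΦn : Φ.Normal := phi_normal hDn
  obtain ⟨x, hx, hxt⟩ := s.exists_mem_not_mem t hne
  by_contra hcon
  have hDD : ∀ a ∈ D, ∀ b ∈ D, ⁅a, b⁆ ∈ Φ := fun a ha b hb => comm_mem_phi ha hb
  have hxD : ∃ z ∈ D, ⁅x, z⁆ ∉ Φ := by
    by_contra hno
    push Not at hno
    refine hcon fun e he => ?_
    obtain ⟨n, d, hd, rfl⟩ := s.exists_form t hx hxt he
    exact (commInto Φ D).mul_mem ((commInto Φ D).pow_mem (show x ∈ commInto Φ D from hno) n)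
      (show d ∈ commInto Φ D from fun z hz => hDD d hd z hz)
  set R := dR x Φ D with hR
  set C := dC x Φ D with hC
  have hRD : R ≤ D := dR_le phi_le_self
  have hxR : ∀ e ∈ s.E, ∀ z ∈ D, ⁅e, z⁆ ∈ R := by
    have hpow : ∀ n : ℕ, ∀ z ∈ D, ⁅x ^ n, z⁆ ∈ R := by
      intro n
      induction n with
      | zero => intro z _; rw [pow_zero, commutatorElement_one_left]; exact R.one_mem
      | succ n ih =>
        intro z hz
        rw [pow_succ', comm_mul_left, conj_eq_comm_mul]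
        exact R.mul_mem (R.mul_mem (comm_mem_dR (hRD (ih z hz))) (ih z hz)) (comm_mem_dR hz)
    intro e he z hz
    obtain ⟨n, d, hd, rfl⟩ := s.exists_form t hx hxt he
    rw [comm_mul_left]
    exact R.mul_mem (le_dR (hΦn.conj_mem _ (hDD d hd z hz) (x ^ n))) (hpow n z hz)
  have hCE : ∀ z ∈ C, ∀ e ∈ s.E, ⁅z, e⁆ ∈ Φ := by
    intro z hz e he
    obtain ⟨n, d, hd, rfl⟩ := s.exists_form t hx hxt he
    have h : x ^ n * d ∈ dC z Φ s.E := (dC z Φ s.E).mul_mem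
      ((dC z Φ s.E).pow_mem ⟨hx, by rw [← comm_swap]; exact Φ.inv_mem hz.2⟩ n)
      ⟨hd.1, hDD z hz.1 d hd⟩
    exact h.2
  have hΦD : Φ ≤ D := phi_le_self
  have hDE : D ≤ s.E := inf_le_left
  have hRinv : ∀ γ ∈ s.A, Pres γ R := by
    intro γ hγ
    have hle : R ≤ ((R.subgroupOf s.E).comap γ.toMonoidHom).map s.E.subtype := by
      refine sup_le (fun y hy => ?_) ((Subgroup.closure_le _).2 ?_)
      · exact ⟨⟨y, hDE (hΦD hy)⟩, le_dR (pres_phi hDE (hinv γ hγ) _ hy), rfl⟩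
      · rintro _ ⟨z, hz, rfl⟩
        refine ⟨⁅(⟨x, hx⟩ : s.E), ⟨z, hDE hz⟩⁆, ?_, map_commutatorElement s.E.subtype _ _⟩
        show ((γ ⁅(⟨x, hx⟩ : s.E), ⟨z, hDE hz⟩⁆ : s.E) : G) ∈ R
        rw [map_commutatorElement]
        exact hxR _ (γ _).2 _ (hinv γ hγ ⟨z, hDE hz⟩ hz)
    intro y hy
    obtain ⟨y', hy', hyy⟩ := hle hy
    obtain rfl : y' = y := Subtype.ext hyy
    exact hy'
  have hCinv : ∀ γ ∈ s.A, Pres γ C := by
    intro γ hγ y hy
    refine ⟨hinv γ hγ y hy.1, ?_⟩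
    obtain ⟨e, he⟩ := γ.surjective ⟨x, hx⟩
    have h := pres_phi hDE (hinv γ hγ) ⁅e, y⁆ (by
      rw [← comm_swap]
      exact Φ.inv_mem (hCE _ hy e e.2))
    rw [map_commutatorElement, he] at h
    exact h
  have hCD : C ≤ D := fun z hz => hz.1
  have hRn : R.Normal := s.normal_of_inv (hRD.trans hDE) hRinv
  have hCn : C.Normal := s.normal_of_inv (hCD.trans hDE) hCinv
  -- the orders of the factors
  obtain ⟨hidx, -⟩ := relIndex_dC hDD x
  have h3 : Φ.relIndex D ≤ p ^ 3 := hrk Φ D hΦD hDD fun a ha => pow_mem_phi ha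
  have hΦC : Φ ≤ C := le_dC hΦD
  have hmul : Φ.relIndex C * Φ.relIndex R = Φ.relIndex D := by
    rw [← hidx, Subgroup.relIndex_mul_relIndex _ _ _ hΦC hCD]
  have hr1 : ¬ R ≤ Φ := fun h => by
    obtain ⟨z, hz, hz'⟩ := hxD
    exact hz' (h (comm_mem_dR hz))
  obtain ⟨r₀, hr₀, hr₀Φ, hr₀c⟩ := exists_central_mod hG hRn hr1
  have hr₀C : r₀ ∈ C := ⟨hRD hr₀, hr₀c x⟩
  have hc1 : ¬ C ≤ Φ := fun h => hr₀Φ (h hr₀C)
  obtain ⟨a, ha⟩ := exists_relIndex_eq hG Φ C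
  obtain ⟨b, hb⟩ := exists_relIndex_eq hG Φ R
  have ha1 : 1 ≤ a := by
    rcases a with _ | a
    · exact absurd (Subgroup.relIndex_eq_one.1 ha) hc1
    · omega
  have hb1 : 1 ≤ b := by
    rcases b with _ | b
    · exact absurd (Subgroup.relIndex_eq_one.1 hb) hr1
    · omega
  have hab : a + b ≤ 3 := by
    rw [← hmul, ha, hb, ← pow_add] at h3
    exact (Nat.pow_le_pow_iff_right hp.out.one_lt).1 h3
  obtain ⟨u, hut, hus⟩ := t.exists_mem_not_mem s hne.symm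
  obtain ⟨α, hα, hnp⟩ := s.exists_pair hG hus
  have hp1 : p ^ 1 = p := pow_one p
  have key : ∀ {M N : Subgroup G}, M.Normal → N.Normal → N ≤ D → M ≤ N → M.relIndex N ≤ p →
      (∀ γ ∈ s.A, Pres γ M) → (∀ γ ∈ s.A, Pres γ N) → ∀ γ ∈ s.pair u α, Triv γ M N :=
    fun hM hN hND hMN hi hM' hN' => s.pair_triv_of_index hG hus hM hN (hND.trans hDE) hMN hi
      (s.pres_conj_of_inv hM' hα) (s.pres_conj_of_inv hN' hα)
  refine s.not_triv_phi t hG hne hinv hus hα hnp fun γ hγ hco => ?_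
  have hpΦ : ∀ δ ∈ s.A, Pres δ Φ := fun δ hδ => pres_phi hDE (hinv δ hδ)
  have hC' := key hΦn hCn hCD hΦC
  by_cases hb2 : b = 1
  · -- `R ≤ C`
    have hRC : R ≤ C := fun r hr => ⟨hRD hr, comm_mem_of_relIndex hG hΦn hRn
      (by rw [hb, hb2, hp1]) x hr⟩
    have h1 := key hΦn hRn hRD le_dR (by rw [hb, hb2, hp1]) hpΦ hRinv γ hγ
    have h2 : R.relIndex C ≤ p := by
      have h := Subgroup.relIndex_mul_relIndex Φ R C le_dR hRC
      rw [hb, hb2, ha] at h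
      have h' : p ^ 1 * R.relIndex C ≤ p ^ 2 := h ▸ Nat.pow_le_pow_right hp.out.pos (by omega)
      rw [pow_one, pow_two] at h'
      exact Nat.le_of_mul_le_mul_left h' hp.out.pos
    have h3 := key hCn hDn le_rfl hCD (by rw [hidx, hb, hb2, hp1]) hCinv hinv γ hγ
    have h4 := key hRn hCn hCD hRC h2 hRinv hCinv γ hγ
    exact triv_trans hG hco (hpΦ γ (s.pair_le_A hα hγ)) h1
      (triv_trans hG hco (hL := hRn) (hRinv γ (s.pair_le_A hα hγ)) h4 h3)
  · -- `C ≤ R`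
    obtain ⟨ha', hb'⟩ : a = 1 ∧ b = 2 := by omega
    have hCR : C ≤ R := by
      have hL : Φ ⊔ Subgroup.zpowers r₀ ≤ C := sup_le hΦC (Subgroup.zpowers_le.2 hr₀C)
      have h := Subgroup.relIndex_mul_relIndex Φ _ C le_sup_left hL
      rw [relIndex_sup_zpowers (pow_mem_phi (hRD hr₀)) hr₀Φ, ha, ha', hp1] at h
      exact (Subgroup.relIndex_eq_one.1 (Nat.eq_of_mul_eq_mul_left hp.out.pos (h.trans (mul_one p).symm))).trans
        (sup_le le_dR (Subgroup.zpowers_le.2 hr₀))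
    have h1 := hC' (by rw [ha, ha', hp1]) hpΦ hCinv γ hγ
    have h2 : C.relIndex R ≤ p := by
      have h := Subgroup.relIndex_mul_relIndex Φ C R hΦC hCR
      rw [hb, hb', ha, ha', pow_one, pow_two] at h
      exact (Nat.eq_of_mul_eq_mul_left hp.out.pos h).le
    have h3 : R.relIndex D ≤ p := by
      have h := Subgroup.relIndex_mul_relIndex Φ R D le_dR hRD
      rw [← hmul, hb, ha, ha', hp1, mul_comm p] at h
      exact (Nat.eq_of_mul_eq_mul_left (pow_pos hp.out.pos b) h).le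
    exact triv_trans hG hco (hpΦ γ (s.pair_le_A hα hγ)) h1
      (triv_trans hG hco (hL := hCn) (hCinv γ (s.pair_le_A hα hγ))
        (key hCn hRn hRD hCR h2 hCinv hRinv γ hγ)
        (key hRn hDn le_rfl hRD h3 hRinv hinv γ hγ))

theorem comm_mem_phi_abelian : ∀ a ∈ s.E, ∀ b ∈ s.E, ⁅a, b⁆ ∈ phi p (s.E ⊓ t.E) := by
  haveI : (phi p (s.E ⊓ t.E)).Normal := phi_normal (s.inf_normal t)
  obtain ⟨x, hx, hxt⟩ := s.exists_mem_not_mem t hne
  have h := s.comm_mem_phi_inf t hG hrk hne hinv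
  set Φ := phi p (s.E ⊓ t.E)
  have hxx : ∀ b ∈ s.E, ⁅x, b⁆ ∈ Φ := by
    intro b hb
    obtain ⟨n, d, hd, rfl⟩ := s.exists_form t hx hxt hb
    exact ((dC x Φ s.E).mul_mem
      ((dC x Φ s.E).pow_mem ⟨hx, by rw [commutatorElement_self]; exact Φ.one_mem⟩ n)
      ⟨hd.1, h x hx d hd⟩).2
  intro a ha
  obtain ⟨n, d, hd, rfl⟩ := s.exists_form t hx hxt ha
  exact (commInto Φ s.E).mul_mem ((commInto Φ s.E).pow_mem (show x ∈ commInto Φ s.E from hxx) n)
    (fun b hb => by rw [← comm_swap]; exact Φ.inv_mem (h b hb d hd))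

include hp2

/-- Over an invariant subgroup of index `p ^ 2` in the intersection some element outside the other
side is central modulo it. -/
theorem exists_central_outside {M : Subgroup G} (hMn : M.Normal)
    (hM : ∀ γ ∈ s.A, Pres γ M) (hΦM : phi p (s.E ⊓ t.E) ≤ M) (hMD : M ≤ s.E ⊓ t.E)
    (hidx : M.relIndex (s.E ⊓ t.E) = p ^ 2) (hle : (phi p (s.E ⊓ t.E)).relIndex M ≤ p) :
    ∃ x ∈ s.E, x ∉ t.E ∧ ∀ g : G, ⁅g, x⁆ ∈ M := by
  set D := s.E ⊓ t.E with hD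
  haveI hDn : D.Normal := s.inf_normal t
  haveI hΦn : (phi p D).Normal := phi_normal hDn
  haveI := hMn
  have hDE : D ≤ s.E := inf_le_left
  have hab := s.comm_mem_phi_abelian t hG hrk hne hinv
  obtain ⟨u, hut, hus⟩ := t.exists_mem_not_mem s hne.symm
  obtain ⟨α, hα, hnp⟩ := s.exists_pair hG hus
  have hnp' : ¬ ∀ γ ∈ s.pair u α, (orderOf γ).Coprime p → Triv γ M D := fun h =>
    s.not_triv_phi t hG hne hinv hus hα hnp fun γ hγ hco =>
      triv_trans hG hco (pres_phi hDE (hinv γ (s.pair_le_A hα hγ)))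
        (s.pair_triv_of_index hG hus hΦn hMn (hMD.trans hDE) hΦM hle
          (s.pres_conj_of_inv (fun δ hδ => pres_phi hDE (hinv δ hδ)) hα)
          (s.pres_conj_of_inv hM hα) γ hγ) (h γ hγ hco)
  obtain ⟨β, hβ, γ, hγ, hβγ, ⟨a, ha⟩, hβg, hβM⟩ := s.exists_inverting hG hp2 hDE hMD hidx
    (fun y hy z hz => hΦM (comm_mem_phi hy hz)) (fun y hy => hΦM (pow_mem_phi hy))
    (fun e he z hz => hΦM (hab e he z (hDE hz))) hus hα
    (fun δ hδ => hM δ (s.pair_le_A hα hδ)) (fun δ hδ => hinv δ (s.pair_le_A hα hδ)) hnp'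
  obtain ⟨x, hx, hxt⟩ := s.exists_mem_not_mem t hne
  have hxβ : x⁻¹ * β x ∈ D := by
    have h := s.pair_triv_of_index hG hus hDn s.normal le_rfl hDE (s.relIndex_inf t hG hne).le
      (s.pres_conj_of_inv hinv hα) (fun y _ => Subtype.prop _) γ hγ ⟨x, hx⟩ hx
    rwa [← hβγ] at h
  obtain ⟨y, hy, hβy⟩ := exists_fixed hp2 hG ha D (fun m hm => by
    rw [hβγ ⟨m, hDE hm⟩]
    exact hinv γ (s.pair_le_A hα hγ) _ hm) hxβ
  have hys : y ∈ s.E := by simpa using s.E.mul_mem hx hy.1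
  have hyt : y ∉ t.E := fun h => hxt (by simpa using t.E.mul_mem h (t.E.inv_mem hy.2))
  refine ⟨y, hys, hyt, fun g => mem_of_fixed_inverted hG hp2 ?_ (hβM _ (s.comm_mem_inf t hG g hys))⟩
  have he := hβg g
  have h1 : β ⁅g, y⁆ = g * ⁅g⁻¹ * β g, y⁆ * g⁻¹ * ⁅g, y⁆ := by
    rw [map_commutatorElement, hβy, ← comm_mul_left, mul_inv_cancel_left]
  rw [h1]
  have h2 := hMn.conj_mem _ (hMn.conj_mem _ (hΦM (hab _ he y hys)) g) ⁅g, y⁆⁻¹
  rwa [inv_inv, mul_assoc (⁅g, y⁆⁻¹)] at h2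

omit hinv in
/-- The intersection is not invariant. -/
theorem not_inv : ¬ ∀ γ ∈ s.A, Pres γ (s.E ⊓ t.E) := by
  intro hinv
  set D := s.E ⊓ t.E with hD
  haveI hDn : D.Normal := s.inf_normal t
  set Φ := phi p D with hΦdef
  haveI hΦn : Φ.Normal := phi_normal hDn
  have hDE : D ≤ s.E := inf_le_left
  have hΦD : Φ ≤ D := phi_le_self
  have hpΦ : ∀ δ ∈ s.A, Pres δ Φ := fun δ hδ => pres_phi hDE (hinv δ hδ)
  have hab := s.comm_mem_phi_abelian t hG hrk hne hinv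
  set Φ₂ := phi p t.E with hΦ₂
  haveI hΦ₂n : Φ₂.Normal := phi_normal t.normal
  have hΦ₂' : Φ ≤ Φ₂ := phi_mono inf_le_right
  have h3 : Φ.relIndex D ≤ p ^ 3 := hrk Φ D hΦD (fun a ha b hb => comm_mem_phi ha hb)
    fun a ha => pow_mem_phi ha
  have hsmall : ¬ Φ.relIndex D ≤ p := fun h => by
    obtain ⟨u, hut, hus⟩ := t.exists_mem_not_mem s hne.symm
    obtain ⟨α, hα, hnp⟩ := s.exists_pair hG hus
    exact s.not_triv_phi t hG hne hinv hus hα hnp fun γ hγ _ => s.pair_triv_of_index hG hus hΦn hDn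
      hDE hΦD h (s.pres_conj_of_inv hpΦ hα) (s.pres_conj_of_inv hinv hα) γ hγ
  rcases relIndex_cases hG h3 with h | h | h | h
  · exact hsmall (by rw [Subgroup.relIndex_eq_one.2 h]; exact hp.out.one_lt.le)
  · exact hsmall h.le
  · obtain ⟨x, -, hxt, hxc⟩ := s.exists_central_outside t hG hp2 hrk hne hinv hΦn hpΦ le_rfl hΦD h
      (by rw [Subgroup.relIndex_self]; exact hp.out.one_lt.le)
    exact t.not_trivial_phi hG hxt fun z _ => by
      rw [← comm_swap]; exact Φ₂.inv_mem (hΦ₂' (hxc z))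
  -- `E` is not elementary over `Φ`
  obtain ⟨x₀, hx₀, hx₀t⟩ := s.exists_mem_not_mem t hne
  have hpowmul : ∀ a ∈ s.E, ∀ b ∈ s.E, (a ^ p * b ^ p)⁻¹ * (a * b) ^ p ∈ Φ := by
    intro a ha b hb
    rw [← QuotientGroup.eq_one_iff, QuotientGroup.mk_mul, QuotientGroup.mk_inv,
      QuotientGroup.mk_mul, QuotientGroup.mk_pow, QuotientGroup.mk_pow, QuotientGroup.mk_pow,
      QuotientGroup.mk_mul, (show Commute (a : G ⧸ Φ) b from
        commutatorElement_eq_one_iff_mul_comm.1 (by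
          rw [← QuotientGroup.mk'_apply Φ a, ← QuotientGroup.mk'_apply Φ b, ← map_commutatorElement]
          exact (QuotientGroup.eq_one_iff _).2 (hab a ha b hb))).mul_pow, inv_mul_cancel]
  set L := Φ ⊔ Subgroup.zpowers (x₀ ^ p) with hLdef
  have hpowL : ∀ e ∈ s.E, e ^ p ∈ L := by
    intro e he
    obtain ⟨n, d, hd, rfl⟩ := s.exists_form t hx₀ hx₀t he
    have h1 := hpowmul _ (s.E.pow_mem hx₀ n) d hd.1
    have h2 : (x₀ ^ n) ^ p * d ^ p ∈ L := L.mul_mem (by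
      rw [← pow_mul, mul_comm, pow_mul]
      exact L.pow_mem (Subgroup.mem_sup_right (Subgroup.mem_zpowers _)) n)
      (Subgroup.mem_sup_left (pow_mem_phi hd))
    have h3 := L.mul_mem h2 (Subgroup.mem_sup_left h1 : _ ∈ L)
    rwa [mul_inv_cancel_left] at h3
  have hxΦ : x₀ ^ p ∉ Φ := by
    intro hmem
    have hle : L ≤ Φ := sup_le le_rfl (Subgroup.zpowers_le.2 hmem)
    have h4 := hrk Φ s.E (hΦD.trans hDE) hab fun e he => hle (hpowL e he)
    rw [← Subgroup.relIndex_mul_relIndex Φ D s.E hΦD hDE, h, s.relIndex_inf t hG hne,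
      ← pow_succ] at h4
    exact absurd ((Nat.pow_le_pow_iff_right hp.out.one_lt).1 h4) (by norm_num)
  have hxD : x₀ ^ p ∈ D := s.pow_mem_inf t hG x₀
  have hLD : L ≤ D := sup_le hΦD (Subgroup.zpowers_le.2 hxD)
  have hLinv : ∀ γ ∈ s.A, Pres γ L := by
    intro γ hγ
    have hle : L ≤ ((L.subgroupOf s.E).comap γ.toMonoidHom).map s.E.subtype := by
      refine sup_le (fun y hy => ⟨⟨y, hDE (hΦD hy)⟩, Subgroup.mem_sup_left (hpΦ γ hγ _ hy), rfl⟩)
        (Subgroup.zpowers_le.2 ?_)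
      refine ⟨(⟨x₀, hx₀⟩ : s.E) ^ p, ?_, rfl⟩
      show ((γ ((⟨x₀, hx₀⟩ : s.E) ^ p) : s.E) : G) ∈ L
      rw [map_pow, Subgroup.coe_pow]
      exact hpowL _ (γ _).2
    intro y hy
    obtain ⟨y', hy', hyy⟩ := hle hy
    obtain rfl : y' = y := Subtype.ext hyy
    exact hy'
  have hLn : L.Normal := s.normal_of_inv (hLD.trans hDE) hLinv
  have hΦL : Φ.relIndex L = p := relIndex_sup_zpowers (pow_mem_phi hxD) hxΦ
  have hLidx : L.relIndex D = p ^ 2 := by
    have h4 := Subgroup.relIndex_mul_relIndex Φ L D le_sup_left hLD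
    rw [hΦL, h, pow_succ'] at h4
    exact Nat.eq_of_mul_eq_mul_left hp.out.pos h4
  obtain ⟨x, hx, hxt, hxc⟩ := s.exists_central_outside t hG hp2 hrk hne hinv hLn hLinv le_sup_left
    hLD hLidx hΦL.le
  -- the other side
  obtain ⟨v, hv⟩ : ∃ v, v = x ^ p := ⟨_, rfl⟩
  have hLv : L ≤ Φ₂ ⊔ Subgroup.zpowers v := by
    refine sup_le (hΦ₂'.trans le_sup_left) (Subgroup.zpowers_le.2 ?_)
    obtain ⟨n, d, hd, hnd⟩ := s.exists_form t hx hxt hx₀
    have h1 := hpowmul _ (s.E.pow_mem hx n) d hd.1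
    have h2 : (x ^ n) ^ p * d ^ p ∈ Φ₂ ⊔ Subgroup.zpowers v := Subgroup.mul_mem _ (by
      rw [← pow_mul, mul_comm, pow_mul, ← hv]
      exact Subgroup.pow_mem _ (Subgroup.mem_sup_right (Subgroup.mem_zpowers v)) n)
      (Subgroup.mem_sup_left (hΦ₂' (pow_mem_phi hd)))
    have h5 := Subgroup.mul_mem _ h2
      (Subgroup.mem_sup_left (hΦ₂' h1) : _ ∈ Φ₂ ⊔ Subgroup.zpowers v)
    rw [mul_inv_cancel_left, ← hnd] at h5
    exact h5
  have hcomm2 : ∀ z : G, ⁅x, z⁆ ∈ Φ₂ ⊔ Subgroup.zpowers v := fun z => by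
    rw [← comm_swap]
    exact hLv (L.inv_mem (hxc z))
  have hvΦ : v ∉ Φ₂ := fun hmem => t.not_trivial_phi hG hxt fun z _ =>
    sup_le le_rfl (Subgroup.zpowers_le.2 hmem) (hcomm2 z)
  have hΦ₂D : Φ₂ ≤ D := s.phi_le_inf t hG
  have hDt : D ≤ t.E := inf_le_right
  have hvD : v ∈ D := hv ▸ s.pow_mem_inf t hG x
  have hxv : ⁅x, v⁆ = 1 := by
    rw [commutatorElement_eq_one_iff_mul_comm, hv, ← pow_succ', ← pow_succ]
  have hCD : dC x Φ₂ t.E = D := by
    have hle : D ≤ dC x Φ₂ t.E := fun d hd => ⟨hd.2, hΦ₂' (hab x hx d hd.1)⟩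
    have h4 := Subgroup.relIndex_mul_relIndex D (dC x Φ₂ t.E) t.E hle fun y hy => hy.1
    have hDidx : D.relIndex t.E = p := by
      rw [hD, inf_comm]; exact t.relIndex_inf s hG hne.symm
    rw [hDidx] at h4
    rcases (Nat.dvd_prime hp.out).1 (Dvd.intro _ h4) with h5 | h5
    · exact le_antisymm (Subgroup.relIndex_eq_one.1 h5) hle
    · rw [h5] at h4
      exact absurd (fun z hz =>
        (Subgroup.relIndex_eq_one.1 (Nat.eq_of_mul_eq_mul_left hp.out.pos (h4.trans (mul_one p).symm)) hz).2)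
        (t.not_trivial_phi hG hxt)
  -- a quotient of order `p ^ 2` in which `v` survives
  obtain ⟨M, hMn, hΦM, hMD, hMinv, hMidx, hMle, hvM⟩ : ∃ M : Subgroup G, M.Normal ∧ Φ₂ ≤ M ∧
      M ≤ D ∧ (∀ γ ∈ t.A, Pres γ M) ∧ M.relIndex t.E = p ^ 2 ∧ Φ₂.relIndex M ≤ p ∧ v ∉ M := by
    have hDidx : D.relIndex t.E = p := by
      rw [hD, inf_comm]; exact t.relIndex_inf s hG hne.symm
    have hR : Φ₂.relIndex (Φ₂ ⊔ Subgroup.zpowers v) = p :=
      relIndex_sup_zpowers (pow_mem_phi (hDt hvD)) hvΦ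
    have hRD : Φ₂ ⊔ Subgroup.zpowers v ≤ D := sup_le hΦ₂D (Subgroup.zpowers_le.2 hvD)
    have h3' : Φ₂.relIndex t.E ≤ p ^ 3 := hrk Φ₂ t.E phi_le_self
      (fun a ha b hb => comm_mem_phi ha hb) fun a ha => pow_mem_phi ha
    have hge : p ^ 2 ≤ Φ₂.relIndex t.E := by
      rw [← Subgroup.relIndex_mul_relIndex Φ₂ D t.E hΦ₂D hDt, hDidx, pow_two,
        ← Subgroup.relIndex_mul_relIndex Φ₂ _ D le_sup_left hRD, hR]
      exact Nat.mul_le_mul_right p (Nat.le_mul_of_pos_right p (by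
        obtain ⟨k, hk⟩ := exists_relIndex_eq hG (Φ₂ ⊔ Subgroup.zpowers v) D
        rw [hk]; exact pow_pos hp.out.pos k))
    rcases relIndex_cases hG h3' with h4 | h4 | h4 | h4
    · rw [Subgroup.relIndex_eq_one.2 h4] at hge
      exact absurd hge (not_le.2 (Nat.one_lt_pow two_ne_zero hp.out.one_lt))
    · rw [h4] at hge
      exact absurd hge (not_le.2 (by nlinarith [hp.out.one_lt]))
    · exact ⟨Φ₂, hΦ₂n, le_rfl, hΦ₂D, fun γ _ => pres_phi le_rfl fun y _ => (γ y).2, h4,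
        by rw [Subgroup.relIndex_self]; exact hp.out.one_lt.le, hvΦ⟩
    · obtain ⟨M, hMn, hΦM, hMC, hMinv, hMp, z, hz, hzM⟩ := t.exists_invariant_line hG hxt h4
        (by rw [hCD]; exact hDidx) (fun z _ => by
          have h6 : Φ₂ ⊔ Subgroup.zpowers v ≤ dC x Φ₂ t.E := by
            rw [hCD]; exact hRD
          exact (h6 (hcomm2 z)).2)
      refine ⟨M, hMn, hΦM, hCD ▸ hMC, hMinv, ?_, hMp.le, fun hvM => hzM
        (sup_le hΦM (Subgroup.zpowers_le.2 hvM) (hcomm2 z))⟩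
      have h5 := Subgroup.relIndex_mul_relIndex Φ₂ M t.E hΦM (fun y hy => (hMC hy).1)
      rw [hMp, h4, pow_succ'] at h5
      exact Nat.eq_of_mul_eq_mul_left hp.out.pos h5
  obtain ⟨α, hα, hnp⟩ := t.exists_pair hG hxt
  obtain ⟨β, hβ, γ, hγ, hβγ, -, hβg, hβM⟩ := t.exists_inverting hG hp2 (le_refl t.E)
    (hMD.trans hDt) hMidx (fun y hy z hz => hΦM (comm_mem_phi hy hz))
    (fun y hy => hΦM (pow_mem_phi hy)) (fun e he z hz => hΦM (comm_mem_phi he hz)) hxt hα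
    (fun δ hδ => hMinv δ (t.pair_le_A hα hδ)) (fun δ _ y _ => (δ y).2) (fun hall =>
      t.not_all_fixed hnp fun δ hδ hco => fix_of_phi hG hco le_rfl (fun y _ => (δ y).2)
        (triv_trans hG hco (pres_phi le_rfl fun y _ => (δ y).2)
          (t.pair_triv_of_index hG hxt hΦ₂n hMn (hMD.trans hDt) hΦM hMle
            (pres_phi le_rfl fun y _ => Subtype.prop _) (t.pres_conj_of_inv hMinv hα) δ hδ)
          (hall δ hδ hco)))
  refine hvM (mem_of_fixed_inverted hG hp2 ?_ (hβM v (hDt hvD)))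
  obtain ⟨e, he, hβx⟩ : ∃ e ∈ t.E, β x = x * e := ⟨_, hβg x, (mul_inv_cancel_left x _).symm⟩
  rw [hv, map_pow, hβx, ← hv]
  -- compute in the quotient by `M`
  rw [← QuotientGroup.eq]
  have hMt : ∀ a ∈ t.E, ∀ b ∈ t.E, Commute (a : G ⧸ M) (b : G ⧸ M) := fun a ha b hb =>
    commutatorElement_eq_one_iff_mul_comm.1 (by
      rw [← QuotientGroup.mk'_apply M a, ← QuotientGroup.mk'_apply M b, ← map_commutatorElement]
      exact (QuotientGroup.eq_one_iff _).2 (hΦM (comm_mem_phi ha hb)))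
  have hw : ⁅x, e⁻¹⁆ ∈ t.E := t.comm_mem_E x (t.E.inv_mem he)
  have hwx : Commute ((⁅x, e⁻¹⁆ : G) : G ⧸ M) (x : G ⧸ M) := by
    have hsub : Φ₂ ⊔ Subgroup.zpowers v ≤ dC x Φ₂ ⊤ := sup_le (le_dC le_top)
      (Subgroup.zpowers_le.2 ⟨Subgroup.mem_top v, by rw [hxv]; exact Φ₂.one_mem⟩)
    have h6 := (hsub (hcomm2 e⁻¹)).2
    exact (commutatorElement_eq_one_iff_mul_comm.1 (by
      rw [← QuotientGroup.mk'_apply M x, ← QuotientGroup.mk'_apply M (⁅x, e⁻¹⁆),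
        ← map_commutatorElement]
      exact (QuotientGroup.eq_one_iff _).2 (hΦM h6))).symm
  have hyx : (e : G ⧸ M) * x = x * e * ((⁅x, e⁻¹⁆ : G) : G ⧸ M) := by
    rw [show (x : G ⧸ M) * e = ((x * e : G) : G ⧸ M) from rfl]
    have h7 : (e : G) * x = (x * e) * (e⁻¹ * (x⁻¹ * (e * x))) := by group
    have h8 : e⁻¹ * (x⁻¹ * (e * x)) = x⁻¹ * (⁅x, e⁻¹⁆) * x := by
      simp only [commutatorElement_def]; group
    rw [h8] at h7
    rw [← QuotientGroup.mk_mul, h7]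
    simp only [QuotientGroup.mk_mul, QuotientGroup.mk_inv]
    rw [mul_assoc (x : G ⧸ M)⁻¹, hwx.eq, inv_mul_cancel_left]
  have hzp : ((⁅x, e⁻¹⁆ : G) : G ⧸ M) ^ p = 1 := by
    rw [← QuotientGroup.mk_pow]
    exact (QuotientGroup.eq_one_iff _).2 (hΦM (pow_mem_phi hw))
  have hep : (e : G ⧸ M) ^ p = 1 := by
    rw [← QuotientGroup.mk_pow]
    exact (QuotientGroup.eq_one_iff _).2 (hΦM (pow_mem_phi he))
  have hchoose : p ∣ p.choose 2 := hp.out.dvd_choose_self two_ne_zero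
    (lt_of_le_of_ne hp.out.two_le (Ne.symm hp2))
  obtain ⟨k, hk⟩ := hchoose
  rw [QuotientGroup.mk_pow, QuotientGroup.mk_mul,
    FusionRankTwo.mul_pow_comm hyx hwx (hMt _ hw _ he) p, hep, mul_one, hk, pow_mul, hzp, one_pow,
    mul_one, hv, QuotientGroup.mk_pow]

end Side

end CfsgLib.FusionTwoEssentials
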