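import Cfsg.Agent.FusionTwoEssentials.Frame
import Cfsg.Agent.FusionTwoEssentials.Invariant

/-!
# Both central socles inside the intersection
-/

set_option autoImplicit false

namespace CfsgLib.FusionTwoEssentials

open scoped commutatorElement

variable {G : Type*} [Group G] {p : ℕ} {B B' : Subgroup (MulAut G)}

/-- An automorphism preserves a closure if it maps the generators into it. -/
theorem pres_closure {E : Subgroup G} {γ : MulAut E} {T : Set G} (hT : T ⊆ E)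
    (h : ∀ x : E, (x : G) ∈ T → (γ x : G) ∈ Subgroup.closure T) : Pres γ (Subgroup.closure T) := by
  set H := Subgroup.closure T
  have hle : H ≤ ((H.subgroupOf E).comap γ.toMonoidHom).map E.subtype :=
    (Subgroup.closure_le _).2 fun x hx => ⟨⟨x, hT hx⟩, h ⟨x, hT hx⟩ hx, rfl⟩
  intro y hy
  obtain ⟨y', hy', hyy⟩ := hle hy
  obtain rfl : y' = y := Subtype.ext hyy
  exact hy'

theorem exists_ord [Finite G] [hp : Fact p.Prime] (hG : IsPGroup p G) {x : G} (hx : x ≠ 1) :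
    ∃ y ∈ Subgroup.zpowers x, y ^ p = 1 ∧ y ≠ 1 := by
  obtain ⟨k, hk⟩ := IsPGroup.iff_orderOf.1 hG x
  rcases k with _ | k
  · exact absurd (orderOf_eq_one_iff.1 (by rw [hk, pow_zero])) hx
  · refine ⟨x ^ p ^ k, Subgroup.npow_mem_zpowers x _, ?_, fun h => ?_⟩
    · rw [← pow_mul, ← pow_succ, ← hk, pow_orderOf_eq_one]
    · have h1 := orderOf_dvd_of_pow_eq_one h
      rw [hk] at h1
      exact absurd ((Nat.pow_dvd_pow_iff_le_right hp.out.one_lt).1 h1) (by omega)

/-- A common invariant subgroup of central elements of order `p`. -/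
structure Inv (s : Side p B) (t : Side p B') (N : Subgroup G) : Prop where
  ne_bot : N ≠ ⊥
  le_omega : N ≤ omegaZ p (⊤ : Subgroup G)
  left : ∀ α ∈ s.A, Pres α N
  right : ∀ α ∈ t.A, Pres α N

theorem Inv.symm {s : Side p B} {t : Side p B'} {N : Subgroup G} (h : Inv s t N) : Inv t s N :=
  ⟨h.ne_bot, h.le_omega, h.right, h.left⟩

theorem omegaTop_map {β : MulAut G} {x : G} (hx : x ∈ omegaZ p (⊤ : Subgroup G)) :
    β x ∈ omegaZ p (⊤ : Subgroup G) := by
  refine ⟨Subgroup.mem_top _, by rw [← map_pow, hx.2.1, map_one], fun g _ => ?_⟩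
  obtain ⟨g, rfl⟩ := β.surjective g
  rw [← map_mul, ← map_mul, hx.2.2 g (Subgroup.mem_top g)]

namespace Side

variable [Finite G] [hp : Fact p.Prime] (s : Side p B) (t : Side p B')

theorem omegaTop_le : omegaZ p (⊤ : Subgroup G) ≤ omegaZ p s.E := fun z hz =>
  ⟨s.centralizer_le fun e _ => (hz.2.2 e (Subgroup.mem_top e)).symm, hz.2.1,
    fun e _ => hz.2.2 e (Subgroup.mem_top e)⟩

theorem omegaTop_le_zc : omegaZ p (⊤ : Subgroup G) ≤ zc s.E := fun _ hz =>
  ⟨(s.omegaTop_le hz).1, (s.omegaTop_le hz).2.2⟩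

/-- If the central socle of a side is central, its automorphisms preserve the `B`-invariant
subgroups of it. -/
theorem pres_of_central (hG : IsPGroup p G) (hs : omegaZ p s.E ≤ omegaZ p (⊤ : Subgroup G))
    {N : Subgroup G} (hN : N ≤ omegaZ p (⊤ : Subgroup G)) (hBN : ∀ β ∈ B, ∀ x ∈ N, β x ∈ N) :
    ∀ α ∈ s.A, Pres α N := by
  have := s.finite_aut
  let L : Subgroup (MulAut s.E) :=
    { carrier := {γ | γ ∈ s.A ∧ ∀ x : s.E, (x : G) ∈ omegaZ p s.E → γ x = x}
      one_mem' := ⟨s.A.one_mem, fun x _ => rfl⟩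
      mul_mem' := fun {a b} ha hb => ⟨s.A.mul_mem ha.1 hb.1, fun x hx => by
        rw [MulAut.mul_apply, hb.2 x hx, ha.2 x hx]⟩
      inv_mem' := fun {a} ha => ⟨s.A.inv_mem ha.1, fun x hx => by
        conv_lhs => rw [← ha.2 x hx]
        exact MulAut.inv_apply_self _ a x⟩ }
  have hcj : s.cj.range ≤ L := by
    rintro _ ⟨g, rfl⟩
    exact ⟨s.cj_mem g, fun x hx => Subtype.ext (by
      rw [s.cj_apply, (hs hx).2.2 g (Subgroup.mem_top g), mul_inv_cancel_right])⟩
  intro α hα x hx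
  refine s.apply_mem_of_trivial hG L (fun γ hγ => hγ.1) hcj ?_ ?_ hBN hα hx
  · intro γ hγ l hl
    refine ⟨s.A.mul_mem (s.A.mul_mem hγ hl.1) (s.A.inv_mem hγ), fun y hy => ?_⟩
    rw [MulAut.mul_apply, MulAut.mul_apply, hl.2 _ (pres_omegaZ γ⁻¹ y hy), MulAut.apply_inv_self]
  · intro l hl y hy
    rw [hl.2 y (s.omegaTop_le (hN hy))]
    exact hy

variable (hG : IsPGroup p G) (hp2 : p ≠ 2) (hrk : Rank3 p G) (hne : s.E ≠ t.E)

include hG hp2 hrk hne

/-- An invariant subgroup containing the other socle is not centralized by the intersection. -/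
theorem false_of_centralized (hW : ¬ omegaZ p t.E ≤ omegaZ p (⊤ : Subgroup G)) {D : Subgroup G}
    (hWD : omegaZ p t.E ≤ D) (hDs : D ≤ s.E) (hD : ∀ α ∈ s.A, Pres α D)
    (hc : ∀ e ∈ s.E ⊓ t.E, ∀ d ∈ D, e * d = d * e) : False := by
  refine s.not_inv t hG hp2 hrk hne fun α hα x hx => ⟨(α x).2, ?_⟩
  by_contra hxt
  refine hW fun w hw => ⟨Subgroup.mem_top w, hw.2.1, fun g _ => ?_⟩
  have h1 : ((α⁻¹ ⟨w, hDs (hWD hw)⟩ : s.E) : G) ∈ D := hD _ (s.A.inv_mem hα) _ (hWD hw)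
  have h2 : Commute x (α⁻¹ ⟨w, hDs (hWD hw)⟩) := Subtype.ext (hc _ hx _ h1)
  have h3 := congrArg Subtype.val (h2.map α.toMonoidHom).eq
  simp only [MulEquiv.toMonoidHom_eq_coe, MonoidHom.coe_coe, MulAut.apply_inv_self,
    Subgroup.coe_mul] at h3
  obtain ⟨n, e, he, rfl⟩ := t.exists_pow_mul hxt g
  exact ((show Commute (α x : G) w from h3).pow_left n).mul_left (hw.2.2 e he)

omit hp2 hrk hne in
/-- The conjugates of the other socle, when they commute, span an elementary invariant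
subgroup. -/
theorem exists_span (hWs : omegaZ p t.E ≤ s.E)
    (hc : ∀ α ∈ s.A, ∀ a b : s.E, (a : G) ∈ omegaZ p t.E → (b : G) ∈ omegaZ p t.E →
      a * α b = α b * a) :
    ∃ D : Subgroup G, Elem p D ∧ omegaZ p t.E ≤ D ∧ D ≤ s.E ∧ ∀ α ∈ s.A, Pres α D := by
  set T : Set G := {x | ∃ α ∈ s.A, ∃ a : s.E, (a : G) ∈ omegaZ p t.E ∧ (α a : G) = x} with hT
  have hTs : T ⊆ s.E := by
    rintro _ ⟨α, -, a, -, rfl⟩
    exact (α a).2
  refine ⟨Subgroup.closure T, elem_closure ?_ ?_,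
    fun w hw => Subgroup.subset_closure ⟨1, s.A.one_mem, ⟨w, hWs hw⟩, hw, rfl⟩,
    (Subgroup.closure_le _).2 hTs, fun γ hγ => pres_closure hTs ?_⟩
  · rintro _ ⟨α, hα, a, ha, rfl⟩ _ ⟨γ, hγ, b, hb, rfl⟩
    have h := congrArg α (hc (α⁻¹ * γ) (s.A.mul_mem (s.A.inv_mem hα) hγ) a b ha hb)
    simp only [map_mul, MulAut.mul_apply, MulAut.apply_inv_self] at h
    exact congrArg Subtype.val h
  · rintro _ ⟨α, -, a, ha, rfl⟩
    rw [← Subgroup.coe_pow, ← map_pow, show a ^ p = 1 from Subtype.ext ha.2.1, map_one]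
    rfl
  · rintro x ⟨α, hα, a, ha, hax⟩
    exact Subgroup.subset_closure
      ⟨γ * α, s.A.mul_mem hγ hα, a, ha, by rw [MulAut.mul_apply, show α a = x from Subtype.ext hax]⟩

/-- Two noncentral socles both inside the intersection force noncommuting conjugates. -/
theorem exists_noncommute (hWs : omegaZ p t.E ≤ s.E) (hWt : omegaZ p s.E ≤ t.E)
    (hZt : ¬ omegaZ p t.E ≤ omegaZ p (⊤ : Subgroup G))
    (hZs : ¬ omegaZ p s.E ≤ omegaZ p (⊤ : Subgroup G)) :
    ∃ α ∈ s.A, ∃ a b : s.E, (a : G) ∈ omegaZ p t.E ∧ (b : G) ∈ omegaZ p t.E ∧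
      a * α b ≠ α b * a := by
  by_contra hnc
  push Not at hnc
  obtain ⟨D, hD, hWD, hDs, hDinv⟩ := s.exists_span t hG hWs hnc
  set W₂ := omegaZ p t.E
  set W₁ := omegaZ p s.E
  set Z := omegaZ p (⊤ : Subgroup G)
  haveI : W₂.Normal := omegaZ_normal t.normal
  set T : Set G := (D : Set G) ∪ W₁ with hTdef
  have hTs : T ⊆ s.E := Set.union_subset hDs omegaZ_le
  have hD' : Elem p (Subgroup.closure T) := elem_closure (by
    rintro x (hx | hx) y (hy | hy)
    · exact hD.1 x hx y hy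
    · exact hy.2.2 x (hDs hx)
    · exact (hx.2.2 y (hDs hy)).symm
    · exact elem_omegaZ.1 x hx y hy) (by
    rintro x (hx | hx)
    exacts [hD.2 x hx, hx.2.1])
  have hcard := hrk.card_le hD'
  set U := Subgroup.closure ((W₂ : Set G) ∪ W₁) with hUdef
  have hUD : U ≤ Subgroup.closure T := Subgroup.closure_mono (Set.union_subset_union_left _ hWD)
  have hlt1 : Z < W₂ := lt_of_le_not_ge t.omegaTop_le hZt
  have hlt2 : W₂ < U := by
    refine lt_of_le_of_ne (fun x hx => Subgroup.subset_closure (Or.inl hx)) fun h => hZs fun x hx => ?_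
    have hx2 : x ∈ W₂ := h ▸ Subgroup.subset_closure (Or.inr hx)
    refine ⟨Subgroup.mem_top x, hx.2.1, fun g _ => ?_⟩
    obtain ⟨a, ha, has⟩ := t.exists_mem_not_mem s hne.symm
    obtain ⟨n, e, he, rfl⟩ := s.exists_pow_mul has g
    exact ((show Commute a x from hx2.2.2 a ha).pow_left n).mul_left (hx.2.2 e he)
  have hZ1 : p ≤ Nat.card Z := by
    obtain ⟨z, hz, hz1, hzc⟩ := exists_central_mod (M := ⊥) hG (omegaZ_normal t.normal)
      (fun h => hZt (h.trans bot_le))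
    rw [← Subgroup.relIndex_bot_left]
    refine le_relIndex_of_lt hG fun h => hz1 (h ⟨Subgroup.mem_top z, hz.2.1, fun g _ => ?_⟩)
    exact commutatorElement_eq_one_iff_mul_comm.1 (Subgroup.mem_bot.1 (hzc g))
  have h1 := FusionRankTwo.mul_card_le_of_lt (hG.to_subgroup _) hlt1
  have h2 := FusionRankTwo.mul_card_le_of_lt (hG.to_subgroup _) hlt2
  have h3 : p ^ 3 ≤ Nat.card U := by
    calc p ^ 3 = p * (p * p) := by ring
      _ ≤ p * (p * Nat.card Z) := Nat.mul_le_mul_left p (Nat.mul_le_mul_left p hZ1)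
      _ ≤ p * Nat.card W₂ := Nat.mul_le_mul_left p h1
      _ ≤ _ := h2
  have hUT : Subgroup.closure T = U := (Subgroup.eq_of_le_of_card_ge hUD (hcard.trans h3)).symm
  refine s.false_of_centralized t hG hp2 hrk hne hZt (D := Subgroup.closure T)
    (fun w hw => Subgroup.subset_closure (Or.inl (hWD hw))) ((Subgroup.closure_le _).2 hTs)
    (fun α hα => pres_closure hTs ?_) fun e he d hd => ?_
  · rintro x (hx | hx)
    exacts [Subgroup.subset_closure (Or.inl (hDinv α hα x hx)),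
      Subgroup.subset_closure (Or.inr (pres_omegaZ α x hx))]
  · rw [hUT] at hd
    have hle : U ≤ Subgroup.centralizer {e} := (Subgroup.closure_le _).2 fun w hw => by
      rw [SetLike.mem_coe, Subgroup.mem_centralizer_iff]
      rintro _ rfl
      rcases hw with hw | hw
      exacts [hw.2.2 _ he.2, hw.2.2 _ he.1]
    exact Subgroup.mem_centralizer_iff.1 (hle hd) e rfl

end Side

namespace Side

section

variable [Finite G] [hp : Fact p.Prime] (s t : Side p B)
  (hG : IsPGroup p G) (hp2 : p ≠ 2) (hrk : Rank3 p G) (hne : s.E ≠ t.E)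

include hG hp2 hrk hne

/-- At most one socle is noncentral. -/
theorem omega_central (hWs : omegaZ p t.E ≤ s.E) (hWt : omegaZ p s.E ≤ t.E) :
    omegaZ p t.E ≤ omegaZ p (⊤ : Subgroup G) ∨ omegaZ p s.E ≤ omegaZ p (⊤ : Subgroup G) := by
  by_contra h
  push Not at h
  obtain ⟨hZt, hZs⟩ := h
  have F₁ := s.isFrame t hG hp2 hrk hne hWs (s.exists_noncommute t hG hp2 hrk hne hWs hWt hZt hZs)
  have F₂ := t.isFrame s hG hp2 hrk hne.symm hWt
    (t.exists_noncommute s hG hp2 hrk hne.symm hWt hWs hZs hZt)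
  obtain ⟨x, hx, hxt⟩ := s.exists_mem_not_mem t hne
  obtain ⟨u, hu, hus⟩ := t.exists_mem_not_mem s hne.symm
  obtain ⟨a, haW, -, hgen⟩ := F₁.gen
  obtain ⟨β, hβ, hβK, hβg, hβinv⟩ := F₂.torus
  set K₁ := zc s.E
  haveI hK₁ : K₁.Normal := zc_normal s.normal
  set f := ⁅x, u⁆ with hfdef
  have hfE : f ∈ s.E ⊓ t.E := by
    refine ⟨?_, t.comm_mem_E x hu⟩
    rw [hfdef, ← comm_swap]
    exact s.E.inv_mem (s.comm_mem_E u hx)
  refine F₁.moved x hx hxt u hu hus (mem_of_fixed_inverted hG hp2 (v := β f) ?_ ?_)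
  · -- fixed
    show f⁻¹ * β f ∈ K₁
    obtain ⟨k, hk, j, hfj⟩ := hgen f hfE
    have ha : β a = a := hβK a ⟨omegaZ_le haW, haW.2.2⟩
    rw [hfj, map_mul, map_pow, ha, mul_inv_rev, mul_assoc]
    have h1 := hK₁.conj_mem _ (K₁.mul_mem (K₁.inv_mem hk)
      (s.apply_mem_of_inv zc_le (fun α _ => pres_zc α) hβ hk)) (a ^ j)⁻¹
    simpa [mul_assoc] using h1
  · -- inverted
    show f * β f ∈ K₁
    set π := QuotientGroup.mk' K₁
    have hker : ∀ z ∈ omegaZ p (⊤ : Subgroup G), π z = 1 := fun z hz =>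
      (QuotientGroup.eq_one_iff z).2 (s.omegaTop_le_zc hz)
    have hct : ∀ y ∈ t.E, ∀ z ∈ t.E, Commute (π y) (π z) := fun y hy z hz =>
      commutatorElement_eq_one_iff_mul_comm.1 (by
        rw [← map_commutatorElement]; exact hker _ (F₂.comm y hy z hz))
    obtain ⟨e, he, hβx⟩ : ∃ e ∈ t.E, β x = x * e := ⟨_, hβg x, (mul_inv_cancel_left _ _).symm⟩
    obtain ⟨k, hk, hβu⟩ : ∃ k ∈ zc t.E, β u = u⁻¹ * k :=
      ⟨_, hβinv u hu, (inv_mul_cancel_left _ _).symm⟩
    have hxk : ⁅π x, π k⁆ = 1 := by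
      rw [← map_commutatorElement]; exact hker _ (F₁.comm x hx k (F₂.zc_le hk))
    have hxk' : Commute (π x) (π k) := commutatorElement_eq_one_iff_mul_comm.1 hxk
    refine (QuotientGroup.eq_one_iff _).1 ?_
    show π (f * β f) = 1
    have he' : ⁅π e, π (u⁻¹ * k)⁆ = 1 := commutatorElement_eq_one_iff_mul_comm.2
      (hct e he _ (t.E.mul_mem (t.E.inv_mem hu) hk.1))
    have hfu : Commute (π f) (π u⁻¹) := hct f hfE.2 _ (t.E.inv_mem hu)
    rw [map_mul, hfdef, map_commutatorElement β, hβx, hβu, map_commutatorElement π,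
      map_commutatorElement π, map_mul π x e, comm_mul_left, he', map_mul π u⁻¹ k, comm_mul_right,
      hxk]
    rw [hfdef, map_commutatorElement π] at hfu
    simp only [mul_one, mul_inv_cancel, one_mul, map_inv] at hfu ⊢
    have h2 : ⁅π x, (π u)⁻¹⁆ = (π u)⁻¹ * ⁅π x, π u⁆⁻¹ * π u := by
      simp only [commutatorElement_def]; group
    rw [h2, ← mul_assoc, ← mul_assoc, hfu.eq]
    group

end

variable [Finite G] [hp : Fact p.Prime] (s : Side p B) (t : Side p B')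
  (hG : IsPGroup p G) (hp2 : p ≠ 2) (hrk : Rank3 p G) (hne : s.E ≠ t.E)

include hG hp2 hrk hne

/-- One noncentral socle inside the intersection. -/
theorem noncentral_case (hBB : B ≤ B') (hWs : omegaZ p t.E ≤ s.E) (hWt : omegaZ p s.E ≤ t.E)
    (hs : omegaZ p s.E ≤ omegaZ p (⊤ : Subgroup G))
    (ht : ¬ omegaZ p t.E ≤ omegaZ p (⊤ : Subgroup G)) :
    (∃ N, Inv s t N) ∨ ∃ D : Subgroup G, Elem p D ∧ omegaZ p t.E ≤ D ∧ D ≤ s.E ∧
      (∀ α ∈ s.A, Pres α D) ∧ Nat.card D = p ^ 3 ∧ Nat.card (omegaZ p t.E) = p ^ 2 ∧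
      Nat.card (omegaZ p (⊤ : Subgroup G)) = p ∧
      ¬ ∀ α ∈ t.A, Pres α (omegaZ p (⊤ : Subgroup G)) := by
  set Z := omegaZ p (⊤ : Subgroup G) with hZdef
  set W := omegaZ p t.E with hWdef
  haveI hZn : Z.Normal := omegaZ_normal Subgroup.normal_top
  have hZs : ∀ N ≤ Z, N ≤ s.E := fun N hN => hN.trans (s.omegaTop_le.trans omegaZ_le)
  have hZne : Z ≠ ⊥ := by
    obtain ⟨z, hz, hz1, hzc⟩ := exists_central_mod (M := ⊥) hG (omegaZ_normal t.normal)
      (fun h => ht (h.trans bot_le))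
    intro h
    refine hz1 (h ▸ (show z ∈ Z from ⟨Subgroup.mem_top z, hz.2.1, fun g _ => ?_⟩))
    exact commutatorElement_eq_one_iff_mul_comm.1 (Subgroup.mem_bot.1 (hzc g))
  by_cases hnc : ∃ α ∈ s.A, ∃ a b : s.E, (a : G) ∈ W ∧ (b : G) ∈ W ∧ a * α b ≠ α b * a
  · left
    have F := s.isFrame t hG hp2 hrk hne hWs hnc
    obtain ⟨a, haW, -, hgen⟩ := F.gen
    set K := zc s.E
    haveI hKn : K.Normal := zc_normal s.normal
    obtain ⟨u, hut, hus⟩ := t.exists_mem_not_mem s hne.symm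
    obtain ⟨x, hx, hxt⟩ := s.exists_mem_not_mem t hne
    have hKt : K ≤ t.E := F.zc_le
    have hac : ∀ y ∈ t.E, ⁅y, a⁆ = 1 := fun y hy =>
      commutatorElement_eq_one_iff_mul_comm.2 (haW.2.2 y hy)
    have hform : ∀ y ∈ t.E, ∃ n : ℕ, ∃ k ∈ K, ∃ j : ℕ, y = u ^ n * (k * a ^ j) := by
      intro y hy
      obtain ⟨n, d, hd, rfl⟩ := t.exists_form s hut hus hy
      obtain ⟨k, hk, j, rfl⟩ := hgen d ⟨hd.2, hd.1⟩
      exact ⟨n, k, hk, j, rfl⟩
    have hKc : ∀ y ∈ t.E, ∀ z ∈ t.E, ⁅y, z⁆ ∈ K := by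
      have hu : ∀ z ∈ t.E, ⁅u, z⁆ ∈ K := by
        intro z hz
        obtain ⟨n, k, hk, j, rfl⟩ := hform z hz
        exact ((dC u K t.E).mul_mem ((dC u K t.E).pow_mem ⟨hut, by
            rw [commutatorElement_self]; exact one_mem _⟩ n)
          ((dC u K t.E).mul_mem (le_dC hKt hk) ((dC u K t.E).pow_mem
            ⟨omegaZ_le haW, by rw [hac u hut]; exact one_mem _⟩ j))).2
      intro y hy
      obtain ⟨n, k, hk, j, rfl⟩ := hform y hy
      exact (commInto K t.E).mul_mem ((commInto K t.E).pow_mem (show u ∈ commInto K t.E from hu) n)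
        ((commInto K t.E).mul_mem (fun z _ => by
          rw [← comm_swap]
          exact K.inv_mem (K.mul_mem (hKn.conj_mem k hk z) (K.inv_mem hk)))
          ((commInto K t.E).pow_mem (fun z hz => by
            rw [← comm_swap, hac z hz, inv_one]; exact one_mem _) j))
    have hKord : ∀ k ∈ K, k ^ p = 1 → k ∈ Z := fun k hk hkp => hs ⟨hk.1, hkp, hk.2⟩
    -- a subgroup invariant under the second group whose socle is central
    have hfromT : ∀ T : Subgroup G, T ≤ t.E → (∀ γ ∈ t.A, Pres γ T) → T ≠ ⊥ →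
        (∀ y ∈ T, y ^ p = 1 → y ∈ Z) → ∃ N, Inv s t N := by
      intro T hTt hTinv hTne hTZ
      refine ⟨T ⊓ Z, ⟨fun h => ?_, inf_le_right, ?_, fun γ hγ y hy => ?_⟩⟩
      · obtain ⟨z, hz, hz1⟩ := BlocksCharsC.exists_mem_ne_one hTne
        obtain ⟨y, hy, hyp, hy1⟩ := exists_ord hG hz1
        have hyT : y ∈ T := Subgroup.zpowers_le.2 hz hy
        exact hy1 (Subgroup.mem_bot.1 (h ▸ ⟨hyT, hTZ y hyT hyp⟩))
      · exact s.pres_of_central hG hs inf_le_right fun β hβ y hy =>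
          ⟨t.apply_mem_of_inv hTt hTinv (hBB hβ) hy.1, omegaTop_map hy.2⟩
      · refine ⟨hTinv γ hγ y hy.1, hTZ _ (hTinv γ hγ y hy.1) ?_⟩
        rw [← Subgroup.coe_pow, ← map_pow, show y ^ p = 1 from Subtype.ext hy.2.2.1, map_one]
        rfl
    by_cases hab : ∀ y ∈ t.E, ∀ z ∈ t.E, ⁅y, z⁆ = 1
    swap
    · push Not at hab
      obtain ⟨y, hy, z, hz, hyz⟩ := hab
      set T := Subgroup.closure {w | ∃ y ∈ t.E, ∃ z ∈ t.E, ⁅y, z⁆ = w}
      have hTK : T ≤ K := (Subgroup.closure_le _).2 (by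
        rintro _ ⟨y, hy, z, hz, rfl⟩; exact hKc y hy z hz)
      refine hfromT T (hTK.trans hKt) (fun γ _ => pres_closure ?_ ?_)
        (fun h => hyz (Subgroup.mem_bot.1 (h ▸ Subgroup.subset_closure ⟨y, hy, z, hz, rfl⟩)))
        fun w hw hwp => hKord w (hTK hw) hwp
      · rintro _ ⟨y, hy, z, hz, rfl⟩
        exact t.comm_mem_E y hz
      · rintro w ⟨y, hy, z, hz, hw⟩
        refine Subgroup.subset_closure ⟨γ ⟨y, hy⟩, (γ _).2, γ ⟨z, hz⟩, (γ _).2, ?_⟩
        rw [show w = ⁅(⟨y, hy⟩ : t.E), ⟨z, hz⟩⁆ from Subtype.ext hw.symm, map_commutatorElement]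
        rfl
    -- the second side is abelian
    have hcomm : ∀ y ∈ t.E, ∀ z ∈ t.E, Commute y z := fun y hy z hz =>
      commutatorElement_eq_one_iff_mul_comm.1 (hab y hy z hz)
    have hKcent : ∀ k ∈ K, ∀ g : G, Commute g k := by
      intro k hk g
      obtain ⟨n, e, he, rfl⟩ := s.exists_pow_mul hus g
      exact ((hcomm u hut k (hKt hk)).pow_left n).mul_left (hk.2 e he)
    obtain ⟨β, hβ, hβK, hβg, hβinv⟩ := F.torus
    set f := ⁅x, u⁆ with hfdef
    have hfE : f ∈ s.E ⊓ t.E := by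
      refine ⟨?_, t.comm_mem_E x hut⟩
      rw [hfdef, ← comm_swap]
      exact s.E.inv_mem (s.comm_mem_E u hx)
    have hfp : f ^ p = 1 := by
      obtain ⟨k, hk, j, hfj⟩ := hgen f hfE
      have hββ : f * β f ∈ Z := by
        obtain ⟨k', hk', hβx⟩ : ∃ k' ∈ K, β x = x⁻¹ * k' :=
          ⟨_, hβinv x hx, (inv_mul_cancel_left _ _).symm⟩
        obtain ⟨e, he, hβu⟩ : ∃ e ∈ s.E, β u = u * e := ⟨_, hβg u, (mul_inv_cancel_left _ _).symm⟩
        have hz1 : ⁅x⁻¹, e⁆ ∈ Z := F.comm _ (s.E.inv_mem hx) e he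
        have hz2 : ⁅x⁻¹, f⁻¹⁆ ∈ Z := F.comm _ (s.E.inv_mem hx) _ (s.E.inv_mem hfE.1)
        have h1 : β f = ⁅x⁻¹, u⁆ * ⁅x⁻¹, e⁆ := by
          rw [hfdef, map_commutatorElement, hβx, hβu, comm_mul_left,
            commutatorElement_eq_one_iff_mul_comm.2 (hKcent k' hk' (u * e)).symm.eq, mul_one,
            mul_inv_cancel, one_mul, comm_mul_right,
            (hz1.2.2 u (Subgroup.mem_top u)), mul_inv_cancel_right]
        have h2 : ⁅x⁻¹, u⁆ = ⁅x⁻¹, f⁻¹⁆ * f⁻¹ := by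
          rw [← conj_eq_comm_mul, hfdef]; simp only [commutatorElement_def]; group
        rw [h1, h2, ← mul_assoc, ← mul_assoc, hz2.2.2 f (Subgroup.mem_top f), mul_inv_cancel_right]
        exact Z.mul_mem hz2 hz1
      have hβaW : β a ∈ W := t.apply_mem_of_inv omegaZ_le (fun γ _ => pres_omegaZ γ) (hBB hβ) haW
      have hwp : ∀ w ∈ W, (w ^ j) ^ p = 1 := fun w hw => by
        rw [← pow_mul, mul_comm, pow_mul, hw.2.1, one_pow]
      have hfact : f * β f = k * k * (a ^ j * (β a) ^ j) := by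
        rw [hfj, map_mul, map_pow, hβK k hk, mul_assoc, ← mul_assoc (a ^ j),
          ((hKcent k hk a).pow_left j).eq, mul_assoc, mul_assoc]
      have h5 : (k * k) ^ p = 1 := by
        have h6 := hββ.2.1
        rw [hfact, (((hKcent k hk (a ^ j * β a ^ j)).mul_right
          (hKcent k hk _)).symm).mul_pow,
          (((show Commute a (β a) from elem_omegaZ.1 _ haW _ hβaW)).pow_pow j j).mul_pow, hwp a haW,
          hwp _ hβaW, one_mul, mul_one] at h6
        exact h6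
      have hkp : k ^ p = 1 := by
        refine Subgroup.mem_bot.1 (mem_of_sq_mem hG hp2 (M := ⊥) (Subgroup.mem_bot.2 ?_))
        rwa [← (Commute.refl k).mul_pow]
      rw [hfj, (show Commute k (a ^ j) from (hKcent k hk _).symm).mul_pow, hkp, hwp a haW, one_mul]
    have hxp : ∀ e ∈ t.E, Commute x (e ^ p) := by
      intro e he
      refine commutatorElement_eq_one_iff_mul_comm.1 ?_
      have hpow : ∀ n : ℕ, ∀ y ∈ t.E, ⁅x, y ^ n⁆ = ⁅x, y⁆ ^ n := by
        intro n y hy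
        induction n with
        | zero => rw [pow_zero, pow_zero, commutatorElement_one_right]
        | succ n ih =>
          rw [pow_succ, comm_mul_right, ih, (hcomm _ (t.E.pow_mem hy n) _ (t.comm_mem_E x hy)).eq,
            mul_inv_cancel_right, pow_succ]
      obtain ⟨n, d, hd, rfl⟩ := t.exists_form s hut hus he
      rw [hpow p _ he, comm_mul_right,
        (hcomm _ (t.E.pow_mem hut n) _ (t.comm_mem_E x hd.1)).eq, mul_inv_cancel_right, hpow n u hut,
        (((hcomm _ hfE.2 _ (t.comm_mem_E x hd.1)).pow_left n)).mul_pow, ← pow_mul, mul_comm n,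
        pow_mul, hfp, one_pow, one_mul, (F.comm x hx d hd.2).2.1]
    have hcentral : ∀ e ∈ t.E, ∀ g : G, g * e ^ p = e ^ p * g := by
      intro e he g
      obtain ⟨n, y, hy, rfl⟩ := t.exists_pow_mul hxt g
      exact ((hxp e he).pow_left n).mul_left (hcomm y hy _ (t.E.pow_mem he p))
    by_cases hexp : ∀ e ∈ t.E, e ^ p = 1
    · exact absurd (hWs ⟨hut, hexp u hut, fun e he => hcomm e he u hut⟩) hus
    · push Not at hexp
      obtain ⟨e, he, he1⟩ := hexp
      set T := Subgroup.closure {w | ∃ e ∈ t.E, e ^ p = w}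
      refine hfromT T ((Subgroup.closure_le _).2 (by rintro _ ⟨e, he, rfl⟩; exact t.E.pow_mem he p))
        (fun γ _ => pres_closure (by rintro _ ⟨e, he, rfl⟩; exact t.E.pow_mem he p) ?_)
        (fun h => he1 (Subgroup.mem_bot.1 (h ▸ Subgroup.subset_closure ⟨e, he, rfl⟩)))
        fun w hw hwp => ⟨Subgroup.mem_top w, hwp, fun g _ => ?_⟩
      · rintro w ⟨e, he, hw⟩
        refine Subgroup.subset_closure ⟨γ ⟨e, he⟩, (γ _).2, ?_⟩
        rw [← Subgroup.coe_pow, ← map_pow, show (⟨e, he⟩ : t.E) ^ p = w from Subtype.ext hw]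
      · have hle : T ≤ Subgroup.centralizer {g} := (Subgroup.closure_le _).2 (by
          rintro _ ⟨e, he, rfl⟩
          rw [SetLike.mem_coe, Subgroup.mem_centralizer_iff]
          rintro _ rfl
          exact hcentral e he _)
        exact Subgroup.mem_centralizer_iff.1 (hle hw) g rfl
  · push Not at hnc
    obtain ⟨D, hD, hWD, hDs, hDinv⟩ := s.exists_span t hG hWs hnc
    have hlt2 : W < D := by
      refine lt_of_le_of_ne hWD fun h => ?_
      refine s.false_of_centralized t hG hp2 hrk hne ht hWD hDs hDinv fun e he d hd => ?_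
      have hd' : d ∈ W := h ▸ hd
      exact hd'.2.2 e he.2
    have hlt1 : Z < W := lt_of_le_not_ge t.omegaTop_le ht
    have h1 := FusionRankTwo.mul_card_le_of_lt (hG.to_subgroup _) hlt1
    have h2 := FusionRankTwo.mul_card_le_of_lt (hG.to_subgroup _) hlt2
    have h3 := hrk.card_le hD
    obtain ⟨i, hi⟩ := IsPGroup.iff_card.1 (hG.to_subgroup Z)
    obtain ⟨j, hj⟩ := IsPGroup.iff_card.1 (hG.to_subgroup W)
    obtain ⟨k, hk⟩ := IsPGroup.iff_card.1 (hG.to_subgroup D)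
    rw [hi, hj, ← pow_succ'] at h1
    rw [hj, hk, ← pow_succ'] at h2
    rw [hk] at h3
    have h1' := (Nat.pow_le_pow_iff_right hp.out.one_lt).1 h1
    have h2' := (Nat.pow_le_pow_iff_right hp.out.one_lt).1 h2
    have h3' := (Nat.pow_le_pow_iff_right hp.out.one_lt).1 h3
    have hi1 : i ≠ 0 := fun h => hZne (Subgroup.card_eq_one.1 (by rw [hi, h, pow_zero]))
    obtain ⟨rfl, rfl, rfl⟩ : i = 1 ∧ j = 2 ∧ k = 3 := by omega
    by_cases hZ : ∀ α ∈ t.A, Pres α Z
    · exact Or.inl ⟨Z, hZne, le_rfl,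
        s.pres_of_central hG hs le_rfl fun β _ y hy => omegaTop_map hy, hZ⟩
    · exact Or.inr ⟨D, hD, hWD, hDs, hDinv, hk, hj, hi.trans (pow_one p), hZ⟩

end Side

end CfsgLib.FusionTwoEssentials
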