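import Cfsg.Agent.FusionTwoEssentials.Frame
import Cfsg.Agent.OddOrder.BG11.Groups

/-!
# A central element of order `p` outside the other side
-/

set_option autoImplicit false

namespace CfsgLib.FusionTwoEssentials

open scoped commutatorElement

variable {G : Type*} [Group G]

/-- A subgroup with a cyclic quotient by `R` modulo its Frattini subgroup. -/
theorem exists_gen_of_relIndex_le [Finite G] {p : ℕ} [hp : Fact p.Prime] (hG : IsPGroup p G)
    {R K : Subgroup G} (hRK : R ≤ K) (h : (R ⊔ phi p K).relIndex K ≤ p) :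
    ∃ k₀ ∈ K, K ≤ R ⊔ Subgroup.zpowers k₀ := by
  set M := R ⊔ phi p K with hMdef
  have hMK : M ≤ K := sup_le hRK phi_le_self
  by_cases hKM : K ≤ M
  · exact ⟨1, K.one_mem, (le_of_le_sup_phi hG hRK hKM).trans le_sup_left⟩
  obtain ⟨k₀, hk₀, hk₀M⟩ := SetLike.not_le_iff_exists.1 hKM
  refine ⟨k₀, hk₀, le_of_le_sup_phi hG (sup_le hRK (Subgroup.zpowers_le.2 hk₀)) ?_⟩
  have hlt : ¬ M ⊔ Subgroup.zpowers k₀ ≤ M := fun h =>
    hk₀M (h (Subgroup.mem_sup_right (Subgroup.mem_zpowers k₀)))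
  have h5 := Subgroup.relIndex_mul_relIndex M _ K le_sup_left
    (sup_le hMK (Subgroup.zpowers_le.2 hk₀))
  have h6 := le_relIndex_of_lt hG hlt
  have h7 : (M ⊔ Subgroup.zpowers k₀).relIndex K = 1 := by
    obtain ⟨n, hn⟩ := exists_relIndex_eq hG (M ⊔ Subgroup.zpowers k₀) K
    rcases n with _ | n
    · exact hn.trans (pow_zero p)
    · have h8 : p * p ≤ M.relIndex K := h5 ▸ Nat.mul_le_mul h6
        (hn ▸ Nat.le_self_pow n.succ_ne_zero p)
      exact absurd (h8.trans h) (not_le.2 (lt_mul_of_one_lt_left hp.out.pos hp.out.one_lt))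
  refine (Subgroup.relIndex_eq_one.1 h7).trans (sup_le (sup_le ?_ le_sup_right) ?_)
  · exact le_sup_left.trans le_sup_left
  · exact le_sup_right.trans le_sup_left

variable {p : ℕ} {B B' : Subgroup (MulAut G)}

/-- Two sides of which one is abelian, generated by a cyclic centre and two elements of order
`p`. -/
structure Core (s : Side p B) (t : Side p B') where
  α : MulAut s.E
  u : G
  r : G
  r' : G
  K : Subgroup G
  mem_A : α ∈ s.A
  u_mem : u ∈ t.E
  u_not : u ∉ s.E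
  u_pow : u ^ p = 1
  r_mem : r ∈ s.E ⊓ t.E
  r_pow : r ^ p = 1
  r_not : r ∉ K
  r'_mem : r' ∈ s.E
  r'_not : r' ∉ t.E
  r'_pow : r' ^ p = 1
  K_le : K ≤ s.E ⊓ t.E
  mem_K : ∀ x : s.E, (x : G) ∈ K ↔ (x : G) ∈ t.E ∧ (α⁻¹ x : G) ∈ t.E
  central : ∀ k ∈ K, ∀ g : G, g * k = k * g
  cyclic : IsCyclic K
  relIndex_eq : K.relIndex (s.E ⊓ t.E) = p
  relIndex_sq : K.relIndex s.E = p ^ 2
  gen : ∀ d ∈ s.E ⊓ t.E, ∃ k ∈ K, ∃ j : ℕ, d = k * r ^ j
  comm : ∀ x ∈ s.E, ∀ y ∈ s.E, ⁅x, y⁆ ∈ K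
  pow_mem : ∀ x ∈ s.E, x ^ p ∈ K
  c_pow : ⁅r, r'⁆ ^ p = 1
  abelian : ∀ x ∈ t.E, ∀ y ∈ t.E, x * y = y * x
  np : ¬ IsPGroup p (s.pair u α)
  fix : ∀ γ ∈ s.pair u α, ∀ x : s.E, (x : G) ∈ K → γ x = x

namespace Side

variable [Finite G] [hp : Fact p.Prime] (s : Side p B)

/-- Automorphisms stabilising a series of length three generate a `p`-group. -/
theorem closure_pgroup (hG : IsPGroup p G) {S : Set (MulAut s.E)} (K D : Subgroup G)
    (h : ∀ γ ∈ S, Pres γ K ∧ Pres γ D ∧ Triv γ ⊥ K ∧ Triv γ K D ∧ Triv γ D s.E) :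
    IsPGroup p (Subgroup.closure S) := by
  have := s.finite_aut
  have hle : Subgroup.closure S ≤ secStab ⊥ K ⊓ secStab K D ⊓ secStab D s.E :=
    (Subgroup.closure_le _).2 fun γ hγ => by
      obtain ⟨h1, h2, h3, h4, h5⟩ := h γ hγ
      exact ⟨⟨⟨fun x hx => by
          rw [show x = 1 from Subtype.ext (Subgroup.mem_bot.1 hx), map_one]; exact one_mem _, h1, h3⟩,
        h1, h2, h4⟩, h2, fun x _ => (γ x).2, h5⟩
  refine isPGroup_of_forall fun γ hγ hco x => ?_
  obtain ⟨⟨h1, h2⟩, h3⟩ := hle hγ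
  exact fix_step hG hco (fix_step hG hco (fix_of_triv_bot hG hco h1.2.2) h2.2.2) h3.2.2 x x.2

end Side

variable [Finite G] [hp : Fact p.Prime] {s : Side p B} {t : Side p B'}

/-- A central element of order `p` of one side outside the other gives a `Core`. -/
theorem exists_core (hG : IsPGroup p G) (hp2 : p ≠ 2) (hrk : Rank3 p G) (hne : s.E ≠ t.E)
    (hW : ∃ u ∈ omegaZ p t.E, u ∉ s.E) : Nonempty (Core s t) := by
  classical
  obtain ⟨u, huW, hus⟩ := hW
  have hut : u ∈ t.E := huW.1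
  have hup : u ^ p = 1 := huW.2.1
  obtain ⟨α, hα, hnp⟩ := s.exists_moved hG hus
  have hnp' : ¬ IsPGroup p (s.pair u α) := fun h => hnp (h.to_le ((Subgroup.closure_le _).2 (by
    rintro x (rfl | rfl)
    exacts [s.cj_mem_pair u α u, s.conj_mem_pair u α])))
  set w := α * s.cj u * α⁻¹ with hwdef
  haveI hE12n : (s.E ⊓ t.E).Normal := s.inf_normal t
  haveI hWn : (omegaZ p t.E).Normal := omegaZ_normal t.normal
  -- the image of the intersection
  set D' := ((t.E.subgroupOf s.E).comap (α⁻¹).toMonoidHom).map s.E.subtype with hD'def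
  have hmemD' : ∀ x : s.E, (x : G) ∈ D' ↔ (α⁻¹ x : G) ∈ t.E := fun x =>
    ⟨fun ⟨y, hy, hyx⟩ => (Subtype.ext hyx : y = x) ▸ hy, fun h => ⟨x, h, rfl⟩⟩
  have hD's : D' ≤ s.E := Subgroup.map_subtype_le _
  have hD'conj : ∀ e ∈ s.E, ∀ x ∈ D', e * x * e⁻¹ ∈ D' := by
    intro e he x hx
    have h1 := (hmemD' ⟨x, hD's hx⟩).1 hx
    refine (hmemD' (⟨e, he⟩ * ⟨x, hD's hx⟩ * ⟨e, he⟩⁻¹)).2 ?_
    rw [map_mul, map_mul, map_inv]
    exact t.normal.conj_mem _ h1 _
  set K := (s.E ⊓ t.E) ⊓ D' with hKdef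
  have hKs : K ≤ s.E := fun x hx => hx.1.1
  have hKt : K ≤ t.E := fun x hx => hx.1.2
  have hKE : K ≤ s.E ⊓ t.E := inf_le_left
  have hKconj : ∀ e ∈ s.E, ∀ x ∈ K, e * x * e⁻¹ ∈ K := fun e he x hx =>
    ⟨hE12n.conj_mem x hx.1 e, hD'conj e he x hx.2⟩
  have hKcomm : ∀ e ∈ s.E, ∀ x : G, x ∈ K → ⁅e, x⁆ ∈ K := fun e he x hx =>
    K.mul_mem (hKconj e he x hx) (K.inv_mem hx)
  -- the two generators fix their hyperplanes
  have hufix : ∀ x : s.E, (x : G) ∈ t.E → s.cj u x = x := fun x hx => Subtype.ext (by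
    rw [s.cj_apply, ← huW.2.2 _ hx, mul_inv_cancel_right])
  have hwfix : ∀ x : s.E, (α⁻¹ x : G) ∈ t.E → w x = x := fun x hx => by
    rw [hwdef, MulAut.mul_apply, MulAut.mul_apply, hufix _ hx, MulAut.apply_inv_self]
  have hudisp : ∀ x : s.E, (x : G)⁻¹ * (s.cj u x : G) ∈ s.E ⊓ t.E := fun x => by
    have h := hE12n.conj_mem _ (s.comm_mem_inf t hG u x.2) (x : G)⁻¹
    rw [s.cj_apply, conj_eq_comm_mul]
    simpa [mul_assoc] using h
  have hwdisp : ∀ x : s.E, (x : G)⁻¹ * (w x : G) ∈ D' := by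
    intro x
    rw [← Subgroup.coe_inv, ← Subgroup.coe_mul, hmemD', hwdef, MulAut.mul_apply, MulAut.mul_apply,
      map_mul, map_inv, MulAut.inv_apply_self]
    exact (hudisp (α⁻¹ x)).2
  have hpresu : Pres (s.cj u) (s.E ⊓ t.E) := s.pres_cj hE12n u
  -- an element of the intersection outside `K`
  have hr₀ : ∃ e ∈ s.E, ⁅u, e⁆ ∉ K := by
    by_contra hall
    push Not at hall
    have hu' : Triv (s.cj u) K s.E := fun x _ => by
      have h := hKconj _ (s.E.inv_mem x.2) _ (hall x x.2)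
      rw [s.cj_apply, conj_eq_comm_mul]
      simpa [mul_assoc] using h
    refine hnp (s.closure_pgroup hG K D' ?_)
    rintro γ (rfl | rfl)
    · refine ⟨fun x hx => by rw [hufix x (hKt hx)]; exact hx, ?_,
        fun x hx => by rw [hufix x (hKt hx), inv_mul_cancel]; exact one_mem _, fun x hx => hu' x x.2,
        fun x hx => (hu' x hx).2⟩
      intro x hx
      simpa using D'.mul_mem hx (hu' x x.2).2
    · exact ⟨fun x hx => by rw [hwfix x ((hmemD' x).1 hx.2)]; exact hx,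
        fun x hx => by rw [hwfix x ((hmemD' x).1 hx)]; exact hx,
        fun x hx => by rw [hwfix x ((hmemD' x).1 hx.2), inv_mul_cancel]; exact one_mem _,
        fun x hx => by rw [hwfix x ((hmemD' x).1 hx), inv_mul_cancel]; exact one_mem _,
        fun x _ => hwdisp x⟩
  obtain ⟨e₁, he₁, hr⟩ := hr₀
  set r := ⁅u, e₁⁆ with hrdef
  have hrE : r ∈ s.E ⊓ t.E := s.comm_mem_inf t hG u he₁
  have hrW : r ∈ omegaZ p t.E := by
    have h1 := (omegaZ p t.E).mul_mem huW (hWn.conj_mem _ ((omegaZ p t.E).inv_mem huW) e₁)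
    rwa [← mul_assoc, ← mul_assoc, ← commutatorElement_def] at h1
  have hrp : r ^ p = 1 := hrW.2.1
  have hrD' : r ∉ D' := fun h => hr ⟨hrE, h⟩
  -- an element of the image outside `K`
  have hr'₀ : ∃ e : s.E, (α ⟨⁅u, (e : G)⁆, s.comm_mem_E u e.2⟩ : G) ∉ K := by
    by_contra hall
    push Not at hall
    refine hnp (s.closure_pgroup hG K (s.E ⊓ t.E) ?_)
    have hw' : ∀ x : s.E, (x : G)⁻¹ * (w x : G) ∈ K := by
      intro x
      obtain ⟨y, rfl⟩ := α.surjective x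
      have h := hall y
      rw [show (⟨⁅u, (y : G)⁆, s.comm_mem_E u y.2⟩ : s.E) = s.cj u y * y⁻¹ from Subtype.ext (by
        rw [Subgroup.coe_mul, Subgroup.coe_inv, s.cj_apply]; rfl), map_mul, map_inv] at h
      have h' := hKconj _ (s.E.inv_mem (α y).2) _ h
      rw [hwdef, MulAut.mul_apply, MulAut.mul_apply, MulAut.inv_apply_self]
      simpa [mul_assoc] using h'
    rintro γ (rfl | rfl)
    · exact ⟨fun x hx => by rw [hufix x (hKt hx)]; exact hx, hpresu,
        fun x hx => by rw [hufix x (hKt hx), inv_mul_cancel]; exact one_mem _,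
        fun x hx => by rw [hufix x hx.2, inv_mul_cancel]; exact one_mem _, fun x _ => hudisp x⟩
    · refine ⟨fun x hx => by rw [hwfix x ((hmemD' x).1 hx.2)]; exact hx, fun x hx => ?_,
        fun x hx => by rw [hwfix x ((hmemD' x).1 hx.2), inv_mul_cancel]; exact one_mem _,
        fun x _ => hw' x, fun x _ => hKE (hw' x)⟩
      simpa using (s.E ⊓ t.E).mul_mem hx (hKE (hw' x))
  obtain ⟨e₂, hr'⟩ := hr'₀
  set r₀ : s.E := ⟨⁅u, (e₂ : G)⁆, s.comm_mem_E u e₂.2⟩ with hr₀def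
  set r' : G := (α r₀ : G) with hr'def
  have hr₀E : (r₀ : G) ∈ s.E ⊓ t.E := s.comm_mem_inf t hG u e₂.2
  have hr₀W : (r₀ : G) ∈ omegaZ p t.E := by
    have h1 := (omegaZ p t.E).mul_mem huW (hWn.conj_mem _ ((omegaZ p t.E).inv_mem huW) e₂)
    rwa [← mul_assoc, ← mul_assoc, ← commutatorElement_def] at h1
  have hr's : r' ∈ s.E := (α r₀).2
  have hr'D : r' ∈ D' := (hmemD' (α r₀)).2 (by rw [MulAut.inv_apply_self]; exact hr₀E.2)
  have hr't : r' ∉ t.E := fun h => hr' ⟨⟨hr's, h⟩, hr'D⟩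
  have hr'p : r' ^ p = 1 := by
    rw [hr'def, ← Subgroup.coe_pow, ← map_pow, show r₀ ^ p = 1 from Subtype.ext hr₀W.2.1, map_one]
    rfl
  have hrcomm : ∀ d ∈ t.E, Commute d r := fun d hd => hrW.2.2 d hd
  have hr'comm : ∀ d ∈ D', Commute d r' := by
    intro d hd
    have h1 : Commute (α⁻¹ ⟨d, hD's hd⟩) r₀ :=
      Subtype.ext (hr₀W.2.2 _ ((hmemD' ⟨d, hD's hd⟩).1 hd))
    have h2 := h1.map α.toMonoidHom
    simp only [MulEquiv.toMonoidHom_eq_coe, MonoidHom.coe_coe, MulAut.apply_inv_self] at h2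
    exact congrArg Subtype.val h2.eq
  -- decompositions
  have hgen : ∀ d ∈ s.E ⊓ t.E, ∃ k ∈ K, ∃ j : ℕ, d = k * r ^ j := by
    intro d hd
    have hx : (α⁻¹ ⟨r, hrE.1⟩ : G) ∉ t.E := fun h => hrD' ((hmemD' _).2 h)
    obtain ⟨j, d', hd', hdd⟩ := s.exists_form t (α⁻¹ ⟨r, hrE.1⟩).2 hx (α⁻¹ ⟨d, hd.1⟩).2
    have h1 : (⟨d, hd.1⟩ : s.E) = ⟨r, hrE.1⟩ ^ j * α ⟨d', hd'.1⟩ := by
      rw [← (α⁻¹).injective.eq_iff, map_mul, map_pow, MulAut.inv_apply_self]
      exact Subtype.ext hdd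
    have h2 : d = r ^ j * (α ⟨d', hd'.1⟩ : G) := congrArg Subtype.val h1
    have h3 : (α ⟨d', hd'.1⟩ : G) ∈ K := by
      refine ⟨?_, (hmemD' _).2 (by rw [MulAut.inv_apply_self]; exact hd'.2)⟩
      have h4 := (s.E ⊓ t.E).mul_mem ((s.E ⊓ t.E).inv_mem ((s.E ⊓ t.E).pow_mem hrE j)) hd
      rwa [h2, inv_mul_cancel_left] at h4
    exact ⟨_, h3, j, by rw [h2]; exact ((hrcomm _ (hKt h3)).pow_right j).eq.symm⟩
  have hdec : ∀ e ∈ s.E, ∃ k ∈ K, ∃ i j : ℕ, e = k * (r' ^ i * r ^ j) := by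
    intro e he
    obtain ⟨i, d, hd, rfl⟩ := s.exists_form t hr's hr't he
    obtain ⟨k, hk, j, rfl⟩ := hgen d hd
    exact ⟨k, hk, i, j, by rw [← mul_assoc, ← mul_assoc, ((hr'comm k hk.2).pow_right i).eq]⟩
  set c := ⁅r, r'⁆ with hcdef
  have hcK : c ∈ K := by
    refine ⟨?_, ?_⟩
    · rw [hcdef, ← comm_swap]
      exact (s.E ⊓ t.E).inv_mem ((s.E ⊓ t.E).mul_mem (hE12n.conj_mem _ hrE r')
        ((s.E ⊓ t.E).inv_mem hrE))
    · exact D'.mul_mem (hD'conj r hrE.1 r' hr'D) (D'.inv_mem hr'D)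
  have hKr : ∀ k ∈ K, Commute k r := fun k hk => hrcomm k (hKt hk)
  have hKr' : ∀ k ∈ K, Commute k r' := fun k hk => hr'comm k hk.2
  have hKu : ∀ k ∈ K, Commute k u := fun k hk => huW.2.2 k (hKt hk)
  have hccentral : ∀ g : G, g * c = c * g := by
    intro g
    obtain ⟨n, e, he, rfl⟩ := s.exists_pow_mul hus g
    obtain ⟨k, hk, i, j, rfl⟩ := hdec e he
    have hkc : Commute k c := by
      rw [hcdef, commutatorElement_def]
      exact (((hKr k hk).mul_right (hKr' k hk)).mul_right (hKr k hk).inv_right).mul_right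
        (hKr' k hk).inv_right
    exact (((hKu c hcK).symm.pow_left n).mul_left (hkc.mul_left
      (((hKr' c hcK).symm.pow_left i).mul_left ((hKr c hcK).symm.pow_left j)))).eq
  have hcp : c ^ p = 1 := by
    have h1 : r' * r * r'⁻¹ = c⁻¹ * r := by rw [hcdef, comm_swap, ← conj_eq_comm_mul]
    have h2 := congrArg (fun x => x ^ p) h1
    simp only [conj_pow, hrp, mul_one, mul_inv_cancel] at h2
    rw [(show Commute c⁻¹ r from (hKr c hcK).inv_left).mul_pow, hrp, mul_one,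
      inv_pow, eq_comm, inv_eq_one] at h2
    exact h2
  set R := Subgroup.zpowers c with hRdef
  have hRK : R ≤ K := Subgroup.zpowers_le.2 hcK
  have hcentR : ∀ x ∈ R, ∀ g : G, g * x = x * g := by
    rintro x ⟨m, rfl⟩ g
    exact (show Commute g c from hccentral g).zpow_right m
  haveI hRn : R.Normal := ⟨fun x hx g => by rw [hcentR x hx g, mul_inv_cancel_right]; exact hx⟩
  have hvv : ∀ i j i' j' : ℕ, ⁅r' ^ i * r ^ j, r' ^ i' * r ^ j'⁆ ∈ R := by
    intro i j i' j'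
    have h1 : ∀ z ∈ ({r, r'} : Set G), ∀ z' ∈ ({r, r'} : Set G), ⁅z, z'⁆ ∈ R := by
      rintro z (rfl | rfl) z' (rfl | rfl)
      · rw [commutatorElement_self]; exact one_mem _
      · exact Subgroup.mem_zpowers c
      · rw [← comm_swap]; exact inv_mem (Subgroup.mem_zpowers c)
      · rw [commutatorElement_self]; exact one_mem _
    have h2 : ∀ z ∈ ({r, r'} : Set G), r' ^ i * r ^ j ∈ dC z R ⊤ := fun z hz =>
      (dC z R ⊤).mul_mem ((dC z R ⊤).pow_mem ⟨Subgroup.mem_top _, h1 z hz r' (Or.inr rfl)⟩ i)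
        ((dC z R ⊤).pow_mem ⟨Subgroup.mem_top _, h1 z hz r (Or.inl rfl)⟩ j)
    have h3 : ∀ z ∈ ({r, r'} : Set G), z ∈ dC (r' ^ i * r ^ j) R ⊤ := fun z hz =>
      ⟨Subgroup.mem_top _, by rw [← comm_swap]; exact R.inv_mem (h2 z hz).2⟩
    exact ((dC (r' ^ i * r ^ j) R ⊤).mul_mem ((dC (r' ^ i * r ^ j) R ⊤).pow_mem (h3 r' (Or.inr rfl)) i')
      ((dC (r' ^ i * r ^ j) R ⊤).pow_mem (h3 r (Or.inl rfl)) j')).2
  have hKv : ∀ k ∈ K, ∀ i j : ℕ, Commute k (r' ^ i * r ^ j) := fun k hk i j =>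
    ((hKr' k hk).pow_right i).mul_right ((hKr k hk).pow_right j)
  have hcM : ∀ x ∈ s.E, ∀ y ∈ s.E, ∃ k ∈ K, ∃ k' ∈ K, ∃ z ∈ R, ⁅x, y⁆ = ⁅k, k'⁆ * z := by
    intro x hx y hy
    obtain ⟨k, hk, i, j, rfl⟩ := hdec x hx
    obtain ⟨k', hk', i', j', rfl⟩ := hdec y hy
    refine ⟨k, hk, k', hk', _, hvv i j i' j', ?_⟩
    have e1 : ⁅k, k' * (r' ^ i' * r ^ j')⁆ = ⁅k, k'⁆ := by
      rw [comm_mul_right, commutatorElement_eq_one_iff_mul_comm.2 (hKv k hk i' j')]; simp
    have e2 : ⁅r' ^ i * r ^ j, k' * (r' ^ i' * r ^ j')⁆ = ⁅r' ^ i * r ^ j, r' ^ i' * r ^ j'⁆ := by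
      rw [comm_mul_right, commutatorElement_eq_one_iff_mul_comm.2 (hKv k' hk' i j).symm, one_mul,
        hcentR _ (hvv i j i' j') k', mul_inv_cancel_right]
    rw [comm_mul_left, e1, e2, hcentR _ (hvv i j i' j') k, mul_inv_cancel_right,
      hcentR _ (hvv i j i' j')]
  have hvp : ∀ i j : ℕ, (r' ^ i * r ^ j) ^ p = 1 := by
    intro i j
    have hz : ⁅r ^ j, r' ^ i⁆ ∈ R := by simpa using hvv 0 j i 0
    exact OddOrder.BG4.mul_pow_eq_one hp2 (fun g => (hcentR _ hz g).symm)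
      (by rw [← pow_mul, mul_comm, pow_mul, hr'p, one_pow])
      (by rw [← pow_mul, mul_comm, pow_mul, hrp, one_pow])
  have hD'idx : D'.relIndex s.E = p := by
    rw [hD'def, Subgroup.relIndex, Subgroup.subgroupOf, Subgroup.comap_map_eq_self_of_injective
      s.E.subtype_injective, Subgroup.index_comap_of_surjective _ α⁻¹.surjective]
    exact (Subgroup.inf_relIndex_left s.E t.E).symm.trans (s.relIndex_inf t hG hne)
  have hE12idx := s.relIndex_inf t hG hne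
  have hKidx : K.relIndex (s.E ⊓ t.E) = p := by
    have h1 : K.relIndex (s.E ⊓ t.E) ≤ p := by
      rw [hKdef, Subgroup.inf_relIndex_left]
      exact (Subgroup.relIndex_le_of_le_right inf_le_left (by rw [hD'idx]; exact hp.out.ne_zero)).trans
        hD'idx.le
    exact le_antisymm h1 (le_relIndex_of_lt hG fun h => hr (h hrE))
  have hKsq : K.relIndex s.E = p ^ 2 := by
    rw [← Subgroup.relIndex_mul_relIndex K _ s.E hKE inf_le_left, hKidx, hE12idx, pow_two]
  have hKab : ∀ k ∈ K, ∀ k' ∈ K, k * k' = k' * k := by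
    have hle : (R ⊔ phi p K).relIndex K ≤ p := by
      have hMK : R ⊔ phi p K ≤ K := sup_le hRK phi_le_self
      have h3 := hrk _ s.E (hMK.trans hKs) (fun x hx y hy => by
        obtain ⟨k, hk, k', hk', z, hz, h⟩ := hcM x hx y hy
        rw [h]
        exact Subgroup.mul_mem _ (Subgroup.mem_sup_right (comm_mem_phi hk hk'))
          (Subgroup.mem_sup_left hz)) (fun x hx => by
        obtain ⟨k, hk, i, j, rfl⟩ := hdec x hx
        rw [(hKv k hk i j).mul_pow, hvp, mul_one]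
        exact Subgroup.mem_sup_right (pow_mem_phi hk))
      rw [← Subgroup.relIndex_mul_relIndex _ K s.E hMK hKs, hKsq, pow_succ' p 2] at h3
      exact Nat.le_of_mul_le_mul_right h3 (pow_pos hp.out.pos 2)
    obtain ⟨k₀, -, hk₀K⟩ := exists_gen_of_relIndex_le hG hRK hle
    have hsub : R ⊔ Subgroup.zpowers k₀ = Subgroup.closure (↑R ∪ {k₀}) := by
      rw [Subgroup.closure_union, Subgroup.closure_eq, Subgroup.zpowers_eq_closure]
    intro k hk k' hk'
    refine comm_closure (T := (R : Set G) ∪ {k₀}) ?_ k (hsub ▸ hk₀K hk) k' (hsub ▸ hk₀K hk')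
    rintro x (hx | rfl) y hy
    · exact (hcentR x hx y).symm
    · rcases hy with hy | hy
      · exact hcentR y hy _
      · rw [Set.mem_singleton_iff.1 hy]
  have hcentral : ∀ k ∈ K, ∀ g : G, g * k = k * g := by
    intro k hk g
    obtain ⟨n, e, he, rfl⟩ := s.exists_pow_mul hus g
    obtain ⟨k', hk', i, j, rfl⟩ := hdec e he
    exact (((hKu k hk).symm.pow_left n).mul_left ((show Commute k' k from hKab k' hk' k hk).mul_left
      (hKv k hk i j).symm)).eq
  have hab : ∀ x ∈ t.E, ∀ y ∈ t.E, x * y = y * x := by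
    have hmem : ∀ x ∈ t.E, x ∈ Subgroup.closure ((K : Set G) ∪ {r, u}) := by
      intro x hx
      obtain ⟨n, d, hd, rfl⟩ := t.exists_form s hut hus hx
      obtain ⟨k, hk, j, rfl⟩ := hgen d ⟨hd.2, hd.1⟩
      have h1 : u ∈ Subgroup.closure ((((K) : Subgroup G) : Set G) ∪ {r, u}) := Subgroup.subset_closure (Or.inr (Or.inr rfl))
      have h2 : r ∈ Subgroup.closure ((((K) : Subgroup G) : Set G) ∪ {r, u}) := Subgroup.subset_closure (Or.inr (Or.inl rfl))
      have h3 : k ∈ Subgroup.closure ((((K) : Subgroup G) : Set G) ∪ {r, u}) := Subgroup.subset_closure (Or.inl hk)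
      exact Subgroup.mul_mem _ (Subgroup.pow_mem _ h1 n) (Subgroup.mul_mem _ h3 (Subgroup.pow_mem _ h2 j))
    intro x hx y hy
    refine comm_closure ?_ x (hmem x hx) y (hmem y hy)
    rintro a (ha | rfl | rfl) b (hb | rfl | rfl)
    · exact hKab a ha b hb
    · exact (hKr a ha).eq
    · exact (hKu a ha).eq
    · exact (hKr b hb).eq.symm
    · rfl
    · exact (huW.2.2 r hrE.2)
    · exact (hKu b hb).eq.symm
    · exact (huW.2.2 r hrE.2).symm
    · rfl
  have hcyc : IsCyclic K := by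
    set Ω₁ := omegaZ p K with hΩdef
    have hT : ∀ a ∈ (Ω₁ : Set G) ∪ {r, u}, a ∈ t.E ∧ a ^ p = 1 := by
      rintro a (ha | rfl | rfl)
      exacts [⟨hKt ha.1, ha.2.1⟩, ⟨hrE.2, hrp⟩, ⟨hut, hup⟩]
    have hcard := hrk.card_le (elem_closure (fun a ha b hb => hab a (hT a ha).1 b (hT b hb).1)
      fun a ha => (hT a ha).2)
    have hlt1 : Ω₁ < Subgroup.closure ((Ω₁ : Set G) ∪ {r}) := SetLike.lt_iff_le_and_exists.2
      ⟨fun x hx => Subgroup.subset_closure (Or.inl hx), r, Subgroup.subset_closure (Or.inr rfl),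
        fun h => hr h.1⟩
    have hlt2 : Subgroup.closure ((Ω₁ : Set G) ∪ {r}) < Subgroup.closure ((Ω₁ : Set G) ∪ {r, u}) := by
      refine SetLike.lt_iff_le_and_exists.2 ⟨Subgroup.closure_mono (Set.union_subset_union_right _
        (Set.singleton_subset_iff.2 (Set.mem_insert _ _))), u,
        Subgroup.subset_closure (Or.inr (Or.inr rfl)), fun h => hus ?_⟩
      have hle : Subgroup.closure ((Ω₁ : Set G) ∪ {r}) ≤ s.E := (Subgroup.closure_le _).2 (by
        rintro a (ha | rfl)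
        exacts [hKs ha.1, hrE.1])
      exact hle h
    have h1 := (FusionRankTwo.mul_card_le_of_lt (hG.to_subgroup _) hlt2).trans hcard
    have h2 := (Nat.mul_le_mul_left p (FusionRankTwo.mul_card_le_of_lt (hG.to_subgroup _) hlt1)).trans h1
    rw [pow_succ' p 2, pow_two] at h2
    refine OddOrder.BG11.isCyclic_of_omega_le (hG.to_subgroup K) hp2
      (Nat.le_of_mul_le_mul_left (Nat.le_of_mul_le_mul_left h2 hp.out.pos) hp.out.pos) ?_
    exact fun x hx hxp => ⟨hx, hxp, fun e he => hKab e he x hx⟩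
  refine ⟨{
    α := α, u := u, r := r, r' := r', K := K
    mem_A := hα, u_mem := hut, u_not := hus, u_pow := hup
    r_mem := hrE, r_pow := hrp, r_not := hr
    r'_mem := hr's, r'_not := hr't, r'_pow := hr'p
    K_le := hKE
    mem_K := fun x => ⟨fun h => ⟨h.1.2, (hmemD' x).1 h.2⟩, fun h => ⟨⟨x.2, h.1⟩, (hmemD' x).2 h.2⟩⟩
    central := hcentral, cyclic := hcyc, relIndex_eq := hKidx, relIndex_sq := hKsq
    gen := hgen
    comm := fun x hx y hy => by
      obtain ⟨k, hk, k', hk', z, hz, h⟩ := hcM x hx y hy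
      rw [h, commutatorElement_eq_one_iff_mul_comm.2 (hKab k hk k' hk'), one_mul]
      exact hRK hz
    pow_mem := fun x hx => by
      obtain ⟨k, hk, i, j, rfl⟩ := hdec x hx
      rw [(hKv k hk i j).mul_pow, hvp, mul_one]
      exact K.pow_mem hk p
    c_pow := hcp, abelian := hab, np := hnp'
    fix := ?_ }⟩
  have := s.finite_aut
  intro γ hγ x hx
  have hle : s.pair u α ≤ MulAction.stabilizer (MulAut s.E) x := by
    have hcjfix : ∀ g : G, s.cj g x = x := fun g => Subtype.ext (by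
      rw [s.cj_apply, hcentral _ hx g, mul_inv_cancel_right])
    exact s.pair_induction hus (hcjfix u) (fun e _ => hcjfix e) (hwfix x ((hmemD' x).1 hx.2))
  exact hle hγ

namespace Core

variable (c : Core s t)

include c in
theorem exists_beta (hG : IsPGroup p G) (hp2 : p ≠ 2) :
    ∃ β ∈ B, (∀ k ∈ c.K, β k = k) ∧ (∀ g : G, g⁻¹ * β g ∈ s.E) ∧
      (∀ x ∈ s.E, x * β x ∈ c.K) ∧ ∃ a : ℕ, β ^ 2 ^ a = 1 := by
  haveI : c.K.Normal := ⟨fun k hk g => by
    rw [c.central k hk g, mul_inv_cancel_right]; exact hk⟩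
  have hKs : c.K ≤ s.E := c.K_le.trans inf_le_left
  obtain ⟨β, hβ, γ, hγ, hβγ, ⟨a, ha⟩, hβg, hβK⟩ := s.exists_inverting hG hp2 (le_refl s.E) hKs
    c.relIndex_sq c.comm c.pow_mem c.comm c.u_not c.mem_A
    (fun δ hδ x hx => by rw [c.fix δ hδ x hx]; exact hx) (fun δ _ y _ => (δ y).2)
    (fun h => s.not_all_fixed c.np fun δ hδ hco =>
      fix_step hG hco (fun x hx => c.fix δ hδ x hx) (h δ hδ hco))
  refine ⟨β, hβ, fun k hk => ?_, hβg, hβK, a, ha⟩
  rw [hβγ ⟨k, hKs hk⟩, c.fix γ hγ ⟨k, hKs hk⟩ hk]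

theorem false_of_elem {s t : Side p B} (c : Core s t) (hG : IsPGroup p G) (hp2 : p ≠ 2) (hrk : Rank3 p G) (hne : s.E ≠ t.E)
    {P : Subgroup G} (hPE : P ≤ s.E ⊓ t.E) (hPinv : ∀ γ ∈ t.A, Pres γ P) (hP : Elem p P)
    (hq : ∃ q ∈ P, q ∉ c.K) : False := by
  obtain ⟨q, hqP, hqK⟩ := hq
  have hPt : P ≤ t.E := hPE.trans inf_le_right
  haveI hPn : P.Normal := t.normal_of_inv hPt hPinv
  haveI hE12n : (s.E ⊓ t.E).Normal := s.inf_normal t
  set Ω₁ := omegaZ p t.E with hΩ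
  haveI hΩn : Ω₁.Normal := omegaZ_normal t.normal
  have hmemΩ : ∀ x ∈ t.E, x ^ p = 1 → x ∈ Ω₁ := fun x hx hxp =>
    ⟨hx, hxp, fun e he => c.abelian e he x hx⟩
  have hPΩ : P ≤ Ω₁ := fun x hx => hmemΩ x (hPt hx) (hP.2 x hx)
  have huΩ : c.u ∈ Ω₁ := hmemΩ _ c.u_mem c.u_pow
  set Ω₂ := Ω₁ ⊓ (s.E ⊓ t.E) with hΩ₂
  have hPΩ₂ : P ≤ Ω₂ := le_inf hPΩ hPE
  obtain ⟨α, hα, hnp⟩ := t.exists_pair hG c.r'_not
  -- the commutator with `u`
  have hf : ∀ y ∈ Ω₁, ⁅c.r', y⁆ ∈ Ω₂ := by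
    intro y hy
    exact ⟨Ω₁.mul_mem (hΩn.conj_mem y hy c.r') (Ω₁.inv_mem hy), by
      have h := t.comm_mem_inf s hG c.r' hy.1
      exact ⟨h.2, h.1⟩⟩
  have hfix : ∀ γ ∈ t.pair c.r' α, (orderOf γ).Coprime p →
      (∀ x : t.E, (x : G) ∈ Ω₁ → γ x = x) → ∀ x : t.E, (x : G) ∈ t.E → γ x = x :=
    fun γ _ hco h => fix_of_ord hG hco hp2 (fun x _ => (γ x).2) fun x hx hxp => h x (hmemΩ x hx hxp)
  have hcard := hrk.card_le (elem_omegaZ (p := p) (H := t.E))
  have hlt : Ω₂ < Ω₁ := SetLike.lt_iff_le_and_exists.2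
    ⟨inf_le_left, c.u, huΩ, fun h => c.u_not h.2.1⟩
  have hΩ₂card := (FusionRankTwo.mul_card_le_of_lt (hG.to_subgroup _) hlt).trans hcard
  rw [pow_succ' p 2] at hΩ₂card
  have hΩ₂le : Nat.card Ω₂ ≤ p ^ 2 := Nat.le_of_mul_le_mul_left hΩ₂card hp.out.pos
  have hPp : p ≤ Nat.card P := by
    rw [← Subgroup.relIndex_bot_left]
    exact le_relIndex_of_lt hG fun h => hqK (by rw [Subgroup.mem_bot.1 (h hqP)]; exact one_mem _)
  have hinvP : ∀ δ ∈ t.A, Pres δ P := hPinv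
  by_cases hPc : Nat.card P = p
  · -- a line: it is central
    have hPbot : (⊥ : Subgroup G).relIndex P ≤ p := by rw [Subgroup.relIndex_bot_left, hPc]
    have hPcent : ∀ x ∈ P, ∀ g : G, g * x = x * g := fun x hx g =>
      commutatorElement_eq_one_iff_mul_comm.1 (Subgroup.mem_bot.1
        (comm_mem_of_relIndex hG Subgroup.normal_bot hPn hPbot g hx))
    obtain ⟨k, hk, i, hki⟩ := c.gen q (hPE hqP)
    have hkp : Commute k c.r := (c.central k hk c.r).symm
    have hi : (c.r ^ i) ∉ c.K := fun h => hqK (hki ▸ c.K.mul_mem hk h)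
    -- the commutator of `r` and `r'` vanishes
    have hrr' : Commute c.r c.r' := by
      have h1 : Commute (c.r ^ i) c.r' := by
        have h2 : Commute (k * c.r ^ i) c.r' := (hki ▸ hPcent q hqP c.r').symm
        have h3 := ((show Commute k c.r' from (c.central k hk c.r').symm).inv_left).mul_left h2
        rwa [inv_mul_cancel_left] at h3
      have hr1 : c.r ≠ 1 := fun h => c.r_not (h ▸ one_mem _)
      have hmem : c.r ∈ Subgroup.zpowers (c.r ^ i) := by
        refine mem_zpowers_pow_iff.2 ?_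
        rw [orderOf_eq_prime c.r_pow hr1]
        refine ((hp.out.coprime_iff_not_dvd).2 fun ⟨m, hm⟩ => hi ?_).symm
        rw [hm, pow_mul, c.r_pow, one_pow]
        exact one_mem _
      obtain ⟨m, hm⟩ := hmem
      exact hm ▸ h1.zpow_left m
    have habs : ∀ x ∈ s.E, ∀ y ∈ s.E, x * y = y * x := by
      have hmem : ∀ x ∈ s.E, x ∈ Subgroup.closure ((c.K : Set G) ∪ {c.r, c.r'}) := by
        intro x hx
        obtain ⟨n, d, hd, rfl⟩ := s.exists_form t c.r'_mem c.r'_not hx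
        obtain ⟨k, hk, j, rfl⟩ := c.gen d hd
        have h1 : c.r' ∈ Subgroup.closure ((((c.K) : Subgroup G) : Set G) ∪ {c.r, c.r'}) := Subgroup.subset_closure (Or.inr (Or.inr rfl))
        have h2 : c.r ∈ Subgroup.closure ((((c.K) : Subgroup G) : Set G) ∪ {c.r, c.r'}) := Subgroup.subset_closure (Or.inr (Or.inl rfl))
        have h3 : k ∈ Subgroup.closure ((((c.K) : Subgroup G) : Set G) ∪ {c.r, c.r'}) := Subgroup.subset_closure (Or.inl hk)
        exact Subgroup.mul_mem _ (Subgroup.pow_mem _ h1 n) (Subgroup.mul_mem _ h3 (Subgroup.pow_mem _ h2 j))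
      intro x hx y hy
      refine comm_closure ?_ x (hmem x hx) y (hmem y hy)
      rintro a (ha | rfl | rfl) b (hb | rfl | rfl)
      · exact c.central b hb a
      · exact (c.central a ha c.r).symm
      · exact (c.central a ha c.r').symm
      · exact c.central b hb c.r
      · rfl
      · exact hrr'.eq
      · exact c.central b hb c.r'
      · exact hrr'.eq.symm
      · rfl
    obtain ⟨β, hβ, hβK, hβg, hβinv, -⟩ := c.exists_beta hG hp2
    have hbot : ∀ y ∈ P, y ∈ c.K → y = 1 := by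
      intro y hy hyK
      by_contra hy1
      refine hqK ((Subgroup.eq_of_le_of_card_ge (Subgroup.zpowers_le.2 hy)
        (by rw [hPc, Nat.card_zpowers, orderOf_eq_prime (hP.2 y hy) hy1]) ▸
          Subgroup.zpowers_le.2 hyK : P ≤ c.K) hqP)
    have hβP : ∀ y ∈ P, β y = y⁻¹ := fun y hy => eq_inv_of_mul_eq_one_right (hbot _
      (P.mul_mem hy (t.apply_mem_of_inv hPt hPinv hβ hy)) (hβinv y (hPE hy).1))
    -- the commutator is inverted and lies in `P`
    set f := ⁅c.r', c.u⁆ with hfdef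
    have hfΩ : f ∈ Ω₂ := hf c.u huΩ
    have hβf : β f = f⁻¹ := by
      obtain ⟨k₂, hk₂, hβr⟩ : ∃ k₂ ∈ c.K, β c.r' = c.r'⁻¹ * k₂ :=
        ⟨_, hβinv _ c.r'_mem, (inv_mul_cancel_left _ _).symm⟩
      obtain ⟨e, he, hβu⟩ : ∃ e ∈ s.E, β c.u = c.u * e :=
        ⟨_, hβg c.u, (mul_inv_cancel_left _ _).symm⟩
      have h1 : ⁅c.r'⁻¹ * k₂, c.u * e⁆ = ⁅c.r'⁻¹, c.u⁆ := by
        rw [comm_mul_left, commutatorElement_eq_one_iff_mul_comm.2 (c.central k₂ hk₂ (c.u * e)).symm,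
          comm_mul_right, commutatorElement_eq_one_iff_mul_comm.2
            (habs _ (s.E.inv_mem c.r'_mem) e he)]
        simp
      have h2 : ⁅c.r'⁻¹, c.u⁆ = c.r'⁻¹ * f⁻¹ * c.r' := by
        rw [hfdef]; simp only [commutatorElement_def]; group
      rw [hfdef, map_commutatorElement, hβr, hβu, h1, h2,
        mul_assoc, ← habs _ c.r'_mem _ (s.E.inv_mem hfΩ.2.1), inv_mul_cancel_left]
    have hfP : f ∈ P := by
      obtain ⟨k', hk', j, hfj⟩ := c.gen f hfΩ.2
      obtain ⟨m, hm⟩ : ∃ m : ℕ, c.r ^ j * ((k * c.r ^ i) ^ m)⁻¹ ∈ c.K := by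
        have hr1 : c.r ≠ 1 := fun h => c.r_not (h ▸ one_mem _)
        obtain ⟨m, hm⟩ : c.r ^ j ∈ Submonoid.powers (c.r ^ i) := by
          rw [mem_powers_iff_mem_zpowers]
          refine Subgroup.pow_mem _ ?_ j
          refine mem_zpowers_pow_iff.2 ?_
          rw [orderOf_eq_prime c.r_pow hr1]
          refine ((hp.out.coprime_iff_not_dvd).2 fun ⟨l, hl⟩ => hi ?_).symm
          rw [hl, pow_mul, c.r_pow, one_pow]
          exact one_mem _
        simp only at hm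
        refine ⟨m, ?_⟩
        rw [(hkp.pow_right i).mul_pow, hm, mul_inv_rev, mul_inv_cancel_left]
        exact c.K.inv_mem (c.K.pow_mem hk m)
      have hqm : q ^ m ∈ P := P.pow_mem hqP m
      have hkK : f * (q ^ m)⁻¹ ∈ c.K := by
        rw [hfj, hki, mul_assoc]; exact c.K.mul_mem hk' hm
      have hone : f * (q ^ m)⁻¹ = 1 := by
        have h1 := hβK _ hkK
        rw [map_mul, map_inv, hβf, hβP _ hqm, inv_inv] at h1
        have hcm : Commute (q ^ m) f := hcomm' (hPt hqm) hfΩ.2.2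
        have h2 : (f * (q ^ m)⁻¹) * (f * (q ^ m)⁻¹) = 1 := by
          nth_rewrite 1 [← h1]
          rw [mul_assoc, ← mul_assoc (q ^ m) f, hcm.eq, mul_assoc, mul_inv_cancel, mul_one,
            inv_mul_cancel]
        exact Subgroup.mem_bot.1 (mem_of_sq_mem hG hp2 (M := ⊥) (Subgroup.mem_bot.2 h2))
      rw [mul_inv_eq_one.1 hone]
      exact hqm
    have hu' : ∀ y ∈ Ω₁, ⁅c.r', y⁆ ∈ P := by
      intro y hy
      obtain ⟨n, d, hd, rfl⟩ := t.exists_form s c.u_mem c.u_not hy.1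
      exact ((dC c.r' P ⊤).mul_mem ((dC c.r' P ⊤).pow_mem ⟨Subgroup.mem_top _, hfP⟩ n)
        ⟨Subgroup.mem_top _, by
          rw [commutatorElement_eq_one_iff_mul_comm.2 (habs _ c.r'_mem d hd.2)]
          exact one_mem _⟩).2
    refine t.not_all_fixed hnp fun γ hγ hco => hfix γ hγ hco (fix_step hG hco
      (fix_of_triv_bot hG hco (t.pair_triv_of_index hG c.r'_not Subgroup.normal_bot hPn hPt bot_le
        hPbot (fun x hx => by
          rw [show x = 1 from Subtype.ext (Subgroup.mem_bot.1 hx), map_one]; exact one_mem _)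
        (t.pres_conj_of_inv hPinv hα) γ hγ))
      (t.pair_triv_of_comm c.r'_not hα hPn hΩn hPinv (fun δ _ => pres_omegaZ δ) hu'
        (fun e he y hy => by
          rw [commutatorElement_eq_one_iff_mul_comm.2 (c.abelian e he y hy.1)]
          exact one_mem _) γ hγ))
  -- a plane: it is the whole socle of the intersection
  obtain ⟨n, hn⟩ := IsPGroup.iff_card.1 (hG.to_subgroup P)
  have hP2 : Nat.card P = p ^ 2 := by
    have h1 := (Subgroup.card_le_of_le hPΩ₂).trans hΩ₂le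
    rw [hn] at h1 hPp hPc ⊢
    have h2 := (Nat.pow_le_pow_iff_right hp.out.one_lt).1 h1
    interval_cases n
    · exact absurd hPp (not_le.2 hp.out.one_lt)
    · exact absurd (pow_one p) hPc
    · rfl
  have hPeq : P = Ω₂ := Subgroup.eq_of_le_of_card_ge hPΩ₂ (hP2 ▸ hΩ₂le)
  have hPidx : P.relIndex Ω₁ ≤ p := by
    rw [hPeq, hΩ₂, Subgroup.inf_relIndex_left]
    have h1 : (s.E ⊓ t.E).relIndex t.E = p := by rw [inf_comm]; exact t.relIndex_inf s hG hne.symm
    exact (Subgroup.relIndex_le_of_le_right omegaZ_le (by rw [h1]; exact hp.out.ne_zero)).trans h1.le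
  have hPtriv : ∀ γ ∈ t.pair c.r' α, Triv γ P Ω₁ := t.pair_triv_of_index hG c.r'_not hPn hΩn omegaZ_le
    hPΩ hPidx (t.pres_conj_of_inv hPinv hα) (pres_omegaZ _)
  obtain ⟨β, hβ, γ, hγ, hβγ, ⟨a, ha⟩, hβg, hβP⟩ := t.exists_inverting hG hp2 hPt bot_le
    (by rw [Subgroup.relIndex_bot_left, hP2])
    (fun x hx y hy => Subgroup.mem_bot.2 (commutatorElement_eq_one_iff_mul_comm.2 (hP.1 x hx y hy)))
    (fun x hx => Subgroup.mem_bot.2 (hP.2 x hx))
    (fun e he x hx => Subgroup.mem_bot.2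
      (commutatorElement_eq_one_iff_mul_comm.2 (c.abelian e he x (hPt hx))))
    c.r'_not hα (fun δ _ x hx => by
      rw [show x = 1 from Subtype.ext (Subgroup.mem_bot.1 hx), map_one]; exact one_mem _)
    (fun δ hδ => hPinv δ (t.pair_le_A hα hδ))
    (fun hall => t.not_all_fixed hnp fun δ hδ hco => hfix δ hδ hco
      (fix_step hG hco (fix_of_triv_bot hG hco (hall δ hδ hco)) (hPtriv δ hδ)))
  have huβ : c.u⁻¹ * β c.u ∈ P := by
    have h := hPtriv γ hγ ⟨c.u, c.u_mem⟩ huΩ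
    rwa [← hβγ] at h
  obtain ⟨v, hv, hβv⟩ := exists_fixed hp2 hG ha P (fun m hm => t.apply_mem_of_inv hPt hPinv hβ hm) huβ
  have hvt : v ∈ t.E := by simpa using t.E.mul_mem c.u_mem (hPt hv)
  have hvs : v ∉ s.E := fun h => c.u_not (by simpa using s.E.mul_mem h (s.E.inv_mem (hPE hv).1))
  have hvΩ : v ∈ Ω₁ := by simpa using Ω₁.mul_mem huΩ (hPΩ hv)
  have hoP : ⁅c.r', v⁆ ∈ P := hPeq ▸ hf v hvΩ
  have ho : ⁅c.r', v⁆ = 1 := by
    refine Subgroup.mem_bot.1 (mem_of_fixed_inverted hG hp2 ?_ (hβP _ hoP))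
    obtain ⟨e, he, hβr⟩ : ∃ e ∈ t.E, β c.r' = c.r' * e :=
      ⟨_, hβg c.r', (mul_inv_cancel_left _ _).symm⟩
    rw [map_commutatorElement, hβv, hβr, comm_mul_left,
      commutatorElement_eq_one_iff_mul_comm.2 (c.abelian e he v hvt), mul_one, mul_inv_cancel, one_mul,
      inv_mul_cancel]
    exact one_mem _
  refine hvs (s.centralizer_le fun x hx => ?_)
  obtain ⟨m, d, hd, rfl⟩ := s.exists_form t c.r'_mem c.r'_not hx
  exact (((show Commute c.r' v from commutatorElement_eq_one_iff_mul_comm.1 ho).pow_left m).mul_left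
    (c.abelian d hd.2 v hvt)).symm.eq
where
  hcomm' {x y : G} (hx : x ∈ t.E) (hy : y ∈ t.E) : Commute x y := c.abelian x hx y hy

end Core

end CfsgLib.FusionTwoEssentials
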