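import Cfsg.Agent.FusionTwoEssentials.Fusion
import Cfsg.Agent.FusionTwoEssentials.Shape
import Cfsg.Agent.FusionTwoEssentials.Line
import Cfsg.Agent.SymplecticType.Ext

/-!
# The shape of `S` from a `Core` of two essential subgroups

With `O_p(F) = 1` the centre `K` has order `p`, the second commutator `z` is nontrivial, and `S` is a
Sylow subgroup of `Sp₄(p)`.
-/

set_option autoImplicit false
set_option linter.style.haveILetI false

namespace CfsgLib.FusionTwoEssentials

open Cfsg Cfsg.FusionSystem CfsgLib.Fusion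
open scoped commutatorElement

/-- A power of `a` commuting with `b`, where `a` of order `p` does not, is trivial. -/
theorem pow_eq_one_of_commute {X : Type*} [Group X] {p : ℕ} [hp : Fact p.Prime] {a b : X}
    (ha : a ^ p = 1) (hab : ¬ Commute a b) {m : ℕ} (h : Commute (a ^ m) b) : a ^ m = 1 := by
  by_contra hm
  have ha1 : a ≠ 1 := fun e => hm (by rw [e, one_pow])
  have hmem : a ∈ Subgroup.zpowers (a ^ m) := by
    refine mem_zpowers_pow_iff.2 ?_
    rw [orderOf_eq_prime ha ha1]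
    refine ((hp.out.coprime_iff_not_dvd).2 fun ⟨l, hl⟩ => hm ?_).symm
    rw [hl, pow_mul, ha, one_pow]
  obtain ⟨i, hi⟩ := hmem
  exact hab (hi ▸ h.zpow_left i)

/-- A statement on generators gives the statement everywhere. -/
theorem forall_of_closure {X : Type*} [Group X] {T : Set X} (hT : Subgroup.closure T = ⊤)
    (H : Subgroup X) (h : ∀ a ∈ T, a ∈ H) (g : X) : g ∈ H :=
  (Subgroup.closure_le H).2 h (hT ▸ Subgroup.mem_top g)

/-- The automorphisms of the system stabilising a subgroup. -/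
def stabIn {Ω : Type*} [Group Ω] {S : Subgroup Ω} (F : FusionSystem S) (E : Subgroup S) :
    Subgroup (MulAut S) :=
  F.autGroup S ⊓
    { carrier := {β | ∀ x, β x ∈ E ↔ x ∈ E}
      one_mem' := fun _ => Iff.rfl
      mul_mem' := fun {a b} ha hb x => (ha (b x)).trans (hb x)
      inv_mem' := fun {a} ha x => by rw [← ha (a⁻¹ x), MulAut.apply_inv_self] }

variable {Ω : Type*} [Group Ω] {S : Subgroup Ω} [Finite S] {p : ℕ} [hp : Fact p.Prime]
  {F : FusionSystem S}

theorem mem_stabIn {E : Subgroup S} {β : MulAut S} (hβ : β ∈ F.autGroup S)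
    (h : ∀ x ∈ E, β x ∈ E) : β ∈ stabIn F E := by
  refine ⟨hβ, fun x => ⟨fun hx => ?_, h x⟩⟩
  have hmap : E.map β.toMonoidHom = E :=
    Subgroup.eq_of_le_of_card_ge (by rintro _ ⟨y, hy, rfl⟩; exact h y hy)
      (Subgroup.card_map_of_injective β.injective).ge
  rw [← hmap] at hx
  obtain ⟨y, hy, hyx⟩ := hx
  rwa [← β.injective hyx]

/-- No nontrivial subgroup is invariant under all the automisers. -/
theorem false_of_invariant (hS : IsPGroup p S) (hF : F.IsSaturated p) (hO : F.core = ⊥)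
    {T : Subgroup S} (hT1 : T ≠ ⊥) (hTn : T.Normal)
    (hle : ∀ P : Subgroup Ω, F.IsEssential p P → ∀ x ∈ T, (x : Ω) ∈ P)
    (hinv : ∀ P : Subgroup Ω, (P = S ∨ F.IsEssential p P) → ∀ α ∈ F.autGroup P,
      ∀ (x : P) (hx : (x : Ω) ∈ S) (hy : (α x : Ω) ∈ S),
        (⟨x, hx⟩ : S) ∈ T → (⟨α x, hy⟩ : S) ∈ T) : False := by
  refine hT1 ?_
  have hN : F.IsNormal (T.map S.subtype) := by
    refine FusionClosed.isNormal_of_invariant hS hF (Subgroup.map_subtype_le T) ?_ ?_ ?_
    · rintro g hg _ ⟨x, hx, rfl⟩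
      exact ⟨⟨g, hg⟩ * x * ⟨g, hg⟩⁻¹, hTn.conj_mem x hx _, rfl⟩
    · rintro P hP _ ⟨x, hx, rfl⟩
      exact hle P hP x hx
    · rintro P hP α hα x ⟨y, hy, hyx⟩
      have hPS : P ≤ S := by
        rcases hP with rfl | hP
        · exact le_rfl
        · exact hP.1.1
      have h1 := hinv P hP α hα x (hPS x.2) (hPS (α x).2)
        (by rwa [show (⟨(x : Ω), hPS x.2⟩ : S) = y from Subtype.ext hyx.symm])
      exact ⟨_, h1, rfl⟩
  have hle' : T.map S.subtype ≤ (⊥ : Subgroup Ω) := by
    rw [← hO]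
    exact le_sSup hN
  exact (Subgroup.eq_bot_iff_forall _).2 fun x hx =>
    Subtype.ext (Subgroup.mem_bot.1 (hle' ⟨x, hx, rfl⟩))

/-- Central elements lie in every essential subgroup. -/
theorem mem_of_central {P : Subgroup Ω} (hP : F.IsEssential p P) {x : S}
    (hx : ∀ g : S, g * x = x * g) : (x : Ω) ∈ P :=
  centralizerIn_le_of_centric hP.1 (mem_centralizerIn.2 ⟨x.2, fun y hy =>
    congrArg Subtype.val (hx ⟨y, hP.1.1 hy⟩)⟩)

section Shape

variable {s t : Side p (F.autGroup S)} (c : Core s t)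

include c

/-- The centre has order `p`. -/
theorem card_K (hp2 : p ≠ 2) (hS : IsPGroup p S) (hrk2 : ¬ SectionalPRankLE p 2 S)
    (hF : F.IsSaturated p) (hO : F.core = ⊥) : Nat.card c.K = p := by
  obtain ⟨k, hk⟩ := IsPGroup.iff_card.1 (hS.to_subgroup c.K)
  obtain rfl | rfl | hk2 : k = 0 ∨ k = 1 ∨ 2 ≤ k := by omega
  · exfalso
    rw [pow_zero] at hk
    have hK : c.K = ⊥ := Subgroup.card_eq_one.1 hk
    have hcard : Nat.card S = p ^ 3 := by rw [c.card_eq hS, hk, mul_one]
    refine hrk2 fun H N _ A hA hAp => ?_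
    by_contra hlt
    push Not at hlt
    have hHS := Subgroup.card_le_card_group H
    rw [hcard] at hHS
    have hAle := Subgroup.card_le_card_group A
    have hNc := N.card_eq_card_quotient_mul_card_subgroup
    have hAdvd : Nat.card A ∣ p ^ 3 :=
      (Subgroup.card_subgroup_dvd_card A).trans ((Dvd.intro _ hNc.symm).trans
        (hcard ▸ Subgroup.card_subgroup_dvd_card H))
    obtain ⟨i, hi, hAi⟩ := (Nat.dvd_prime_pow hp.out).1 hAdvd
    rw [hAi] at hlt
    have hi3 : i = 3 := by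
      have := (Nat.pow_lt_pow_iff_right hp.out.one_lt).1 hlt
      omega
    rw [hAi, hi3] at hAle
    have hN1 : Nat.card N ≤ 1 := by
      by_contra hN
      push Not at hN
      have h2 : Nat.card (H ⧸ N) * 2 ≤ Nat.card H := hNc ▸ Nat.mul_le_mul_left _ hN
      have := pow_pos hp.out.pos 3
      omega
    have hN : N = ⊥ := Subgroup.card_eq_one.1 (le_antisymm hN1 Nat.card_pos)
    have hHq : Nat.card (H ⧸ N) = Nat.card H := by
      rw [hNc, le_antisymm hN1 Nat.card_pos, mul_one]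
    have hHtop : H = ⊤ := Subgroup.eq_top_of_card_eq _ (by
      rw [hcard]; omega)
    have hAtop : A = ⊤ := Subgroup.eq_top_of_card_eq _ (by
      rw [hAi, hi3]; omega)
    have hmul : ∀ a b : S, a * b = b * a := fun a b => by
      have ha : (a : S) ∈ H := hHtop ▸ Subgroup.mem_top a
      have hb : (b : S) ∈ H := hHtop ▸ Subgroup.mem_top b
      have h1 := congrArg Subtype.val (hA.is_comm.comm
        (⟨QuotientGroup.mk' N ⟨a, ha⟩, hAtop ▸ Subgroup.mem_top _⟩ : A)
        ⟨QuotientGroup.mk' N ⟨b, hb⟩, hAtop ▸ Subgroup.mem_top _⟩)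
      simp only [Subgroup.coe_mul, ← map_mul] at h1
      have h2 := (QuotientGroup.eq (s := N)).1 h1
      rw [hN, Subgroup.mem_bot, inv_mul_eq_one] at h2
      exact congrArg Subtype.val h2
    refine c.f_not hS ?_
    show ⁅c.r', c.u⁆ ∈ c.K
    rw [commutatorElement_eq_one_iff_mul_comm.2 (hmul _ _)]
    exact one_mem _
  · rw [hk, pow_one]
  · exfalso
    have hpk : c.pk ≠ ⊥ := by
      haveI := c.cyclic
      obtain ⟨g, hg⟩ := IsCyclic.exists_generator (α := c.K)
      have ho : orderOf g = p ^ k := (orderOf_eq_card_of_forall_mem_zpowers hg).trans hk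
      intro h
      have h1 : (g : S) ^ p = 1 := Subgroup.mem_bot.1 (h ▸ ⟨g, g.2, rfl⟩)
      have h2 : p ^ k ∣ p := ho ▸ orderOf_dvd_of_pow_eq_one (Subtype.ext h1)
      have h3 := Nat.le_of_dvd hp.out.pos h2
      have h4 := Nat.pow_le_pow_right hp.out.pos hk2
      have h5 : p < p ^ 2 := by
        calc p = p ^ 1 := (pow_one p).symm
          _ < p ^ 2 := Nat.pow_lt_pow_right hp.out.one_lt (by norm_num)
      omega
    have hz : c.z ∈ c.pk := by
      haveI := c.cyclic
      obtain ⟨g, hg⟩ := IsCyclic.exists_generator (α := c.K)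
      obtain ⟨i, hi⟩ := hg ⟨c.z, c.z_mem hS⟩
      have ho : orderOf g = p ^ k := (orderOf_eq_card_of_forall_mem_zpowers hg).trans hk
      have hi' : g ^ i = (⟨c.z, c.z_mem hS⟩ : c.K) := hi
      have h1 : g ^ (i * (p : ℤ)) = 1 := by
        rw [zpow_mul, hi', zpow_natCast]
        exact Subtype.ext (c.z_pow hS)
      rw [← orderOf_dvd_iff_zpow_eq_one, ho] at h1
      obtain ⟨j, hj⟩ : (p : ℤ) ∣ i := by
        have h2 : ((p : ℤ) * p) ∣ i * p :=
          (by exact_mod_cast (pow_two p ▸ pow_dvd_pow p hk2) : ((p : ℤ) * p) ∣ ((p ^ k : ℕ) : ℤ)).trans h1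
        exact Int.dvd_of_mul_dvd_mul_right (by exact_mod_cast hp.out.ne_zero) h2
      refine ⟨(g ^ j : c.K), (g ^ j).2, ?_⟩
      rw [← Subgroup.coe_pow, ← zpow_natCast, ← zpow_mul, mul_comm, ← hj, hi']
    have hsup : Subgroup.zpowers c.z ⊔ c.pk ≤ c.pk :=
      sup_le (Subgroup.zpowers_le.2 hz) le_rfl
    refine false_of_invariant hS hF hO hpk ?_ ?_ ?_
    · exact ⟨fun x hx g => by rw [c.central x (c.pk_le hx) g, mul_inv_cancel_right]; exact hx⟩
    · exact fun P hP x hx => mem_of_central hP (c.central x (c.pk_le hx))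
    · intro P hP α hα x hx hy hxT
      obtain ⟨a, ha, hax⟩ := hxT
      have haP : (a : Ω) ∈ P := by
        rcases hP with rfl | hP
        · exact a.2
        · exact mem_of_central hP (c.central a ha)
      have hPS : P ≤ S := by
        rcases hP with rfl | hP
        · exact le_rfl
        · exact hP.1.1
      have h1 : x = (⟨a, haP⟩ : P) ^ p := Subtype.ext (congrArg Subtype.val hax).symm
      have h2 : (⟨(α x : Ω), hy⟩ : S) = (⟨α ⟨a, haP⟩, hPS (α ⟨a, haP⟩).2⟩ : S) ^ p :=
        Subtype.ext (by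
          show (α x : Ω) = ((α ⟨a, haP⟩ : P) : Ω) ^ p
          rw [h1, map_pow, Subgroup.coe_pow])
      rw [h2]
      exact hsup (c.pow_mem_sup hS hp2 _)

/-- The second commutator is nontrivial. -/
theorem z_ne_one (hp2 : p ≠ 2) (hS : IsPGroup p S) (hrk : Rank3 p S)
    (hF : F.IsSaturated p) (hO : F.core = ⊥) (hK : Nat.card c.K = p) : c.z ≠ 1 := by
  intro hz
  set f := c.f with hf
  have hfm := c.f_mem hS
  have hcard : Nat.card S = p ^ 4 := by rw [c.card_eq hS, hK, ← pow_succ]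
  have hpk : c.pk = ⊥ := (Subgroup.eq_bot_iff_forall _).2 (by
    rintro _ ⟨a, ha, rfl⟩
    have h1 : (⟨a, ha⟩ : c.K) ^ Nat.card c.K = 1 := pow_card_eq_one'
    rw [hK] at h1
    exact congrArg Subtype.val h1)
  have hexp : ∀ g : S, g ^ p = 1 := fun g => by
    have h1 := c.pow_mem_sup hS hp2 g
    rwa [hz, Subgroup.zpowers_one_eq_bot, hpk, sup_bot_eq, Subgroup.mem_bot] at h1
  have hgen := c.closure_eq_top hS
  have hrf : Commute c.r' f := commutatorElement_eq_one_iff_mul_comm.1 hz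
  have huf : Commute c.u f := c.abelian _ c.u_mem _ hfm.2
  have hfc : ∀ g : S, g * f = f * g := fun g =>
    (Subgroup.mem_centralizer_iff.1 (forall_of_closure hgen (Subgroup.centralizer {f}) (fun a ha => by
      refine Subgroup.mem_centralizer_iff.2 fun y hy => ?_
      rw [Set.mem_singleton_iff.1 hy]
      rcases ha with ha | ha | ha | ha
      · exact c.central a ha f
      · rw [ha]; exact hrf.eq.symm
      · rw [ha]
      · rw [ha]; exact huf.eq.symm) g) f rfl).symm
  have hcen : ∀ d ∈ s.E ⊓ t.E, ∀ g : S, g * d = d * g := fun d hd g => by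
    obtain ⟨k, hk, j, rfl⟩ := c.gen_f hS d hd
    exact (show Commute g (k * f ^ j) from
      Commute.mul_right (c.central k hk g) ((show Commute g f from hfc g).pow_right j))
  haveI hNn : (Subgroup.zpowers f).Normal := ⟨fun x hx g => by
    obtain ⟨i, rfl⟩ := hx
    rw [((show Commute g f from hfc g).zpow_right i).eq, mul_inv_cancel_right]
    exact ⟨i, rfl⟩⟩
  have hcomm : ∀ g h : S, ⁅g, h⁆ ∈ Subgroup.zpowers f := by
    have h1 : ∀ g h : S, g * h = h * g → ⁅g, h⁆ ∈ Subgroup.zpowers f := fun g h e => by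
      rw [commutatorElement_eq_one_iff_mul_comm.2 e]; exact one_mem _
    have hu : ∀ h : S, ⁅c.u, h⁆ ∈ Subgroup.zpowers f := fun h =>
      (forall_of_closure hgen (dC c.u (Subgroup.zpowers f) ⊤) (fun a ha => by
        refine ⟨Subgroup.mem_top _, ?_⟩
        rcases ha with ha | ha | ha | ha
        · exact h1 _ _ (c.central a ha _)
        · rw [ha, ← comm_swap]; exact Subgroup.inv_mem _ (Subgroup.mem_zpowers f)
        · rw [ha]; exact h1 _ _ huf.eq
        · rw [ha]; exact h1 _ _ rfl) h).2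
    have hr : ∀ h : S, ⁅c.r', h⁆ ∈ Subgroup.zpowers f := fun h =>
      (forall_of_closure hgen (dC c.r' (Subgroup.zpowers f) ⊤) (fun a ha => by
        refine ⟨Subgroup.mem_top _, ?_⟩
        rcases ha with ha | ha | ha | ha
        · exact h1 _ _ (c.central a ha _)
        · rw [ha]; exact h1 _ _ rfl
        · rw [ha]; exact h1 _ _ hrf.eq
        · rw [ha]; exact Subgroup.mem_zpowers f) h).2
    intro g h
    exact forall_of_closure hgen (commInto (Subgroup.zpowers f) ⊤) (fun a ha y _ => by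
      rcases ha with ha | ha | ha | ha
      · exact h1 _ _ (c.central a ha y).symm
      · rw [ha]; exact hr y
      · rw [ha]; exact h1 _ _ (hfc y).symm
      · rw [ha]; exact hu y) g h (Subgroup.mem_top h)
  have hfK := c.f_not hS
  have hE12 : Nat.card (s.E ⊓ t.E : Subgroup S) = p ^ 2 := by
    have h1 := Subgroup.relIndex_mul_relIndex (⊥ : Subgroup S) c.K _ bot_le c.K_le
    rw [Subgroup.relIndex_bot_left, Subgroup.relIndex_bot_left, hK, c.relIndex_eq] at h1
    rw [pow_two, h1]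
  have hf1 : f ≠ 1 := fun e => hfK (show f ∈ c.K by rw [e]; exact one_mem _)
  -- a line on each side
  have line : ∀ {B : Subgroup (MulAut S)} (σ : Side p B), s.E ⊓ t.E ≤ σ.E →
      ∃ L : Subgroup S, L ≤ s.E ⊓ t.E ∧ Nat.card L = p ∧ f ∉ L ∧ (∀ α ∈ σ.A, Pres α L) ∧
        ∃ β ∈ B, (∀ a ∈ L, β a = a) ∧ β f = f⁻¹ := by
    intro B σ hσ
    obtain ⟨g, hg⟩ := σ.exists_not_mem
    have hσc : Nat.card σ.E = p ^ 3 := by
      have h1 := σ.E.card_mul_index
      rw [σ.index, hcard, pow_succ p 3] at h1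
      exact Nat.eq_of_mul_eq_mul_right hp.out.pos h1
    have hlt : s.E ⊓ t.E < σ.E := lt_of_le_of_ne hσ fun e => by
      rw [← e, hE12] at hσc
      exact absurd (Nat.pow_right_injective hp.out.two_le hσc) (by norm_num)
    obtain ⟨e₀, he₀, he₀n⟩ := SetLike.exists_of_lt hlt
    have hσeq : σ.E = Subgroup.closure (((s.E ⊓ t.E : Subgroup S) : Set S) ∪ {e₀}) := by
      set W := Subgroup.closure (((s.E ⊓ t.E : Subgroup S) : Set S) ∪ {e₀}) with hW
      have hWle : W ≤ σ.E := (Subgroup.closure_le _).2 (by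
        rintro a (ha | rfl)
        exacts [hσ ha, he₀])
      have hlt' : s.E ⊓ t.E < W := SetLike.lt_iff_le_and_exists.2
        ⟨fun a ha => Subgroup.subset_closure (Or.inl ha), e₀,
          Subgroup.subset_closure (Or.inr rfl), he₀n⟩
      refine (Subgroup.eq_of_le_of_card_ge hWle ?_).symm
      rw [hσc, pow_succ', ← hE12]
      exact FusionRankTwo.mul_card_le_of_lt (hS.to_subgroup _) hlt'
    have hab : ∀ x ∈ σ.E, ∀ y ∈ σ.E, x * y = y * x := by
      rw [hσeq]
      refine comm_closure ?_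
      rintro a (ha | rfl) b (hb | rfl)
      exacts [(hcen a ha b).symm, (hcen a ha b).symm, hcen b hb a, rfl]
    have hΦ : phi p σ.E = ⊥ := eq_bot_iff.2 (phi_le (fun a _ => Subgroup.mem_bot.2 (hexp a))
      fun a ha b hb => Subgroup.mem_bot.2
        (commutatorElement_eq_one_iff_mul_comm.2 (hab a ha b hb)))
    haveI : (phi p σ.E).Normal := phi_normal σ.normal
    have h3 : (phi p σ.E).relIndex σ.E = p ^ 3 := by rw [hΦ, Subgroup.relIndex_bot_left, hσc]
    have hdC : dC g (phi p σ.E) σ.E = s.E ⊓ t.E := by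
      have hle : s.E ⊓ t.E ≤ dC g (phi p σ.E) σ.E := fun d hd => ⟨hσ hd, by
        rw [commutatorElement_eq_one_iff_mul_comm.2 (hcen d hd g)]; exact one_mem _⟩
      refine (Subgroup.eq_of_le_of_card_ge hle ?_).symm
      by_contra hlt'
      push Not at hlt'
      rw [hE12] at hlt'
      refine hg (σ.centralizer_le fun x hx => ?_)
      have hdle : dC g (phi p σ.E) σ.E ≤ σ.E := fun a ha => ha.1
      have htop : dC g (phi p σ.E) σ.E = σ.E := by
        refine Subgroup.eq_of_le_of_card_ge hdle ?_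
        obtain ⟨i, hi⟩ := IsPGroup.iff_card.1 (hS.to_subgroup (dC g (phi p σ.E) σ.E))
        rw [hi] at hlt' ⊢
        rw [hσc]
        exact Nat.pow_le_pow_right hp.out.pos ((Nat.pow_lt_pow_iff_right hp.out.one_lt).1 hlt')
      have h4 : ⁅g, x⁆ ∈ phi p σ.E := (htop.symm ▸ hx : x ∈ dC g (phi p σ.E) σ.E).2
      rw [hΦ, Subgroup.mem_bot] at h4
      exact commutatorElement_eq_one_iff_mul_comm.1 h4
    have hC : (dC g (phi p σ.E) σ.E).relIndex σ.E = p := by
      rw [hdC]
      have h1 := Subgroup.relIndex_mul_relIndex (⊥ : Subgroup S) _ _ bot_le hσ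
      rw [Subgroup.relIndex_bot_left, Subgroup.relIndex_bot_left, hE12, hσc, pow_succ p 2] at h1
      exact Nat.eq_of_mul_eq_mul_left (pow_pos hp.out.pos 2) h1
    obtain ⟨L, hLn, -, hLle, hLinv, hLidx, z', hz', hz'L⟩ :=
      σ.exists_invariant_line hS hg h3 hC (fun z' _ => by
        obtain ⟨i, hi⟩ := hcomm g z'
        rw [← hi, commutatorElement_eq_one_iff_mul_comm.2
          ((show Commute g f from hfc g).zpow_right i).eq]
        exact one_mem _)
    rw [hdC] at hLle
    rw [hΦ, Subgroup.relIndex_bot_left] at hLidx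
    have hfL : f ∉ L := fun h => hz'L (Subgroup.zpowers_le.2 h (hcomm g z'))
    refine ⟨L, hLle, hLidx, hfL, hLinv, ?_⟩
    have hLσ : L ≤ σ.E := hLle.trans hσ
    haveI := hLn
    obtain ⟨α, hα, hnp⟩ := σ.exists_pair hS hg
    have htrivL : ∀ γ ∈ σ.pair g α, Triv γ ⊥ L :=
      σ.pair_triv_of_index hS hg Subgroup.normal_bot hLn hLσ bot_le
        (by rw [Subgroup.relIndex_bot_left, hLidx])
        (fun x hx => by
          rw [show x = 1 from Subtype.ext (Subgroup.mem_bot.1 hx), map_one]; exact one_mem _)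
        (σ.pres_conj_of_inv hLinv hα)
    obtain ⟨β, hβ, γ, hγ, hβγ, -, -, hβinv⟩ := σ.exists_inverting hS hp2 (le_refl σ.E) hLσ
      (by
        have h1 := Subgroup.relIndex_mul_relIndex (⊥ : Subgroup S) L _ bot_le hLσ
        rw [Subgroup.relIndex_bot_left, Subgroup.relIndex_bot_left, hLidx, hσc, pow_succ' p 2]
          at h1
        exact Nat.eq_of_mul_eq_mul_left hp.out.pos h1)
      (fun x hx y hy => by
        rw [commutatorElement_eq_one_iff_mul_comm.2 (hab x hx y hy)]; exact one_mem _)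
      (fun x _ => by rw [hexp x]; exact one_mem _)
      (fun e he x hx => by
        rw [commutatorElement_eq_one_iff_mul_comm.2 (hab e he x hx)]; exact one_mem _)
      hg hα (fun δ hδ => hLinv δ (σ.pair_le_A hα hδ)) (fun δ _ x _ => (δ x).2)
      (fun hall => σ.not_all_fixed hnp fun δ hδ hco =>
        fix_step hS hco (fun x hx => by
          have h1 := htrivL δ hδ x hx
          rw [Subgroup.mem_bot, inv_mul_eq_one] at h1
          exact (Subtype.ext h1).symm) (hall δ hδ hco))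
    refine ⟨β, hβ, fun a ha => ?_, ?_⟩
    · have h1 := htrivL γ hγ ⟨a, hLσ ha⟩ ha
      rw [Subgroup.mem_bot, inv_mul_eq_one, ← hβγ] at h1
      exact h1.symm
    · refine eq_inv_of_mul_eq_one_right ?_
      by_contra hne
      have h1 : f * β f ∈ L := hβinv f (hσ hfm)
      have h2 : f * β f ∈ Subgroup.zpowers f :=
        Subgroup.mul_mem _ (Subgroup.mem_zpowers f) (by
          have := hcomm (β c.r') (β c.u)
          rwa [← map_commutatorElement] at this)
      refine hfL (?_ : f ∈ L)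
      have h3 : Subgroup.zpowers f ≤ Subgroup.zpowers (f * β f) := by
        refine (Subgroup.eq_of_le_of_card_ge (Subgroup.zpowers_le.2 h2) ?_).ge
        rw [Nat.card_zpowers, Nat.card_zpowers, orderOf_eq_prime (hexp f) hf1,
          orderOf_eq_prime (hexp _) hne]
      exact Subgroup.zpowers_le.2 h1 (h3 (Subgroup.mem_zpowers f))
  obtain ⟨L₀, hL₀le, hL₀c, hfL₀, hL₀inv, -⟩ := line s inf_le_left
  have hL₀s : L₀ ≤ s.E := hL₀le.trans inf_le_left
  have hL₀n : L₀.Normal := ⟨fun x hx g => by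
    rw [hcen x (hL₀le hx) g, mul_inv_cancel_right]; exact hx⟩
  have hBL₀ : ∀ β ∈ F.autGroup S, ∀ x ∈ L₀, β x ∈ L₀ := fun β hβ x hx =>
    s.apply_mem_of_inv hL₀s hL₀inv hβ hx
  refine false_of_invariant hS hF hO (T := L₀)
    (fun h => by rw [h, Subgroup.card_bot] at hL₀c; exact hp.out.ne_one hL₀c.symm) hL₀n
    (fun P hP x hx => mem_of_central hP (hcen x (hL₀le hx))) ?_
  intro P hP α hα x hx hy hxL
  rcases hP with rfl | hP
  · exact hBL₀ α hα _ hxL
  have hle12 : s.E ⊓ t.E ≤ P.subgroupOf S := fun d hd =>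
    Subgroup.mem_subgroupOf.2 (mem_of_central hP (hcen d hd))
  have hPn : (P.subgroupOf S).Normal := ⟨fun a ha g => by
    rw [conj_eq_comm_mul]
    exact Subgroup.mul_mem _
      (hle12 (Subgroup.zpowers_le.2 hfm (hcomm g a))) ha⟩
  obtain ⟨σ, hσE, htrans⟩ := exists_side hp2 hS hF hrk hP hPn (stabIn F (P.subgroupOf S))
    inf_le_left (fun g => mem_stabIn (Inn_le_autGroup le_rfl ⟨g, rfl⟩)
      fun a ha => hPn.conj_mem a ha g)
    (fun β hβ a ha => (hβ.2 a).2 ha) (fun β hβ h => mem_stabIn hβ h)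
  obtain ⟨L, hLle, hLc, hfL, hLinv, β, hβ, hβfix, hβf⟩ := line σ (by rw [hσE]; exact hle12)
  have hLL : L = L₀ := by
    by_contra hne
    have hinf : ∀ a ∈ L₀, a ∈ L → a = 1 := by
      intro a ha ha'
      by_contra ha1
      have e : ∀ M : Subgroup S, Nat.card M = p → a ∈ M → M = Subgroup.zpowers a := fun M hM haM =>
        (Subgroup.eq_of_le_of_card_ge (Subgroup.zpowers_le.2 haM)
          (by rw [hM, Nat.card_zpowers, orderOf_eq_prime (hexp a) ha1])).symm
      exact hne ((e L hLc ha').trans (e L₀ hL₀c ha).symm)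
    obtain ⟨k₀, hk₀, hk₀1⟩ : ∃ k ∈ L₀, k ≠ 1 := by
      by_contra h
      push Not at h
      rw [(Subgroup.eq_bot_iff_forall L₀).2 h, Subgroup.card_bot] at hL₀c
      exact hp.out.ne_one hL₀c.symm
    have hLE : ∀ a ∈ L, ∀ y ∈ L, β a = a := fun a ha _ _ => hβfix a ha
    -- `β` inverts `L₀`
    have hinv0 : ∀ a ∈ L₀, β a = a⁻¹ := by
      intro a ha
      refine eq_inv_of_mul_eq_one_right (hinf _ (L₀.mul_mem ha (hBL₀ β hβ.1 a ha)) ?_)
      obtain ⟨γ, -, hγ⟩ := σ.exists_restr hβ
      have haσ : a ∈ σ.E := by rw [hσE]; exact hle12 (hL₀le ha)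
      have hdec : ∀ d ∈ s.E ⊓ t.E, d * β d ∈ L := by
        have hsup : L ⊔ Subgroup.zpowers f = s.E ⊓ t.E := by
          refine Subgroup.eq_of_le_of_card_ge (sup_le hLle (Subgroup.zpowers_le.2 hfm)) ?_
          rw [hE12, pow_two]
          refine le_trans (Nat.mul_le_mul_left p hLc.ge) (FusionRankTwo.mul_card_le_of_lt
            (hS.to_subgroup _) (SetLike.lt_iff_le_and_exists.2 ⟨le_sup_left, f,
              Subgroup.mem_sup_right (Subgroup.mem_zpowers f), hfL⟩))
        intro d hd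
        haveI : L.Normal := ⟨fun x hx g => by
          rw [hcen x (hLle hx) g, mul_inv_cancel_right]; exact hx⟩
        rw [← hsup, Subgroup.mem_sup_of_normal_left] at hd
        obtain ⟨l, hl, w, hw, rfl⟩ := hd
        obtain ⟨i, rfl⟩ := hw
        show l * f ^ i * β (l * f ^ i) ∈ L
        rw [map_mul, map_zpow, hβf, hβfix l hl, inv_zpow,
          Commute.mul_mul_mul_comm (show Commute (f ^ i) l from hcen l (hLle hl) _),
          mul_inv_cancel, mul_one]
        exact L.mul_mem hl hl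
      exact hdec a (hL₀le ha)
    -- `β` inverts all of the intersection
    have hsup0 : L₀ ⊔ Subgroup.zpowers f = s.E ⊓ t.E := by
      refine Subgroup.eq_of_le_of_card_ge (sup_le hL₀le (Subgroup.zpowers_le.2 hfm)) ?_
      rw [hE12, pow_two]
      refine le_trans (Nat.mul_le_mul_left p hL₀c.ge) (FusionRankTwo.mul_card_le_of_lt
        (hS.to_subgroup _) (SetLike.lt_iff_le_and_exists.2 ⟨le_sup_left, f,
          Subgroup.mem_sup_right (Subgroup.mem_zpowers f), hfL₀⟩))
    have hall : ∀ d ∈ s.E ⊓ t.E, β d = d⁻¹ := by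
      intro d hd
      rw [← hsup0, Subgroup.mem_sup_of_normal_right] at hd
      obtain ⟨a, ha, w, hw, rfl⟩ := hd
      obtain ⟨i, rfl⟩ := hw
      rw [map_mul, map_zpow, hinv0 a ha, hβf, inv_zpow, ← mul_inv_rev,
        ((show Commute a f from (hcen a (hL₀le ha) f).symm).zpow_right i).eq]
    obtain ⟨l, hl, hl1⟩ : ∃ l ∈ L, l ≠ 1 := by
      by_contra h
      push Not at h
      rw [(Subgroup.eq_bot_iff_forall L).2 h, Subgroup.card_bot] at hLc
      exact hp.out.ne_one hLc.symm
    have h1 := (hβfix l hl).symm.trans (hall l (hLle hl))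
    refine hl1 (Subgroup.mem_bot.1 (mem_of_sq_mem hS hp2 (M := ⊥) (Subgroup.mem_bot.2 ?_)))
    nth_rewrite 2 [h1]
    exact mul_inv_cancel l
  exact htrans L₀ (fun δ hδ => hLL ▸ hLinv δ hδ) α hα x hx hy hxL

/-- The shape of `S` and of the two sides. -/
theorem shape (hp2 : p ≠ 2) (hS : IsPGroup p S) (hrk : Rank3 p S)
    (hrk2 : ¬ SectionalPRankLE p 2 S) (hF : F.IsSaturated p) (hO : F.core = ⊥) :
    (∃ P : Sylow p ↥(Matrix.symplecticGroup (Fin 2) (ZMod p)),
        Nonempty (↥S ≃* ↥(P : Subgroup ↥(Matrix.symplecticGroup (Fin 2) (ZMod p))))) ∧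
      Cfsg.IsExtraspecial p ↥s.E ∧ Nat.card s.E = p ^ 3 ∧ (∀ x ∈ s.E, x ^ p = 1) ∧
      Cfsg.IsElementaryAbelian p t.E ∧ Nat.card t.E = p ^ 3 := by
  have hK := card_K c hp2 hS hrk2 hF hO
  have hz := z_ne_one c hp2 hS hrk hF hO hK
  have hcard : Nat.card S = p ^ 4 := by rw [c.card_eq hS, hK, ← pow_succ]
  have hfm := c.f_mem hS
  have hKz : c.K = Subgroup.zpowers c.z := (Subgroup.eq_of_le_of_card_ge
    (Subgroup.zpowers_le.2 (c.z_mem hS))
    (by rw [hK, Nat.card_zpowers, orderOf_eq_prime (c.z_pow hS) hz])).symm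
  have hkp : ∀ k ∈ c.K, k ^ p = 1 := fun k hk => by
    have h1 : (⟨k, hk⟩ : c.K) ^ Nat.card c.K = 1 := pow_card_eq_one'
    rw [hK] at h1
    exact congrArg Subtype.val h1
  have hd : ∀ d ∈ s.E ⊓ t.E, d ^ p = 1 := fun d hd => by
    obtain ⟨k, hk, j, rfl⟩ := c.gen_f hS d hd
    rw [(show Commute k (c.f ^ j) from (c.central k hk _).symm).mul_pow, hkp k hk, ← pow_mul,
      mul_comm, pow_mul, c.f_pow hS, one_pow, one_mul]
  have hrel : Rel p c.r' c.f c.u c.z :=
    { xp := c.r'_pow
      fp := c.f_pow hS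
      vp := c.u_pow
      zp := c.z_pow hS
      zx := (c.central _ (c.z_mem hS) c.r').symm
      zf := (c.central _ (c.z_mem hS) c.f).symm
      zv := (c.central _ (c.z_mem hS) c.u).symm
      fv := c.abelian _ hfm.2 _ c.u_mem
      xv := by show _ = ⁅c.r', c.u⁆ * c.u * c.r'; rw [commutatorElement_def]; group
      xf := by show _ = ⁅c.r', c.f⁆ * c.f * c.r'; rw [commutatorElement_def]; group }
  have htop : Subgroup.closure {c.r', c.f, c.u, c.z} = ⊤ := eq_top_iff.2 fun g _ =>
    forall_of_closure (c.closure_eq_top hS) _ (fun a ha => by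
      rcases ha with ha | ha | ha | ha
      · rw [hKz] at ha
        exact (Subgroup.zpowers_le.2 (Subgroup.subset_closure
          (Or.inr (Or.inr (Or.inr rfl)))) : Subgroup.zpowers c.z ≤ _) ha
      · exact Subgroup.subset_closure (Or.inl ha)
      · exact Subgroup.subset_closure (Or.inr (Or.inl ha))
      · exact Subgroup.subset_closure (Or.inr (Or.inr (Or.inl ha)))) g
  have hsc : ∀ σ : Side p (F.autGroup S), Nat.card σ.E = p ^ 3 := fun σ => by
    have h1 := σ.E.card_mul_index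
    rw [σ.index, hcard, pow_succ p 3] at h1
    exact Nat.eq_of_mul_eq_mul_right hp.out.pos h1
  refine ⟨nonempty_sylow hp2 hrel htop hcard, ?_, hsc s, ?_, ⟨⟨⟨fun a b =>
    Subtype.ext (c.abelian _ a.2 _ b.2)⟩⟩, ?_⟩, hsc t⟩
  · refine SymplecticType.Ext.isExtraspecial (c := c.z) hS (orderOf_eq_prime (c.z_pow hS) hz) ?_ ?_
    · refine ⟨(c.K_le.trans inf_le_left) (c.z_mem hS), fun x hx y hy => hKz ▸ c.comm x hx y hy,
        fun x hx => hKz ▸ c.pow_mem x hx, fun x hx hxc => ?_⟩
      obtain ⟨m, d, hdd, rfl⟩ := s.exists_form t c.r'_mem c.r'_not hx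
      obtain ⟨k, hk, j, rfl⟩ := c.gen_f hS d hdd
      have hnc : ¬ Commute c.r' c.f := fun h =>
        hz (commutatorElement_eq_one_iff_mul_comm.2 h.eq)
      have hkc : ∀ w : S, Commute k w := fun w => (c.central k hk w).symm
      have hdf : Commute (k * c.f ^ j) c.f :=
        (hkc _).mul_left (Commute.pow_self c.f j)
      have hm : c.r' ^ m = 1 := by
        refine pow_eq_one_of_commute c.r'_pow hnc ?_
        have h' := (hxc c.f hfm.1).mul_left hdf.inv_left
        rwa [mul_inv_cancel_right] at h'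
      have hj : c.f ^ j = 1 := by
        refine pow_eq_one_of_commute (c.f_pow hS) (fun h => hnc h.symm) ?_
        have h1 := hxc c.r' c.r'_mem
        rw [hm, one_mul] at h1
        simpa using (hkc c.r').inv_left.mul_left h1
      rw [hm, hj, one_mul, mul_one, ← hKz]
      exact hk
    · intro h
      have h1 := hsc s
      rw [h, Nat.card_zpowers, orderOf_eq_prime (c.z_pow hS) hz] at h1
      exact absurd (Nat.pow_right_injective hp.out.two_le ((pow_one p).trans h1)) (by norm_num)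
  · intro x hx
    obtain ⟨m, d, hdd, rfl⟩ := s.exists_form t c.r'_mem c.r'_not hx
    have hcK : ⁅d⁻¹, (c.r' ^ m)⁻¹⁆ ∈ c.K :=
      c.comm _ (s.E.inv_mem hdd.1) _ (s.E.inv_mem (s.E.pow_mem c.r'_mem m))
    rw [FusionRankTwo.mul_pow_comm (z := ⁅d⁻¹, (c.r' ^ m)⁻¹⁆)
      (by rw [commutatorElement_def]; group) (c.central _ hcK _).symm (c.central _ hcK _).symm p]
    obtain ⟨q, hq⟩ := hp.out.dvd_choose_self two_ne_zero
      (lt_of_le_of_ne hp.out.two_le (Ne.symm hp2))
    rw [hd d hdd, hq, pow_mul ⁅d⁻¹, _⁆, hkp _ hcK, one_pow, ← pow_mul, mul_comm m, pow_mul,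
      c.r'_pow, one_pow, one_mul, one_mul]
  · intro a ha
    obtain ⟨n, d, hdd, rfl⟩ := t.exists_form s c.u_mem c.u_not ha
    rw [(show Commute (c.u ^ n) d from c.abelian _ (t.E.pow_mem c.u_mem n) _ hdd.1).mul_pow,
      hd d ⟨hdd.2, hdd.1⟩, ← pow_mul, mul_comm n, pow_mul, c.u_pow, one_pow, one_mul]

end Shape

end CfsgLib.FusionTwoEssentials
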