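import Cfsg.Agent.FusionTwoEssentials.Pair
import Cfsg.Agent.OddOrder.BG4.Basic

/-!
# A side whose intersection carries noncommuting conjugates of a central elementary subgroup
-/

set_option autoImplicit false

namespace CfsgLib.FusionTwoEssentials

open scoped commutatorElement

variable {G : Type*} [Group G]

/-- The centre of a subgroup, as a subgroup of the whole group. -/
def zc (H : Subgroup G) : Subgroup G := H ⊓ Subgroup.centralizer (H : Set G)

theorem mem_zc {H : Subgroup G} {x : G} : x ∈ zc H ↔ x ∈ H ∧ ∀ e ∈ H, e * x = x * e :=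
  Iff.rfl

theorem zc_le {H : Subgroup G} : zc H ≤ H := inf_le_left

theorem zc_normal {H : Subgroup G} (hH : H.Normal) : (zc H).Normal := by
  haveI := hH
  rw [zc]
  infer_instance

theorem pres_zc {E : Subgroup G} (γ : MulAut E) : Pres γ (zc E) := by
  intro x hx
  refine ⟨(γ x).2, fun e he => ?_⟩
  have h1 : γ⁻¹ ⟨e, he⟩ * x = x * γ⁻¹ ⟨e, he⟩ := Subtype.ext (hx.2 _ (γ⁻¹ ⟨e, he⟩).2)
  have h2 := congrArg γ h1
  rw [map_mul, map_mul, MulAut.apply_inv_self] at h2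
  exact congrArg Subtype.val h2

section

variable [Finite G] {p : ℕ} [hp : Fact p.Prime] (hG : IsPGroup p G)

include hG

/-- A subgroup generated modulo the Frattini subgroup is everything. -/
theorem le_of_le_sup_phi {H K : Subgroup G} (hHK : H ≤ K) (h : K ≤ H ⊔ phi p K) : K ≤ H := by
  have h1 : H.subgroupOf K ⊔ frattini K = ⊤ := by
    rw [eq_top_iff]
    intro x _
    have h2 : (H.subgroupOf K ⊔ phi p (⊤ : Subgroup K)).map K.subtype = H ⊔ phi p K := by
      rw [Subgroup.map_sup, phi_map, Subgroup.subgroupOf_map_subtype, inf_eq_left.2 hHK,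
        ← MonoidHom.range_eq_map, Subgroup.range_subtype]
    obtain ⟨y, hy, hyx⟩ := (h2 ▸ h x.2 : (x : G) ∈ Subgroup.map K.subtype _)
    obtain rfl : y = x := Subtype.ext hyx
    exact sup_le_sup_left (phi_le_frattini (hG.to_subgroup K)) _ hy
  have h3 := frattini_nongenerating h1
  intro x hx
  exact (h3 ▸ Subgroup.mem_top (⟨x, hx⟩ : K) : (⟨x, hx⟩ : K) ∈ H.subgroupOf K)

omit [Finite G] in
/-- The restriction of an automorphism of `2`-power order has order prime to `p`. -/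
theorem coprime_of_restr (hp2 : p ≠ 2) {β : MulAut G} {a : ℕ} (ha : β ^ 2 ^ a = 1) {E : Subgroup G}
    {γ : MulAut E} (h : ∀ x : E, β (x : G) = (γ x : G)) : (orderOf γ).Coprime p := by
  have hk : ∀ (k : ℕ) (x : E), (β ^ k) (x : G) = ((γ ^ k) x : G) := by
    intro k
    induction k with
    | zero => simp
    | succ k ih => intro x; rw [pow_succ', pow_succ', MulAut.mul_apply, ih, MulAut.mul_apply, h]
  have h1 : γ ^ 2 ^ a = 1 := MulEquiv.ext fun x => Subtype.ext (by rw [← hk, ha]; rfl)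
  exact ((((Nat.coprime_primes Nat.prime_two hp.out).2 (Ne.symm hp2)).pow_left a)).coprime_dvd_left
    (orderOf_dvd_of_pow_eq_one h1)

end

namespace Side

variable {p : ℕ} {B B' : Subgroup (MulAut G)}

/-- The conclusion of the frame lemma. -/
structure IsFrame (s : Side p B) (t : Side p B') : Prop where
  zc_le : zc s.E ≤ t.E
  comm : ∀ x ∈ s.E, ∀ y ∈ s.E, ⁅x, y⁆ ∈ omegaZ p (⊤ : Subgroup G)
  gen : ∃ a ∈ omegaZ p t.E, a ∈ s.E ∧ ∀ d ∈ s.E ⊓ t.E, ∃ k ∈ zc s.E, ∃ j : ℕ, d = k * a ^ j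
  torus : ∃ β ∈ B, (∀ k ∈ zc s.E, β k = k) ∧ (∀ g : G, g⁻¹ * β g ∈ s.E) ∧
    ∀ x ∈ s.E, x * β x ∈ zc s.E
  moved : ∀ x ∈ s.E, x ∉ t.E → ∀ u ∈ t.E, u ∉ s.E → ⁅x, u⁆ ∉ zc s.E

variable [Finite G] [hp : Fact p.Prime] (s : Side p B) (t : Side p B')

theorem isFrame (hG : IsPGroup p G) (hp2 : p ≠ 2) (hrk : Rank3 p G) (hne : s.E ≠ t.E)
    (hWs : omegaZ p t.E ≤ s.E)
    (hnc : ∃ α ∈ s.A, ∃ a b : s.E, (a : G) ∈ omegaZ p t.E ∧ (b : G) ∈ omegaZ p t.E ∧
      a * α b ≠ α b * a) : s.IsFrame t := by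
  classical
  obtain ⟨α, hα, a', b', haW, hbW, hab'⟩ := hnc
  set W := omegaZ p t.E with hW
  set Z := omegaZ p (⊤ : Subgroup G) with hZ
  haveI hWn : W.Normal := omegaZ_normal t.normal
  haveI hZn : Z.Normal := omegaZ_normal Subgroup.normal_top
  have hWt : W ≤ t.E := omegaZ_le
  have hZc : ∀ z ∈ Z, ∀ g : G, g * z = z * g := fun z hz g => hz.2.2 g (Subgroup.mem_top g)
  have hZW : Z ≤ W := fun z hz =>
    ⟨t.centralizer_le fun e _ => (hZc z hz e).symm, hz.2.1, fun e _ => hZc z hz e⟩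
  set a : G := (a' : G) with hadef
  set b : G := (α b' : G) with hbdef
  have hab : a * b ≠ b * a := fun h => hab' (Subtype.ext h)
  have has : a ∈ s.E := a'.2
  have hbs : b ∈ s.E := (α b').2
  have hat : a ∈ t.E := hWt haW
  have hbp : b ^ p = 1 := by
    rw [hbdef, ← Subgroup.coe_pow, ← map_pow, show b' ^ p = 1 from Subtype.ext hbW.2.1, map_one]
    rfl
  have hap : a ^ p = 1 := haW.2.1
  have hbt : b ∉ t.E := fun h => hab (haW.2.2 b h).symm
  have hcentW : ∀ w ∈ W, b * w = w * b → w ∈ Z := by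
    intro w hw hbw
    refine ⟨Subgroup.mem_top w, hw.2.1, fun g _ => ?_⟩
    obtain ⟨n, e, he, rfl⟩ := t.exists_pow_mul hbt g
    exact (Commute.pow_left (show Commute b w from hbw) n).mul_left (hw.2.2 e he)
  have haZ : a ∉ Z := fun h => hab (hZc a h b).symm
  -- `αW` is abelian and normalized by `s.E`
  have hquad : ∀ w ∈ W, ⁅b, w⁆ ∈ Z := by
    intro w hw
    have h1 : ⁅b, w⁆ ∈ W := W.mul_mem (hWn.conj_mem w hw b) (W.inv_mem hw)
    refine hcentW _ h1 ?_
    obtain ⟨w', hw'⟩ := α.surjective ⟨w, hWs hw⟩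
    have h3 : (((w' * b'⁻¹ * w'⁻¹) : s.E) : G) ∈ W := hWn.conj_mem _ (W.inv_mem hbW) (w' : G)
    have h4 : Commute b' (w' * b'⁻¹ * w'⁻¹) := Subtype.ext (elem_omegaZ.1 _ hbW _ h3)
    have h5 := congrArg Subtype.val ((((Commute.refl b').mul_right h4)).map α.toMonoidHom).eq
    simp only [MulEquiv.toMonoidHom_eq_coe, MonoidHom.coe_coe, map_mul, map_inv, hw',
      Subgroup.coe_mul, Subgroup.coe_inv] at h5
    simpa [commutatorElement_def, hbdef, mul_assoc] using h5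
  -- the line of commutators
  set c := ⁅b, a⁆ with hcdef
  have hc1 : c ≠ 1 := fun h => hab (commutatorElement_eq_one_iff_mul_comm.1 h).symm
  have hcW : ∀ w ∈ W, ∀ w' ∈ W, ⁅w, w'⁆ ∈ (⊥ : Subgroup G) := fun w hw w' hw' =>
    Subgroup.mem_bot.2 (commutatorElement_eq_one_iff_mul_comm.2 (elem_omegaZ.1 w hw w' hw'))
  obtain ⟨hidx, -⟩ := relIndex_dC hcW b
  have hdC : dC b (⊥ : Subgroup G) W = Z := by
    refine le_antisymm (fun w hw => hcentW w hw.1
      (commutatorElement_eq_one_iff_mul_comm.1 (Subgroup.mem_bot.1 hw.2))) fun z hz => ?_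
    exact ⟨hZW hz, Subgroup.mem_bot.2 (commutatorElement_eq_one_iff_mul_comm.2 (hZc z hz b))⟩
  set R₁ := dR b (⊥ : Subgroup G) W with hR₁
  rw [hdC, Subgroup.relIndex_bot_left] at hidx
  have hR₁Z : R₁ ≤ Z := sup_le bot_le ((Subgroup.closure_le _).2 (by
    rintro _ ⟨w, hw, rfl⟩
    exact hquad w hw))
  have hcR₁ : c ∈ R₁ := comm_mem_dR haW
  have hcp : c ^ p = 1 := (hR₁Z hcR₁).2.1
  have hWcard : Nat.card Z * Nat.card R₁ = Nat.card W := by
    rw [← hidx, ← Subgroup.relIndex_bot_left Z,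
      Subgroup.relIndex_mul_relIndex _ _ _ bot_le hZW, Subgroup.relIndex_bot_left]
  have hR₁card : Nat.card R₁ = p := by
    obtain ⟨i, hi⟩ := IsPGroup.iff_card.1 (hG.to_subgroup R₁)
    obtain ⟨j, hj⟩ := IsPGroup.iff_card.1 (hG.to_subgroup Z)
    have h1 := hrk.card_le (elem_omegaZ (p := p) (H := t.E))
    rw [← hWcard, hi, hj, ← pow_add] at h1
    have h2 := Subgroup.card_le_of_le hR₁Z
    rw [hi, hj] at h2
    have h3 := (Nat.pow_le_pow_iff_right hp.out.one_lt).1 h2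
    have h4 := (Nat.pow_le_pow_iff_right hp.out.one_lt).1 h1
    rcases i with _ | _ | i
    · have h5 : R₁ = ⊥ := Subgroup.card_eq_one.1 (by simpa using hi)
      exact absurd (Subgroup.mem_bot.1 (h5 ▸ hcR₁)) hc1
    · simpa using hi
    · omega
  set R := Subgroup.zpowers c with hRdef
  have hRcard : Nat.card R = p := (Nat.card_zpowers c).trans (orderOf_eq_prime hcp hc1)
  have hR₁R : R₁ = R := (Subgroup.eq_of_le_of_card_ge (Subgroup.zpowers_le.2 hcR₁)
    (by rw [hR₁card, hRcard])).symm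
  have hRZ : R ≤ Z := hR₁R ▸ hR₁Z
  have hWdec : ∀ w ∈ W, ∃ z ∈ Z, ∃ j : ℤ, w = z * a ^ j := by
    have h1 := Subgroup.relIndex_mul_relIndex Z _ W le_sup_left
      (sup_le hZW (Subgroup.zpowers_le.2 haW))
    rw [relIndex_sup_zpowers (by rw [hap]; exact Z.one_mem) haZ, hidx, hR₁card] at h1
    have h2 := Subgroup.relIndex_eq_one.1 (Nat.eq_of_mul_eq_mul_left hp.out.pos
      (h1.trans (mul_one p).symm))
    intro w hw
    obtain ⟨z, hz, y, ⟨j, rfl⟩, rfl⟩ := Subgroup.mem_sup_of_normal_left.1 (h2 hw)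
    exact ⟨z, hz, j, rfl⟩
  have hRW : ∀ e ∈ s.E, ∀ w ∈ W, ⁅e, w⁆ ∈ R := by
    have hpow : ∀ n : ℕ, ∀ w ∈ W, ⁅b ^ n, w⁆ ∈ R := by
      intro n
      induction n with
      | zero => intro w _; rw [pow_zero, commutatorElement_one_left]; exact R.one_mem
      | succ n ih =>
        intro w hw
        rw [pow_succ', comm_mul_left, hZc _ (hRZ (ih w hw)) b, mul_inv_cancel_right]
        exact R.mul_mem (ih w hw) (hR₁R ▸ comm_mem_dR hw)
    intro e _ w hw
    obtain ⟨n, d, hd, rfl⟩ := t.exists_pow_mul hbt e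
    rw [comm_mul_left, commutatorElement_eq_one_iff_mul_comm.2 (hw.2.2 d hd), mul_one,
      mul_inv_cancel, one_mul]
    exact hpow n w hw
  have hea : ∀ e ∈ s.E, ⁅e, a⁆ ∈ R := fun e he => hRW e he a haW
  have heb : ∀ e ∈ s.E, ⁅e, b⁆ ∈ R := by
    let R' : Subgroup s.E := R.subgroupOf s.E
    have hcs : c ∈ s.E := s.E.mul_mem (s.E.mul_mem (s.E.mul_mem hbs has) (s.E.inv_mem hbs))
      (s.E.inv_mem has)
    have hRs : R ≤ s.E := Subgroup.zpowers_le.2 hcs
    have hRα : R'.map α.toMonoidHom = R' := by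
      refine (Subgroup.eq_of_le_of_card_ge ?_ ?_).symm
      · intro x hx
        obtain ⟨e, he⟩ := α.surjective a'
        have h1 : ⁅e, b'⁆ ∈ R' := hRW e e.2 _ hbW
        have h2 : ((α ⁅e, b'⁆ : s.E) : G) = c⁻¹ := by
          rw [map_commutatorElement, he, hcdef, comm_swap]; rfl
        have h3 : R ≤ (R'.map α.toMonoidHom).map s.E.subtype := by
          refine Subgroup.zpowers_le.2 ?_
          rw [← inv_inv c, ← h2]
          exact Subgroup.inv_mem _ ⟨_, ⟨_, h1, rfl⟩, rfl⟩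
        obtain ⟨y, hy, hyx⟩ := h3 hx
        obtain rfl : y = x := Subtype.ext hyx
        exact hy
      · rw [Subgroup.card_map_of_injective α.injective]
    intro e he
    obtain ⟨e', he'⟩ := α.surjective ⟨e, he⟩
    have h1 : ⁅e', b'⁆ ∈ R' := hRW e' e'.2 _ hbW
    have h2 : α ⁅e', b'⁆ ∈ R' := hRα ▸ Subgroup.mem_map_of_mem α.toMonoidHom h1
    rw [map_commutatorElement, he'] at h2
    exact h2
  -- the centralizer of `a` and `b`
  let mkφ : ∀ y : G, (∀ e ∈ s.E, ⁅e, y⁆ ∈ R) → (s.E →* G) := fun y hy =>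
    { toFun := fun e => ⁅(e : G), y⁆
      map_one' := by simp
      map_mul' := fun e f => by
        rw [Subgroup.coe_mul, comm_mul_left, hZc _ (hRZ (hy f f.2)) e, mul_inv_cancel_right]
        exact (hZc _ (hRZ (hy e e.2)) _) }
  set φa := mkφ a hea with hφa
  set φb := mkφ b heb with hφb
  set K := (φa.ker ⊓ φb.ker).map s.E.subtype with hKdef
  have hKs : K ≤ s.E := Subgroup.map_subtype_le _
  have hmemK : ∀ x : s.E, (x : G) ∈ K ↔ Commute (x : G) a ∧ Commute (x : G) b := fun x => by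
    refine ⟨fun ⟨y, hy, hyx⟩ => ?_, fun h => ⟨x, ⟨commutatorElement_eq_one_iff_mul_comm.2 h.1,
      commutatorElement_eq_one_iff_mul_comm.2 h.2⟩, rfl⟩⟩
    obtain rfl : y = x := Subtype.ext hyx
    exact ⟨commutatorElement_eq_one_iff_mul_comm.1 hy.1, commutatorElement_eq_one_iff_mul_comm.1 hy.2⟩
  have hKidx : K.relIndex s.E = p ^ 2 := by
    have hrange : ∀ (f : s.E →* G) (H : Subgroup s.E), (∀ e, f e ∈ R) → (∃ e ∈ H, f e = c ∨ f e = c⁻¹) →
        Nat.card (H.map f) = p := by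
      intro f H hf ⟨e, he, hfe⟩
      rw [show H.map f = R from le_antisymm (by rintro _ ⟨x, -, rfl⟩; exact hf x)
        (Subgroup.zpowers_le.2 (by
          rcases hfe with h | h
          · exact ⟨e, he, h⟩
          · exact inv_inv c ▸ Subgroup.inv_mem _ ⟨e, he, h⟩)), hRcard]
    have h1 : (φa.ker ⊓ φb.ker).relIndex φa.ker = p := by
      rw [Subgroup.inf_relIndex_left, Subgroup.relIndex_ker]
      refine hrange φb _ (fun e => heb e e.2) ⟨⟨a, has⟩, ?_, Or.inr ?_⟩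
      · show ⁅a, a⁆ = 1
        exact commutatorElement_self a
      · exact (comm_swap b a).symm
    have h2 : φa.ker.index = p := by
      rw [← Subgroup.relIndex_top_right, Subgroup.relIndex_ker]
      exact hrange φa _ (fun e => hea e e.2) ⟨⟨b, hbs⟩, Subgroup.mem_top _, Or.inl rfl⟩
    have h4 : (φa.ker ⊓ φb.ker).index = p ^ 2 := by
      rw [← Subgroup.relIndex_mul_index (inf_le_left : φa.ker ⊓ φb.ker ≤ φa.ker), h1, h2, pow_two]
    rw [hKdef, Subgroup.relIndex, Subgroup.subgroupOf, Subgroup.comap_map_eq_self_of_injective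
      s.E.subtype_injective, h4]
  have hKdec : ∀ e ∈ s.E, ∃ k ∈ K, ∃ i j : ℕ, e = k * (b ^ i * a ^ j) := by
    intro e he
    obtain ⟨i, hi⟩ : ⁅e, a⁆ ∈ Submonoid.powers c := mem_powers_iff_mem_zpowers.2 (hea e he)
    simp only at hi
    set e₁ := e * (b ^ i)⁻¹ with he₁def
    have he₁ : e₁ ∈ s.E := s.E.mul_mem he (s.E.inv_mem (s.E.pow_mem hbs i))
    obtain ⟨j, hj⟩ : ⁅e₁, b⁆⁻¹ ∈ Submonoid.powers c :=
      mem_powers_iff_mem_zpowers.2 (R.inv_mem (heb e₁ he₁))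
    simp only at hj
    refine ⟨e * (b ^ i * a ^ j)⁻¹, ?_, i, j, (inv_mul_cancel_right _ _).symm⟩
    have hv : b ^ i * a ^ j ∈ s.E := s.E.mul_mem (s.E.pow_mem hbs i) (s.E.pow_mem has j)
    refine ⟨⟨e, he⟩ * (⟨b, hbs⟩ ^ i * ⟨a, has⟩ ^ j)⁻¹, ⟨?_, ?_⟩, rfl⟩
    · show φa _ = 1
      rw [map_mul, map_inv, map_mul, map_pow, map_pow, show φa ⟨a, has⟩ = 1 from commutatorElement_self a,
        one_pow, mul_one, show φa ⟨e, he⟩ = c ^ i from hi.symm, show φa ⟨b, hbs⟩ = c from rfl,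
        mul_inv_cancel]
    · show φb _ = 1
      have hB : φb ⟨e₁, he₁⟩ = φb ⟨e, he⟩ := by
        rw [show (⟨e₁, he₁⟩ : s.E) = ⟨e, he⟩ * (⟨b, hbs⟩ ^ i)⁻¹ from rfl, map_mul, map_inv,
          map_pow, show φb ⟨b, hbs⟩ = 1 from commutatorElement_self b, one_pow, inv_one, mul_one]
      rw [map_mul, map_inv, map_mul, map_pow, map_pow, show φb ⟨b, hbs⟩ = 1 from commutatorElement_self b,
        one_pow, one_mul, ← hB, show φb ⟨a, has⟩ = c⁻¹ from (comm_swap b a).symm, inv_pow, inv_inv, hj]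
      exact mul_inv_cancel _
  have hRK : R ≤ K := fun r hr => by
    have hrZ := hZc r (hRZ hr)
    have hrs : r ∈ s.E := s.centralizer_le fun e _ => (hrZ e).symm
    exact (hmemK ⟨r, hrs⟩).2 ⟨(hrZ a).symm, (hrZ b).symm⟩
  have hcentR : ∀ r ∈ R, ∀ g : G, g * r = r * g := fun r hr => hZc r (hRZ hr)
  -- the quotient by `R` and the Frattini subgroup of `K` is elementary
  set M := R ⊔ phi p K with hMdef
  have hMK : M ≤ K := sup_le hRK phi_le_self
  haveI hRn : R.Normal := ⟨fun r hr g => by rw [hcentR r hr g, mul_inv_cancel_right]; exact hr⟩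
  have hvv : ∀ i j i' j' : ℕ, ⁅b ^ i * a ^ j, b ^ i' * a ^ j'⁆ ∈ R := by
    intro i j i' j'
    have hv : b ^ i * a ^ j ∈ s.E := s.E.mul_mem (s.E.pow_mem hbs i) (s.E.pow_mem has j)
    exact ((dC (b ^ i * a ^ j) R s.E).mul_mem
      ((dC (b ^ i * a ^ j) R s.E).pow_mem ⟨hbs, heb _ hv⟩ i')
      ((dC (b ^ i * a ^ j) R s.E).pow_mem ⟨has, hea _ hv⟩ j')).2
  have hKv : ∀ k ∈ K, ∀ i j : ℕ, Commute k (b ^ i * a ^ j) := fun k hk i j =>
    ((((hmemK ⟨k, hKs hk⟩).1 hk).2).pow_right i).mul_right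
      ((((hmemK ⟨k, hKs hk⟩).1 hk).1).pow_right j)
  have hcM : ∀ x ∈ s.E, ∀ y ∈ s.E, ∃ k ∈ K, ∃ k' ∈ K, ∃ r ∈ R, ⁅x, y⁆ = ⁅k, k'⁆ * r := by
    intro x hx y hy
    obtain ⟨k, hk, i, j, rfl⟩ := hKdec x hx
    obtain ⟨k', hk', i', j', rfl⟩ := hKdec y hy
    refine ⟨k, hk, k', hk', _, hvv i j i' j', ?_⟩
    have h1 := hKv k hk i' j'
    have h2 := hKv k' hk' i j
    set v := b ^ i * a ^ j
    set v' := b ^ i' * a ^ j'
    have e1 : ⁅k, k' * v'⁆ = ⁅k, k'⁆ := by
      rw [comm_mul_right, commutatorElement_eq_one_iff_mul_comm.2 h1]; simp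
    have e2 : ⁅v, k' * v'⁆ = ⁅v, v'⁆ := by
      rw [comm_mul_right, commutatorElement_eq_one_iff_mul_comm.2 h2.symm, one_mul,
        hcentR _ (hvv i j i' j') k', mul_inv_cancel_right]
    rw [comm_mul_left, e1, e2, hcentR _ (hvv i j i' j') k, mul_inv_cancel_right,
      hcentR _ (hvv i j i' j')]
  have hvp : ∀ i j : ℕ, (b ^ i * a ^ j) ^ p = 1 := by
    intro i j
    have h1 : ∀ z : s.E, Commute ⁅((⟨a, has⟩ : s.E) ^ j), ((⟨b, hbs⟩ : s.E) ^ i)⁆ z := fun z => by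
      refine Subtype.ext ?_
      have h2 : ⁅a ^ j, b ^ i⁆ ∈ R := by
        have h3 := hvv 0 j i 0
        simpa using h3
      exact (hcentR _ h2 z).symm
    have h4 := OddOrder.BG4.mul_pow_eq_one (p := p) hp2 h1
      (by rw [← pow_mul, mul_comm, pow_mul, show (⟨b, hbs⟩ : s.E) ^ p = 1 from Subtype.ext hbp,
        one_pow])
      (by rw [← pow_mul, mul_comm, pow_mul, show (⟨a, has⟩ : s.E) ^ p = 1 from Subtype.ext hap,
        one_pow])
    exact congrArg Subtype.val h4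
  have hKcomm : ∀ k ∈ K, ∀ k' ∈ K, k * k' = k' * k := by
    have hpow : ∀ x ∈ s.E, x ^ p ∈ M := by
      intro x hx
      obtain ⟨k, hk, i, j, rfl⟩ := hKdec x hx
      rw [(hKv k hk i j).mul_pow, hvp, mul_one]
      exact Subgroup.mem_sup_right (pow_mem_phi hk)
    have h3 := hrk M s.E (hMK.trans hKs) (fun x hx y hy => by
      obtain ⟨k, hk, k', hk', r, hr, h⟩ := hcM x hx y hy
      rw [h]
      exact M.mul_mem (Subgroup.mem_sup_right (comm_mem_phi hk hk')) (Subgroup.mem_sup_left hr)) hpow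
    rw [← Subgroup.relIndex_mul_relIndex M K s.E hMK hKs, hKidx, pow_succ' p 2] at h3
    have hle : M.relIndex K ≤ p := Nat.le_of_mul_le_mul_right h3 (pow_pos hp.out.pos 2)
    obtain ⟨k₀, hk₀, hk₀K⟩ : ∃ k₀ ∈ K, K ≤ R ⊔ Subgroup.zpowers k₀ := by
      by_cases hKM : K ≤ M
      · exact ⟨1, K.one_mem, (le_of_le_sup_phi hG hRK hKM).trans le_sup_left⟩
      · obtain ⟨k₀, hk₀, hk₀M⟩ := SetLike.not_le_iff_exists.1 hKM
        refine ⟨k₀, hk₀, le_of_le_sup_phi hG (sup_le hRK (Subgroup.zpowers_le.2 hk₀)) ?_⟩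
        have hlt : ¬ M ⊔ Subgroup.zpowers k₀ ≤ M := fun h =>
          hk₀M (h (Subgroup.mem_sup_right (Subgroup.mem_zpowers k₀)))
        have h5 := Subgroup.relIndex_mul_relIndex M _ K le_sup_left
          (sup_le hMK (Subgroup.zpowers_le.2 hk₀))
        have h6 := le_relIndex_of_lt hG hlt
        have h7 : (M ⊔ Subgroup.zpowers k₀).relIndex K = 1 := by
          obtain ⟨n, hn⟩ := exists_relIndex_eq hG (M ⊔ Subgroup.zpowers k₀) K
          rcases n with _ | n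
          · exact hn.trans (pow_zero p)
          · have h8 : p * p ≤ M.relIndex K := h5 ▸ Nat.mul_le_mul h6
              (hn ▸ Nat.le_self_pow n.succ_ne_zero p)
            exact absurd (h8.trans hle) (not_le.2 (lt_mul_of_one_lt_left hp.out.pos hp.out.one_lt))
        refine (Subgroup.relIndex_eq_one.1 h7).trans (sup_le (sup_le ?_ le_sup_right) ?_)
        · exact le_sup_left.trans le_sup_left
        · exact le_sup_right.trans le_sup_left
    have hsub : R ⊔ Subgroup.zpowers k₀ = Subgroup.closure (↑R ∪ {k₀}) := by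
      rw [Subgroup.closure_union, Subgroup.closure_eq, Subgroup.zpowers_eq_closure]
    intro k hk k' hk'
    refine comm_closure (T := (R : Set G) ∪ {k₀}) ?_ k (hsub ▸ hk₀K hk) k' (hsub ▸ hk₀K hk')
    rintro x (hx | rfl) y hy
    · exact (hcentR x hx y).symm
    · rcases hy with hy | hy
      · exact hcentR y hy x
      · rw [Set.mem_singleton_iff.1 hy]
  have hcE : ∀ x ∈ s.E, ∀ y ∈ s.E, ⁅x, y⁆ ∈ R := by
    intro x hx y hy
    obtain ⟨k, hk, k', hk', r, hr, h⟩ := hcM x hx y hy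
    rw [h, commutatorElement_eq_one_iff_mul_comm.2 (hKcomm k hk k' hk'), one_mul]
    exact hr
  have hKzc : K = zc s.E := by
    refine le_antisymm (fun k hk => ⟨hKs hk, fun e he => ?_⟩) fun z hz =>
      (hmemK ⟨z, hz.1⟩).2 ⟨(hz.2 a has).symm, (hz.2 b hbs).symm⟩
    obtain ⟨k', hk', i, j, rfl⟩ := hKdec e he
    exact ((show Commute k k' from hKcomm k hk k' hk').mul_right (hKv k hk i j)).symm
  have hKt : K ≤ t.E := by
    intro k hk
    by_contra hkt
    refine haZ ⟨Subgroup.mem_top a, hap, fun g _ => ?_⟩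
    obtain ⟨n, d, hd, rfl⟩ := t.exists_pow_mul hkt g
    exact (((hmemK ⟨k, hKs hk⟩).1 hk).1.pow_left n).mul_left (haW.2.2 d hd)
  have hE12 : ∀ d ∈ s.E ⊓ t.E, ∃ k ∈ zc s.E, ∃ j : ℕ, d = k * a ^ j := by
    intro d hd
    obtain ⟨k, hk, i, j, rfl⟩ := hKdec d hd.1
    have h1 : b ^ i ∈ t.E :=
      (t.E.mul_mem_cancel_right (t.E.pow_mem hat j)).1 ((t.E.mul_mem_cancel_left (hKt hk)).1 hd.2)
    have h2 : b ^ i = 1 := by
      by_contra h
      refine hbt (Subgroup.zpowers_le.2 h1 ?_)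
      refine mem_zpowers_pow_iff.2 ?_
      rw [orderOf_eq_prime hbp (fun h' => h (by rw [h', one_pow]))]
      refine ((hp.out.coprime_iff_not_dvd).2 fun ⟨m, hm⟩ => h ?_).symm
      rw [hm, pow_mul, hbp, one_pow]
    exact ⟨k, hKzc ▸ hk, j, by rw [h2, one_mul]⟩
  -- the torus
  obtain ⟨x₀, hx₀, hx₀t⟩ := s.exists_mem_not_mem t hne
  obtain ⟨u₀, hu₀, hu₀s⟩ := t.exists_mem_not_mem s hne.symm
  obtain ⟨α₁, hα₁, hnp₁⟩ := s.exists_pair hG hu₀s
  haveI hKn : (zc s.E).Normal := zc_normal s.normal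
  haveI hW1n : (omegaZ p s.E).Normal := omegaZ_normal s.normal
  have hRs : R ≤ s.E := hRK.trans hKs
  have hRinv : ∀ δ : MulAut s.E, Pres δ R := by
    intro δ
    have hle : R ≤ ((R.subgroupOf s.E).comap δ.toMonoidHom).map s.E.subtype := by
      refine Subgroup.zpowers_le.2 ⟨⁅(⟨b, hbs⟩ : s.E), ⟨a, has⟩⁆, ?_, rfl⟩
      show ((δ ⁅(⟨b, hbs⟩ : s.E), ⟨a, has⟩⁆ : s.E) : G) ∈ R
      rw [map_commutatorElement]
      exact hcE _ (δ _).2 _ (δ _).2
    intro y hy
    obtain ⟨y', hy', hyy⟩ := hle hy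
    obtain rfl : y' = y := Subtype.ext hyy
    exact hy'
  have hRW1 : R ≤ omegaZ p s.E := fun r hr => ⟨hRs hr, (hRZ hr).2.1, fun e _ => hcentR r hr e⟩
  have hW1idx : R.relIndex (omegaZ p s.E) ≤ p := by
    have haW1 : a ∉ omegaZ p s.E := fun h => hab (h.2.2 b hbs).symm
    set W1 := omegaZ p s.E
    have hcard := hrk.card_le (elem_closure (T := (W1 : Set G) ∪ {a}) (by
      rintro x (hx | rfl) y hy
      · exact (hx.2.2 y (by rcases hy with hy | rfl; exacts [omegaZ_le hy, has])).symm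
      · rcases hy with hy | hy
        · exact hy.2.2 a has
        · rw [Set.mem_singleton_iff.1 hy]) (by
      rintro x (hx | rfl)
      exacts [hx.2.1, hap]))
    have hlt : W1 < Subgroup.closure ((W1 : Set G) ∪ {a}) := SetLike.lt_iff_le_and_exists.2
      ⟨fun x hx => Subgroup.subset_closure (Or.inl hx), a, Subgroup.subset_closure (Or.inr rfl), haW1⟩
    have h1 := (FusionRankTwo.mul_card_le_of_lt (hG.to_subgroup _) hlt).trans hcard
    rw [← Subgroup.relIndex_bot_left W1, ← Subgroup.relIndex_mul_relIndex ⊥ R W1 bot_le hRW1,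
      Subgroup.relIndex_bot_left, hRcard, pow_succ' p 2, pow_two] at h1
    exact Nat.le_of_mul_le_mul_left (Nat.le_of_mul_le_mul_left h1 hp.out.pos) hp.out.pos
  have hfixK : ∀ γ ∈ s.pair u₀ α₁, (orderOf γ).Coprime p →
      ∀ x : s.E, (x : G) ∈ zc s.E → γ x = x := by
    intro γ hγ hco
    have h1 : Triv γ ⊥ R := s.pair_triv_of_index hG hu₀s Subgroup.normal_bot hRn hRs bot_le
      (by rw [Subgroup.relIndex_bot_left, hRcard])
      (fun x hx => by rw [show x = 1 from Subtype.ext (Subgroup.mem_bot.1 hx), map_one]; exact one_mem _)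
      (hRinv _) γ hγ
    have h2 : Triv γ R (omegaZ p s.E) := s.pair_triv_of_index hG hu₀s hRn hW1n omegaZ_le hRW1 hW1idx
      (hRinv _) (pres_omegaZ _) γ hγ
    refine fix_of_ord hG hco hp2 (pres_zc γ) fun x hx hxp => ?_
    exact fix_step hG hco (fix_of_triv_bot hG hco h1) h2 x ⟨x.2, hxp, hx.2⟩
  have hnp' : ¬ ∀ γ ∈ s.pair u₀ α₁, (orderOf γ).Coprime p → Triv γ (zc s.E) s.E := fun h =>
    s.not_all_fixed hnp₁ fun γ hγ hco => fix_step hG hco (hfixK γ hγ hco) (h γ hγ hco)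
  have hRzc : R ≤ zc s.E := hKzc ▸ hRK
  have hpow' : ∀ x ∈ s.E, x ^ p ∈ zc s.E := by
    intro x hx
    obtain ⟨k, hk, i, j, rfl⟩ := hKdec x hx
    rw [(hKv k hk i j).mul_pow, hvp, mul_one, ← hKzc]
    exact K.pow_mem hk p
  obtain ⟨β, hβ, γ, hγ, hβγ, ⟨m, hm⟩, hβg, hβK⟩ := s.exists_inverting hG hp2 (le_refl s.E) zc_le
    (hKzc ▸ hKidx) (fun x hx y hy => hRzc (hcE x hx y hy)) hpow'
    (fun x hx y hy => hRzc (hcE x hx y hy)) hu₀s hα₁
    (fun δ _ => pres_zc δ) (fun δ _ y _ => (δ y).2) hnp'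
  refine ⟨hKzc ▸ hKt, fun x hx y hy => hRZ (hcE x hx y hy), ⟨a, haW, has, hE12⟩,
    ⟨β, hβ, fun k hk => ?_, hβg, hβK⟩, ?_⟩
  · have h1 := hfixK γ hγ (coprime_of_restr hG hp2 hm hβγ) ⟨k, zc_le hk⟩ hk
    rw [hβγ ⟨k, zc_le hk⟩, h1]
  · intro x hx hxt u hu hus hmem
    obtain ⟨α', hα', hnp₂⟩ := s.exists_pair hG hus
    -- all commutators with `u` lie in the centre
    have hux : ∀ e ∈ s.E, ⁅u, e⁆ ∈ zc s.E := by
      intro e he
      obtain ⟨n, d, hd, rfl⟩ := s.exists_form t hx hxt he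
      obtain ⟨k, hk, j, rfl⟩ := hE12 d hd
      exact ((dC u (zc s.E) s.E).mul_mem
        ((dC u (zc s.E) s.E).pow_mem ⟨hx, by rw [← comm_swap]; exact (zc s.E).inv_mem hmem⟩ n)
        ((dC u (zc s.E) s.E).mul_mem (le_dC zc_le hk) ((dC u (zc s.E) s.E).pow_mem
          ⟨has, by rw [commutatorElement_eq_one_iff_mul_comm.2 (haW.2.2 u hu)]; exact one_mem _⟩ j))).2
    have hfix' : ∀ γ ∈ s.pair u α', (orderOf γ).Coprime p →
        ∀ z : s.E, (z : G) ∈ zc s.E → γ z = z := by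
      intro γ hγ hco
      have h1 : Triv γ ⊥ R := s.pair_triv_of_index hG hus Subgroup.normal_bot hRn hRs bot_le
        (by rw [Subgroup.relIndex_bot_left, hRcard])
        (fun x hx => by
          rw [show x = 1 from Subtype.ext (Subgroup.mem_bot.1 hx), map_one]; exact one_mem _)
        (hRinv _) γ hγ
      have h2 : Triv γ R (omegaZ p s.E) := s.pair_triv_of_index hG hus hRn hW1n omegaZ_le hRW1 hW1idx
        (hRinv _) (pres_omegaZ _) γ hγ
      exact fix_of_ord hG hco hp2 (pres_zc γ) fun z hz hzp =>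
        fix_step hG hco (fix_of_triv_bot hG hco h1) h2 z ⟨z.2, hzp, hz.2⟩
    exact s.not_all_fixed hnp₂ fun γ hγ hco => fix_step hG hco (hfix' γ hγ hco)
      (s.pair_triv_of_comm hus hα' hKn s.normal (fun δ _ => pres_zc δ) (fun δ _ y _ => (δ y).2) hux
        (fun e he y hy => hRzc (hcE e he y hy)) γ hγ)

end Side

end CfsgLib.FusionTwoEssentials
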