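import Cfsg.Agent.FusionTwoEssentials.Basic
import Cfsg.Agent.FusionTwoEssentials.Section
import Cfsg.Agent.FusionRankThree.Frame
import Cfsg.Agent.FusionRankTwo.Torus
import Cfsg.Agent.FusionClosed.Invariant

/-!
# Sides from essential subgroups of a saturated fusion system

* `index_subgroupOf`: in sectional rank three, `p` odd, an essential subgroup normal in `S` has
  index `p`.
* `exists_side`: such a subgroup gives a `Side` over every suitable group of automorphisms of `S`.
-/

set_option autoImplicit false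
set_option linter.style.haveILetI false

namespace CfsgLib.FusionTwoEssentials

open Cfsg Cfsg.FusionSystem CfsgLib.Fusion CfsgLib.FusionEssential
open scoped commutatorElement

variable {Ω : Type*} [Group Ω] {S : Subgroup Ω} {p : ℕ}

theorem Rank3.of_sectional {X : Type*} [Group X] (h : SectionalPRankLE p 3 X) :
    Rank3 p X := by
  intro M N hMN hc hpow
  haveI : (M.subgroupOf N).Normal := ⟨fun x hx g => by
    rw [Subgroup.mem_subgroupOf] at hx ⊢
    have h1 := M.mul_mem (hc _ g.2 _ x.2) hx
    simpa [commutatorElement_def, mul_assoc] using h1⟩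
  have h2 := h N (M.subgroupOf N) ⊤ ⟨⟨fun a b => by
      obtain ⟨⟨a, -⟩, rfl⟩ : ∃ c : (⊤ : Subgroup _), c = a := ⟨a, rfl⟩
      obtain ⟨⟨b, -⟩, rfl⟩ : ∃ c : (⊤ : Subgroup _), c = b := ⟨b, rfl⟩
      obtain ⟨a, rfl⟩ := QuotientGroup.mk'_surjective _ a
      obtain ⟨b, rfl⟩ := QuotientGroup.mk'_surjective _ b
      refine Subtype.ext ?_
      show QuotientGroup.mk' (M.subgroupOf N) a * QuotientGroup.mk' _ b =
        QuotientGroup.mk' _ b * QuotientGroup.mk' _ a
      rw [← commutatorElement_eq_one_iff_mul_comm, ← map_commutatorElement]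
      exact (QuotientGroup.eq_one_iff _).2 (hc _ a.2 _ b.2)⟩⟩
    (fun a _ => by
      obtain ⟨a, rfl⟩ := QuotientGroup.mk'_surjective _ a
      rw [← map_pow]
      exact (QuotientGroup.eq_one_iff _).2 (hpow _ a.2))
  rwa [Subgroup.card_top, ← Subgroup.index_eq_card] at h2

/-- The Frattini quotient of a subgroup of `S` has order at most `p ^ 3`. -/
theorem frattini_index_le [Finite S] [Fact p.Prime] (hS : IsPGroup p S) (hrk : Rank3 p S)
    {E : Subgroup Ω} (hES : E ≤ S) : (frattini E).index ≤ p ^ 3 := by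
  haveI := finite_of_le hES
  have hEp : IsPGroup p E := hS.to_le hES
  set i := Subgroup.inclusion hES
  have hinj : Function.Injective i := Subgroup.inclusion_injective hES
  have h := hrk ((frattini E).map i) ((⊤ : Subgroup E).map i) (Subgroup.map_mono le_top) ?_ ?_
  · rwa [Subgroup.relIndex_map_map_of_injective _ _ hinj, Subgroup.relIndex_top_right] at h
  · rintro _ ⟨a, -, rfl⟩ _ ⟨b, -, rfl⟩
    rw [← map_commutatorElement]
    exact ⟨_, Solvable.commutator_le_frattini hEp
      (Subgroup.commutator_mem_commutator (Subgroup.mem_top a) (Subgroup.mem_top b)), rfl⟩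
  · rintro _ ⟨a, -, rfl⟩
    rw [← map_pow]
    exact ⟨_, Solvable.pow_mem_frattini hEp a, rfl⟩

variable [Finite S] [hp : Fact p.Prime] {F : FusionSystem S} {E : Subgroup Ω}

theorem le_normalizer_of_normal (hES : E ≤ S) (hEn : (E.subgroupOf S).Normal) :
    S ≤ Subgroup.normalizer (E : Set Ω) :=
  (Subgroup.normal_subgroupOf_iff_le_normalizer hES).1 hEn

theorem normalizerIn_eq (hES : E ≤ S) (hEn : (E.subgroupOf S).Normal) : normalizerIn S E = S :=
  inf_eq_left.2 (le_normalizer_of_normal hES hEn)

/-- An essential subgroup normal in `S` has index `p`. -/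
theorem index_subgroupOf (hp2 : p ≠ 2) (hS : IsPGroup p S) (hF : F.IsSaturated p) (hrk : Rank3 p S)
    (hE : F.IsEssential p E) (hEn : (E.subgroupOf S).Normal) : (E.subgroupOf S).index = p := by
  have hp3 : 3 ≤ p := by have := hp.out.two_le; omega
  have hES : E ≤ S := hE.1.1
  have hN : S ≤ Subgroup.normalizer (E : Set Ω) := le_normalizer_of_normal hES hEn
  haveI := finite_of_le hES
  haveI := hEn
  have hEp : IsPGroup p E := hS.to_le hES
  obtain ⟨x₀, hx₀⟩ := FusionRankTwo.exists_normalizer_not_mem hS hF hE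
  have hcard : 1 < (E.subgroupOf S).index := Subgroup.one_lt_index_of_ne_top fun h =>
    hx₀ (Subgroup.mem_subgroupOf.1 (show (⟨(x₀ : Ω), x₀.2.1⟩ : S) ∈ E.subgroupOf S by
      rw [h]; exact Subgroup.mem_top _))
  obtain ⟨k, hk⟩ := IsPGroup.iff_card.1 (hEp.to_quotient (frattini E))
  have hk3 : k ≤ 3 := (Nat.pow_le_pow_iff_right hp.out.one_lt).1
    (hk ▸ (Subgroup.index_eq_card (frattini E)).symm.trans_le (frattini_index_le hS hrk hES))
  obtain hk2 | rfl := hk3.lt_or_eq
  swap
  · obtain ⟨d, -⟩ := FusionRankThree.exists_frame hp3 hS hF hE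
      ((Subgroup.index_eq_card _).trans hk)
    set x' : S ⧸ E.subgroupOf S := QuotientGroup.mk' _ (⟨d.x, d.xN.1⟩ : S) with hx'
    have hgen : ∀ g : S ⧸ E.subgroupOf S, g ∈ Subgroup.zpowers x' := by
      intro g
      obtain ⟨g, rfl⟩ := QuotientGroup.mk'_surjective _ g
      obtain ⟨n, hn⟩ := d.gen g ⟨g.2, hN g.2⟩
      refine ⟨n, ?_⟩
      show x' ^ (n : ℤ) = _
      rw [zpow_natCast, hx', ← map_pow]
      refine QuotientGroup.eq.2 (Subgroup.mem_subgroupOf.2 ?_)
      simpa using hn
    have hxp : x' ^ p = 1 := by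
      rw [hx', ← map_pow]
      exact (QuotientGroup.eq_one_iff _).2 (Subgroup.mem_subgroupOf.2 (by simpa using d.xp))
    have hx1 : x' ≠ 1 := fun h =>
      d.xE (Subgroup.mem_subgroupOf.1 ((QuotientGroup.eq_one_iff _).1 h))
    rw [Subgroup.index_eq_card, ← orderOf_eq_card_of_forall_mem_zpowers hgen,
      orderOf_eq_prime hxp hx1]
  -- at most two generators
  set c : S →* MulAut E := E.normalizerMonoidHom.comp (Subgroup.inclusion hN) with hc
  set ψ : S →* MulAut (E ⧸ frattini E) := (FusionRankThree.quotBar E).comp c with hψ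
  have hker : ψ.ker = E.subgroupOf S := by
    refine le_antisymm (fun g hg => ?_) fun g hg => ?_
    · by_contra hgE
      let K : Subgroup (F.autGroup E) :=
        ((FusionRankThree.quotBar E).comp (F.autGroup E).subtype).ker
      have hKp : IsPGroup p K := fun α => by
        obtain ⟨j, hj⟩ := FusionRankThree.exists_pow_eq_one_of_frattini hEp
          (α := ((α : F.autGroup E) : MulAut E)) fun e => by
            have h1 := DFunLike.congr_fun (α.2 : FusionRankThree.quotBar E _ = 1)
              (QuotientGroup.mk' (frattini E) e)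
            change QuotientGroup.mk' (frattini E) (((α : F.autGroup E) : MulAut E) e) =
              QuotientGroup.mk' (frattini E) e at h1
            refine (QuotientGroup.eq_one_iff _).1 ?_
            show QuotientGroup.mk' (frattini E) _ = 1
            rw [map_mul, map_inv]
            exact mul_inv_eq_one.2 h1
        exact ⟨j, Subtype.ext (Subtype.ext hj)⟩
      have hmem : c g ∈ F.autGroup E :=
        autInducedBy_le_autGroup hES (mem_autInducedBy_iff.2 ⟨g, g.2, hN g.2, fun _ => rfl⟩)
      exact not_mem_Inn_of_not_mem hE.1 (g := (g : Ω)) ⟨g.2, hN g.2⟩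
        (fun h => hgE (Subgroup.mem_subgroupOf.2 h)) (β := c g) (fun _ => rfl)
        (map_le_Inn hE (K := K) (by infer_instance) hKp ⟨⟨c g, hmem⟩, hg, rfl⟩)
    · refine MulEquiv.ext fun v => ?_
      obtain ⟨v, rfl⟩ := QuotientGroup.mk'_surjective _ v
      show QuotientGroup.mk' (frattini E) (c g v) = QuotientGroup.mk' (frattini E) v
      have h1 : c g v = ⟨g, hg⟩ * v * ⟨g, hg⟩⁻¹ := rfl
      rw [h1]
      refine QuotientGroup.eq.2 ?_
      have h2 : (⟨(g : Ω), hg⟩ * v * ⟨(g : Ω), hg⟩⁻¹)⁻¹ * v =
          ⁅(⟨(g : Ω), hg⟩ : E), v⁻¹⁆ := by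
        rw [commutatorElement_def]; group
      rw [h2]
      exact Solvable.commutator_le_frattini hEp
        (Subgroup.commutator_mem_commutator (Subgroup.mem_top _) (Subgroup.mem_top _))
  have hrp : IsPGroup p ψ.range := by
    rw [MonoidHom.range_eq_map]; exact (hS.to_subgroup ⊤).map ψ
  rw [← hker, Subgroup.index_ker] at hcard ⊢
  obtain ⟨j, hj⟩ := IsPGroup.iff_card.1 hrp
  have hVc : ∀ a b : E ⧸ frattini E, a * b = b * a := fun a b => by
    obtain ⟨a, rfl⟩ := QuotientGroup.mk'_surjective _ a
    obtain ⟨b, rfl⟩ := QuotientGroup.mk'_surjective _ b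
    rw [← commutatorElement_eq_one_iff_mul_comm, ← map_commutatorElement]
    exact (QuotientGroup.eq_one_iff _).2 (Solvable.commutator_le_frattini hEp
      (Subgroup.commutator_mem_commutator (Subgroup.mem_top a) (Subgroup.mem_top b)))
  have hVe : ∀ a : E ⧸ frattini E, a ^ p = 1 := fun a => by
    obtain ⟨a, rfl⟩ := QuotientGroup.mk'_surjective _ a
    rw [← map_pow]
    exact (QuotientGroup.eq_one_iff _).2 (Solvable.pow_mem_frattini hEp a)
  obtain hk1 | rfl : k ≤ 1 ∨ k = 2 := by omega
  · haveI : IsCyclic (E ⧸ frattini E) := by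
      rcases Nat.le_one_iff_eq_zero_or_eq_one.1 hk1 with rfl | rfl
      · haveI := (Nat.card_eq_one_iff_unique.1 (hk.trans (pow_zero p))).1
        exact isCyclic_of_subsingleton
      · exact isCyclic_of_prime_card (hk.trans (pow_one p))
    have hd := Subgroup.card_subgroup_dvd_card ψ.range
    rw [IsCyclic.card_mulAut, hk, hj] at hd
    rcases j with _ | j
    · rw [hj, pow_zero] at hcard; omega
    exfalso
    have h2 : p ∣ (p ^ k).totient := (dvd_pow_self p j.succ_ne_zero).trans hd
    rcases Nat.le_one_iff_eq_zero_or_eq_one.1 hk1 with rfl | rfl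
    · rw [pow_zero, Nat.totient_one] at h2
      exact hp.out.not_dvd_one h2
    · rw [pow_one, Nat.totient_prime hp.out] at h2
      exact Nat.not_dvd_of_pos_of_lt (by omega) (by omega) h2
  · haveI : Nontrivial ψ.range := Finite.one_lt_card_iff_nontrivial.1 hcard
    obtain ⟨u, hu⟩ := exists_prime_orderOf_dvd_card' (G := ψ.range) p (by
      rcases j with _ | j
      · rw [hj, pow_zero] at hcard; omega
      · exact hj ▸ dvd_pow_self p j.succ_ne_zero)
    have hu1 : (u : MulAut (E ⧸ frattini E)) ≠ 1 := fun h => hp.out.ne_one (by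
      rw [← hu, orderOf_eq_one_iff]; exact Subtype.ext h)
    rw [FusionRankTwo.eq_zpowers_of_pGroup hVc hVe hk hrp u.2 hu1, Nat.card_zpowers,
      Subgroup.orderOf_coe, hu]

/-- The automorphisms of a subgroup of `S`, seen on the subgroup of `S`. -/
def transport (hES : E ≤ S) : MulAut (E.subgroupOf S) ≃* MulAut E :=
  MulAut.congr (Subgroup.subgroupOfEquivOfLe hES)

omit [Finite S] in
theorem transport_apply (hES : E ≤ S) (α : MulAut (E.subgroupOf S)) (x : E.subgroupOf S) :
    (transport hES α ⟨(x : S), x.2⟩ : Ω) = ((α x : S) : Ω) := rfl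

omit [Finite S] in
theorem transport_conj (hES : E ≤ S) (hEn : (E.subgroupOf S).Normal) (g : S) (x : E) :
    (transport hES (@MulAut.conjNormal S _ _ hEn g) x : Ω) = g * x * (g : Ω)⁻¹ := rfl

/-- An essential subgroup normal in `S` gives a side over a group of automorphisms of `S`
stabilising it and containing all such automorphisms of the system. -/
theorem exists_side (hp2 : p ≠ 2) (hS : IsPGroup p S) (hF : F.IsSaturated p) (hrk : Rank3 p S)
    (hE : F.IsEssential p E) (hEn : (E.subgroupOf S).Normal) (B : Subgroup (MulAut S))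
    (hB : B ≤ F.autGroup S) (hinn : ∀ g : S, MulAut.conj g ∈ B)
    (hstab : ∀ β ∈ B, ∀ x ∈ E.subgroupOf S, β x ∈ E.subgroupOf S)
    (hmax : ∀ β ∈ F.autGroup S, (∀ x ∈ E.subgroupOf S, β x ∈ E.subgroupOf S) → β ∈ B) :
    ∃ s : Side p B, s.E = E.subgroupOf S ∧ ∀ P : Subgroup S,
      (∀ α ∈ s.A, ∀ x : s.E, (x : S) ∈ P → (α x : S) ∈ P) →
        ∀ α ∈ F.autGroup E, ∀ (x : E) (hx : (x : Ω) ∈ S) (hy : (α x : Ω) ∈ S),
          (⟨x, hx⟩ : S) ∈ P → (⟨α x, hy⟩ : S) ∈ P := by
  have hES : E ≤ S := hE.1.1
  haveI := finite_of_le hES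
  have hN : S ≤ Subgroup.normalizer (E : Set Ω) := le_normalizer_of_normal hES hEn
  set cj := @MulAut.conjNormal S _ (E.subgroupOf S) hEn with hcj
  have hrange : ∀ α : MulAut (E.subgroupOf S),
      α ∈ cj.range ↔ transport hES α ∈ autInducedBy S E := by
    intro α
    rw [mem_autInducedBy_iff]
    constructor
    · rintro ⟨g, rfl⟩
      exact ⟨g, g.2, hN g.2, transport_conj hES hEn g⟩
    · rintro ⟨g, hg, -, h⟩
      refine ⟨⟨g, hg⟩, MulEquiv.ext fun x => Subtype.ext (Subtype.ext ?_)⟩
      rw [← transport_apply hES α x, h]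
      rfl
  obtain ⟨hauto, hrec⟩ := automized_receptive hS hF hE.2.1
  obtain ⟨T, hT⟩ := hauto.2
  let s : Side p B :=
    { E := E.subgroupOf S
      normal := hEn
      index := index_subgroupOf hp2 hS hF hrk hE hEn
      A := (F.autGroup E).comap (transport hES).toMonoidHom
      conj_mem := fun g => autInducedBy_le_autGroup hES ((hrange _).1 ⟨g, rfl⟩)
      syl := fun P hPA hP hle => by
        let P' : Subgroup (F.autGroup E) :=
          (P.map (transport hES).toMonoidHom).subgroupOf (F.autGroup E)
        have hP' : IsPGroup p P' :=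
          (hP.map _).comap_of_injective (F.autGroup E).subtype Subtype.val_injective
        have hTP : (T : Subgroup (F.autGroup E)) ≤ P' := by
          intro a ha
          obtain ⟨b, hb⟩ := (transport hES).surjective (a : MulAut E)
          exact ⟨b, hle ((hrange b).2 (hb.symm ▸ hT.le ha)), hb⟩
        have heq := T.is_maximal' hP' hTP
        intro x hx
        refine (hrange x).2 (Subgroup.mem_subgroupOf.1 (hT.le ?_ :
          (⟨transport hES x, hPA hx⟩ : F.autGroup E) ∈ _))
        rw [← heq]
        exact ⟨x, hx, rfl⟩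
      moved := by
        by_contra hc
        push Not at hc
        have hTn : (T : Subgroup (F.autGroup E)).Normal := by
          refine ⟨fun a ha g => ?_⟩
          obtain ⟨α, hα⟩ := (transport hES).surjective (g : MulAut E)
          obtain ⟨b, hb⟩ := (transport hES).surjective (a : MulAut E)
          obtain ⟨y, rfl⟩ := (hrange b).2 (hb.symm ▸ hT.le ha)
          have h1 := (hrange _).1 (hc α (by
            show transport hES α ∈ F.autGroup E
            rw [hα]; exact g.2) y)
          rw [hT, Subgroup.mem_subgroupOf, Subgroup.coe_mul, Subgroup.coe_mul, Subgroup.coe_inv,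
            ← hα, ← hb, ← map_inv, ← map_mul, ← map_mul]
          exact h1
        obtain ⟨x₀, hx₀⟩ := FusionRankTwo.exists_normalizer_not_mem hS hF hE
        have hmem : (E.normalizerMonoidHom ⟨x₀, x₀.2.2⟩ : MulAut E) ∈ autInducedBy S E :=
          mem_autInducedBy_iff.2 ⟨x₀, x₀.2.1, x₀.2.2, fun _ => rfl⟩
        exact not_mem_Inn_of_not_mem hE.1 x₀.2 hx₀
          (β := E.normalizerMonoidHom ⟨x₀, x₀.2.2⟩) (fun _ => rfl)
          (map_le_Inn hE hTn T.isPGroup'
            ⟨⟨_, autInducedBy_le_autGroup hES hmem⟩, hT.symm ▸ hmem, rfl⟩)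
      inner := hinn
      stable := hstab
      restr := fun β hβ α hα => by
        refine mem_autGroup_of_le_of_eq hES
          (restrict_mem ((mem_autGroup_iff le_rfl).1 (hB hβ)) hES) fun x => ?_
        exact congrArg Subtype.val (hα ⟨⟨x, hES x.2⟩, x.2⟩)
      ext := fun α hα hnorm => by
        obtain ⟨ψ, hψ, hψv⟩ := FusionSub.exists_extension_normalizerIn (p := p) hrec
          (α := transport hES α) hα fun b hb => by
          obtain ⟨b, rfl⟩ := (transport hES).surjective b
          obtain ⟨y, rfl⟩ := (hrange b).2 hb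
          rw [← map_inv, ← map_mul, ← map_mul]
          exact (hrange _).1 (hnorm y)
        have hle : S ≤ normalizerIn S E := le_inf le_rfl hN
        let ψ' : S →* Ω := ψ.comp (Subgroup.inclusion hle)
        have hψ' : ψ' ∈ F.Hom S := mem_of_agree hψ hle fun _ => rfl
        have hr : ψ'.range = S := by
          refine Subgroup.eq_of_le_of_card_ge ?_ ?_
          · rintro _ ⟨x, rfl⟩; exact (F.le_of_mem hψ').2 x
          · exact (Nat.card_congr
              (MonoidHom.ofInjective (F.injective_of_mem hψ')).toEquiv).le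
        obtain ⟨β, hβ, hβv⟩ := exists_iso hψ' hr
        have hval : ∀ x : E.subgroupOf S, β (x : S) = (α x : S) := fun x =>
          Subtype.ext ((hβv x).trans ((hψv ⟨(x : S), x.2⟩ (hle (x : S).2)).trans
            (transport_apply hES α x)))
        refine ⟨β, hmax β hβ.mem_autGroup fun x hx => ?_, hval⟩
        rw [hval ⟨x, hx⟩]
        exact (α ⟨x, hx⟩).2 }
  refine ⟨s, rfl, fun P hP α hα x hx hy hxP => ?_⟩
  have h1 := hP ((transport hES).symm α)
    (by show transport hES ((transport hES).symm α) ∈ F.autGroup E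
        rw [MulEquiv.apply_symm_apply]; exact hα) ⟨⟨x, hx⟩, x.2⟩ hxP
  have h2 := transport_apply hES ((transport hES).symm α) ⟨⟨x, hx⟩, x.2⟩
  rw [MulEquiv.apply_symm_apply] at h2
  convert h1 using 1
  exact Subtype.ext h2

end CfsgLib.FusionTwoEssentials
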