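import Cfsg.Agent.FusionTwoEssentials.Quotient
import Cfsg.Agent.FusionTwoEssentials.Natural

/-!
# The structure of two sides in sectional rank three
-/

set_option autoImplicit false

namespace CfsgLib.FusionTwoEssentials

universe u

/-- Two different sides of a `p`-group of sectional rank at most three form a `Core`, in one of the
two orders. -/
theorem exists_core_or {p : ℕ} [hp : Fact p.Prime] (hp2 : p ≠ 2) :
    ∀ (n : ℕ) (G : Type u) [Group G] [Finite G], Nat.card G = n → IsPGroup p G → Rank3 p G →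
      ∀ (B : Subgroup (MulAut G)) (s t : Side p B), s.E ≠ t.E →
        Nonempty (Core s t) ∨ Nonempty (Core t s) := by
  intro n
  induction n using Nat.strong_induction_on with
  | _ n ih =>
  intro G _ _ hn hG hrk B s t hne
  subst hn
  -- the configuration of a quotient by a common invariant subgroup
  have hquot : ∀ (N : Subgroup G) [N.Normal] (hN : ∀ β ∈ B, ∀ x ∈ N, β x ∈ N), N ≠ ⊥ →
      N ≤ s.E → N ≤ t.E → (∀ α ∈ s.A, Pres α N) → (∀ α ∈ t.A, Pres α N) →
      ∃ s' t' : Side p (qB B N hN), s'.E = s.E.map (QuotientGroup.mk' N) ∧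
        t'.E = t.E.map (QuotientGroup.mk' N) ∧
        (∀ α' ∈ s'.A, ∃ α ∈ s.A, ∀ (x : s.E) (y : s'.E), (y : G ⧸ N) = QuotientGroup.mk' N x →
          (α' y : G ⧸ N) = QuotientGroup.mk' N (α x)) ∧
        (∀ α' ∈ t'.A, ∃ α ∈ t.A, ∀ (x : t.E) (y : t'.E), (y : G ⧸ N) = QuotientGroup.mk' N x →
          (α' y : G ⧸ N) = QuotientGroup.mk' N (α x)) ∧
        (Nonempty (Core s' t') ∨ Nonempty (Core t' s')) := by
    intro N _ hN hN1 hNs hNt hs ht
    obtain ⟨s', hs', hsA, -⟩ := exists_quotient_side hG s t N hN hNs hNt hs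
      (s.not_inv t hG hp2 hrk hne)
    obtain ⟨t', ht', htA, -⟩ := exists_quotient_side hG t s N hN hNt hNs ht
      (t.not_inv s hG hp2 hrk hne.symm)
    have hne' : s'.E ≠ t'.E := by
      obtain ⟨x, hx, hxt⟩ := s.exists_mem_not_mem t hne
      intro h
      rw [hs', ht'] at h
      obtain ⟨y, hy, hyx⟩ := (h ▸ Subgroup.mem_map_of_mem _ hx :
        QuotientGroup.mk' N x ∈ t.E.map (QuotientGroup.mk' N))
      exact hxt (by simpa using t.E.mul_mem hy (hNt (QuotientGroup.eq.1 hyx)))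
    have hlt : Nat.card (G ⧸ N) < Nat.card G := by
      have h1 := N.card_eq_card_quotient_mul_card_subgroup
      have h2 : 1 < Nat.card N := Subgroup.one_lt_card_iff_ne_bot N |>.2 hN1
      rw [h1]
      exact lt_mul_of_one_lt_right Nat.card_pos h2
    exact ⟨s', t', hs', ht', hsA, htA, ih _ hlt (G ⧸ N) rfl (hG.to_quotient N) (hrk.quotient N) _
      s' t' hne'⟩
  -- a common invariant central subgroup
  have hInv : ∀ N : Subgroup G, Inv s t N → Nonempty (Core s t) ∨ Nonempty (Core t s) := by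
    intro N hI
    have hc : ∀ z ∈ N, ∀ g : G, g * z = z * g := fun z hz g =>
      (hI.le_omega hz).2.2 g (Subgroup.mem_top g)
    have hNs : N ≤ s.E := hI.le_omega.trans (s.omegaTop_le.trans omegaZ_le)
    have hNt : N ≤ t.E := hI.le_omega.trans (t.omegaTop_le.trans omegaZ_le)
    haveI : N.Normal := s.normal_of_inv hNs hI.left
    obtain ⟨s', t', hs', ht', hsA, htA, hcore⟩ := hquot N
      (fun β hβ x hx => s.apply_mem_of_inv hNs hI.left hβ hx) hI.ne_bot hNs hNt hI.left hI.right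
    rcases hcore with hc' | hc' <;> obtain ⟨c⟩ := hc'
    · exact Or.inl (exists_core_of_quotient hG hp2 hrk hne N _ hNs hNt hc hI.left hs' ht' hsA htA c)
    · exact Or.inr
        (exists_core_of_quotient hG hp2 hrk hne.symm N _ hNt hNs hc hI.right ht' hs' htA hsA c)
  -- a natural plane
  have hPlane : ∀ (s₁ t₁ : Side p B), (s₁ = s ∧ t₁ = t) ∨ (s₁ = t ∧ t₁ = s) →
      ∀ D, Plane s₁ t₁ D → False := by
    intro s₁ t₁ hor D c
    have hne₁ : s₁.E ≠ t₁.E := by
      rcases hor with ⟨rfl, rfl⟩ | ⟨rfl, rfl⟩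
      exacts [hne, hne.symm]
    refine c.false_of_cyclic hG hp2 hrk hne₁ fun C hDC hCE hCs hCt _ _ => ?_
    have hD1 : D ≠ ⊥ := by
      intro h
      have h1 := c.card_D
      rw [h, Subgroup.card_bot] at h1
      exact absurd h1.symm (Nat.one_lt_pow three_ne_zero hp.out.one_lt).ne'
    have hDinv := c.inv_right hG hp2 hrk
    haveI hDn : D.Normal := s₁.normal_of_inv c.le_E c.inv
    have hDB : ∀ β ∈ B, ∀ x ∈ D, β x ∈ D := fun β hβ x hx => s₁.apply_mem_of_inv c.le_E c.inv hβ hx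
    have hDt₁ : D ≤ t₁.E := c.le_inf.trans inf_le_right
    obtain ⟨hs, ht, hCs', hCt', hCle⟩ : (∀ α ∈ s.A, Pres α D) ∧ (∀ α ∈ t.A, Pres α D) ∧
        (∀ α ∈ s.A, Pres α C) ∧ (∀ α ∈ t.A, Pres α C) ∧ C ≤ s.E ⊓ t.E := by
      rcases hor with ⟨rfl, rfl⟩ | ⟨rfl, rfl⟩
      exacts [⟨c.inv, hDinv, hCs, hCt, hCE⟩, ⟨hDinv, c.inv, hCt, hCs, hCE.trans (le_of_eq (inf_comm _ _))⟩]
    have hDE : D ≤ s.E ⊓ t.E := hDC.trans hCle
    obtain ⟨s', t', hs', ht', hsA, htA, hcore⟩ := hquot D hDB hD1 (hDE.trans inf_le_left)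
      (hDE.trans inf_le_right) hs ht
    set π := QuotientGroup.mk' D
    have key : ∀ (a b : Side p B) (a' b' : Side p (qB B D hDB)), a'.E = a.E.map π → b'.E = b.E.map π →
        (∀ α' ∈ a'.A, ∃ α ∈ a.A, ∀ (x : a.E) (y : a'.E), (y : G ⧸ D) = π x →
          (α' y : G ⧸ D) = π (α x)) → C ≤ a.E → C ≤ b.E → (∀ α ∈ a.A, Pres α C) → Core a' b' →
        ∃ k ∈ C, C ≤ D ⊔ Subgroup.zpowers k := by
      intro a b a' b' ha hb haA hCa hCb hCinv k₀
      have hle : C.map π ≤ k₀.K := by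
        rintro _ ⟨x, hx, rfl⟩
        obtain ⟨α', hα', hv⟩ := haA _ (a'.A.inv_mem k₀.mem_A)
        have hxa : π x ∈ a'.E := ha ▸ Subgroup.mem_map_of_mem π (hCa hx)
        refine (k₀.mem_K ⟨π x, hxa⟩).2 ⟨hb ▸ Subgroup.mem_map_of_mem π (hCb hx), ?_⟩
        rw [hv ⟨x, hCa hx⟩ ⟨π x, hxa⟩ rfl, hb]
        exact Subgroup.mem_map_of_mem π (hCb (hCinv α' hα' ⟨x, hCa hx⟩ hx))
      haveI := k₀.cyclic
      haveI : IsCyclic (C.map π) :=
        isCyclic_of_injective (Subgroup.inclusion hle) (Subgroup.inclusion_injective hle)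
      obtain ⟨⟨y, hy⟩, hgen⟩ := IsCyclic.exists_generator (α := C.map π)
      obtain ⟨k, hk, rfl⟩ := hy
      refine ⟨k, hk, fun x hx => ?_⟩
      obtain ⟨i, hi⟩ := hgen ⟨π x, Subgroup.mem_map_of_mem π hx⟩
      have h1 : π (k ^ i) = π x := by rw [map_zpow]; exact congrArg Subtype.val hi
      have h2 : x * (k ^ i)⁻¹ ∈ D := by
        refine (QuotientGroup.eq_one_iff _).1 ?_
        show π (x * (k ^ i)⁻¹) = 1
        rw [map_mul, map_inv, h1, mul_inv_cancel]
      simpa using Subgroup.mul_mem _ (Subgroup.mem_sup_left h2 : _ ∈ D ⊔ Subgroup.zpowers k)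
        (Subgroup.mem_sup_right (Subgroup.zpow_mem_zpowers k i))
    rcases hcore with hc' | hc' <;> obtain ⟨k₀⟩ := hc'
    · exact key s t s' t' hs' ht' hsA (hCle.trans inf_le_left) (hCle.trans inf_le_right) hCs' k₀
    · exact key t s t' s' ht' hs' htA (hCle.trans inf_le_right) (hCle.trans inf_le_left) hCt' k₀
  by_cases hWt : omegaZ p t.E ≤ s.E
  swap
  · exact Or.inl (exists_core hG hp2 hrk hne (SetLike.not_le_iff_exists.1 hWt))
  by_cases hWs : omegaZ p s.E ≤ t.E
  swap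
  · exact Or.inr (exists_core hG hp2 hrk hne.symm (SetLike.not_le_iff_exists.1 hWs))
  by_cases hs : omegaZ p s.E ≤ omegaZ p (⊤ : Subgroup G)
  · by_cases ht : omegaZ p t.E ≤ omegaZ p (⊤ : Subgroup G)
    · -- both socles are central
      have hne0 : omegaZ p (⊤ : Subgroup G) ≠ ⊥ := by
        obtain ⟨x, -, hxt⟩ := s.exists_mem_not_mem t hne
        obtain ⟨z, -, hz1, hzc⟩ := exists_central_mod (M := ⊥) hG (N := (⊤ : Subgroup G))
          Subgroup.normal_top (fun h => hxt (by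
            rw [Subgroup.mem_bot.1 (h (Subgroup.mem_top x))]; exact one_mem _))
        obtain ⟨y, hy, hyp, hy1⟩ := exists_ord hG (fun h : z = 1 => hz1 (Subgroup.mem_bot.2 h))
        intro h
        refine hy1 (Subgroup.mem_bot.1 (h ▸ ⟨Subgroup.mem_top y, hyp, fun g _ => ?_⟩))
        obtain ⟨i, rfl⟩ := hy
        exact (show Commute g z from
          commutatorElement_eq_one_iff_mul_comm.1 (Subgroup.mem_bot.1 (hzc g))).zpow_right i
      exact hInv _ ⟨hne0, le_rfl, s.pres_of_central hG hs le_rfl fun β _ y hy => omegaTop_map hy,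
        t.pres_of_central hG ht le_rfl fun β _ y hy => omegaTop_map hy⟩
    · rcases s.noncentral_case t hG hp2 hrk hne le_rfl hWt hWs hs ht with ⟨N, hN⟩ |
        ⟨D, h1, h2, h3, h4, h5, h6, h7, h8⟩
      · exact hInv N hN
      · exact (hPlane s t (Or.inl ⟨rfl, rfl⟩) D ⟨hs, h1, h2, h3, h4, h5, h6, h7, h8⟩).elim
  · rcases s.omega_central t hG hp2 hrk hne hWt hWs with ht | h
    · rcases t.noncentral_case s hG hp2 hrk hne.symm le_rfl hWs hWt ht hs with ⟨N, hN⟩ |
        ⟨D, h1, h2, h3, h4, h5, h6, h7, h8⟩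
      · exact hInv N hN.symm
      · exact (hPlane t s (Or.inr ⟨rfl, rfl⟩) D ⟨ht, h1, h2, h3, h4, h5, h6, h7, h8⟩).elim
    · exact absurd h hs

end CfsgLib.FusionTwoEssentials
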