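import Cfsg.Agent.FusionTwoEssentials.Action

/-!
# The intersection of two sides
-/

set_option autoImplicit false

namespace CfsgLib.FusionTwoEssentials

open scoped commutatorElement

variable {G : Type*} [Group G]

namespace Side

variable {p : ℕ} {B B' : Subgroup (MulAut G)} (s : Side p B) (t : Side p B')

theorem inf_normal : (s.E ⊓ t.E).Normal := by
  haveI := s.normal
  haveI := t.normal
  infer_instance

theorem apply_mem_inf {p : ℕ} {B : Subgroup (MulAut G)} (s t : Side p B) {β : MulAut G} (hβ : β ∈ B) {x : G} (hx : x ∈ s.E ⊓ t.E) :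
    β x ∈ s.E ⊓ t.E :=
  ⟨s.stable β hβ x hx.1, t.stable β hβ x hx.2⟩

variable [Finite G] [hp : Fact p.Prime] (hG : IsPGroup p G)

theorem exists_mem_not_mem (hne : s.E ≠ t.E) : ∃ x ∈ s.E, x ∉ t.E := by
  by_contra h
  push Not at h
  refine hne (Subgroup.eq_of_le_of_card_ge h ?_)
  have h1 := s.E.card_mul_index
  have h2 := t.E.card_mul_index
  rw [s.index] at h1
  rw [t.index] at h2
  exact (Nat.eq_of_mul_eq_mul_right hp.out.pos (h2.trans h1.symm)).le

theorem exists_form {x : G} (hx : x ∈ s.E) (hxt : x ∉ t.E) {e : G} (he : e ∈ s.E) :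
    ∃ n : ℕ, ∃ d ∈ s.E ⊓ t.E, e = x ^ n * d := by
  obtain ⟨n, d, hd, rfl⟩ := t.exists_pow_mul hxt e
  exact ⟨n, d, ⟨(s.E.mul_mem_cancel_left (s.E.pow_mem hx n)).1 he, hd⟩, rfl⟩

include hG

theorem pow_mem_inf (g : G) : g ^ p ∈ s.E ⊓ t.E := ⟨s.pow_mem g, t.pow_mem g⟩

theorem relIndex_inf (hne : s.E ≠ t.E) : (s.E ⊓ t.E).relIndex s.E = p := by
  obtain ⟨x, hx, hxt⟩ := s.exists_mem_not_mem t hne
  haveI := s.inf_normal t
  have h : s.E = (s.E ⊓ t.E) ⊔ Subgroup.zpowers x := by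
    refine le_antisymm (fun e he => ?_) (sup_le inf_le_left (Subgroup.zpowers_le.2 hx))
    obtain ⟨n, d, hd, rfl⟩ := s.exists_form t hx hxt he
    exact Subgroup.mul_mem _ (Subgroup.pow_mem _ (Subgroup.mem_sup_right
      (Subgroup.mem_zpowers x)) n) (Subgroup.mem_sup_left hd)
  have h2 := relIndex_sup_zpowers (M := s.E ⊓ t.E) (s.pow_mem_inf t hG x) (fun h' => hxt h'.2)
  rwa [← h] at h2

theorem comm_mem_inf (g : G) {x : G} (hx : x ∈ s.E) : ⁅g, x⁆ ∈ s.E ⊓ t.E :=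
  ⟨s.comm_mem_E g hx, comm_mem_of_relIndex hG t.normal Subgroup.normal_top
    (by rw [Subgroup.relIndex_top_right, t.index]) g (Subgroup.mem_top x)⟩

theorem phi_le_inf : phi p t.E ≤ s.E ⊓ t.E :=
  phi_le (fun a _ => s.pow_mem_inf t hG a) fun a _ b hb => by
    have h := t.comm_mem_inf s hG a hb
    exact ⟨h.2, h.1⟩

end Side

end CfsgLib.FusionTwoEssentials
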