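import Cfsg.Agent.FusionTwoEssentials.Invariant
import Cfsg.Agent.FusionTwoEssentials.Core

/-!
# Sides of a quotient by a common invariant subgroup
-/

set_option autoImplicit false

namespace CfsgLib.FusionTwoEssentials

open scoped commutatorElement

universe u

variable {G : Type u} [Group G] [Finite G] {p : ℕ} [hp : Fact p.Prime] {B : Subgroup (MulAut G)}

theorem map_mk_eq {N : Subgroup G} {β : MulAut G} (h : ∀ x ∈ N, β x ∈ N) :
    N.map β.toMonoidHom = N := by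
  refine Subgroup.eq_of_le_of_card_ge ?_ (by rw [Subgroup.card_map_of_injective β.injective])
  rintro _ ⟨x, hx, rfl⟩
  exact h x hx

/-- The image of `B` on the quotient by an invariant normal subgroup. -/
def qB (B : Subgroup (MulAut G)) (N : Subgroup G) [N.Normal] (hN : ∀ β ∈ B, ∀ x ∈ N, β x ∈ N) :
    Subgroup (MulAut (G ⧸ N)) :=
  MonoidHom.range
    ({ toFun := fun β : B => QuotientGroup.congr N N β.1 (map_mk_eq (hN β.1 β.2))
       map_one' := MulEquiv.ext fun x => by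
         obtain ⟨x, rfl⟩ := QuotientGroup.mk'_surjective _ x
         rfl
       map_mul' := fun _ _ => MulEquiv.ext fun x => by
         obtain ⟨x, rfl⟩ := QuotientGroup.mk'_surjective _ x
         rfl } : B →* MulAut (G ⧸ N))

theorem mem_qB {N : Subgroup G} [N.Normal] {hN : ∀ β ∈ B, ∀ x ∈ N, β x ∈ N}
    {β' : MulAut (G ⧸ N)} : β' ∈ qB B N hN ↔
      ∃ β ∈ B, ∀ x : G, β' (QuotientGroup.mk' N x) = QuotientGroup.mk' N (β x) := by
  constructor
  · rintro ⟨β, rfl⟩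
    exact ⟨β.1, β.2, fun x => rfl⟩
  · rintro ⟨β, hβ, h⟩
    refine ⟨⟨β, hβ⟩, MulEquiv.ext fun x => ?_⟩
    obtain ⟨x, rfl⟩ := QuotientGroup.mk'_surjective _ x
    exact (h x).symm

/-- A `p`-group quotient of `p`-groups: the conjugations of the whole group form a Sylow
subgroup. -/
def Side.sylow (s : Side p B) (hG : IsPGroup p G) : Sylow p s.A where
  toSubgroup := s.cj.range.subgroupOf s.A
  isPGroup' := (s.isPGroup_range hG).comap_of_injective s.A.subtype Subtype.val_injective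
  is_maximal' {Q} hQ hle := le_antisymm (fun x hx => s.syl _ (Subgroup.map_subtype_le _)
      (hQ.map _) (fun y hy => by
        obtain ⟨h, rfl⟩ := hy
        exact ⟨⟨s.cj h, s.cj_mem h⟩,
          hle (show (⟨s.cj h, s.cj_mem h⟩ : s.A) ∈ s.cj.range.subgroupOf s.A from ⟨h, rfl⟩), rfl⟩)
      ⟨x, hx, rfl⟩) hle

/-- A side of the quotient, with the facts linking it to the original one. -/
theorem exists_quotient_side (hG : IsPGroup p G) (s t : Side p B) (N : Subgroup G) [hNn : N.Normal]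
    (hN : ∀ β ∈ B, ∀ x ∈ N, β x ∈ N) (hNs : N ≤ s.E) (hNt : N ≤ t.E)
    (hinv : ∀ α ∈ s.A, Pres α N) (hmove : ¬ ∀ α ∈ s.A, Pres α (s.E ⊓ t.E)) :
    ∃ s' : Side p (qB B N hN), s'.E = s.E.map (QuotientGroup.mk' N) ∧
      (∀ α' ∈ s'.A, ∃ α ∈ s.A, ∀ (x : s.E) (y : s'.E), (y : G ⧸ N) = QuotientGroup.mk' N x →
        (α' y : G ⧸ N) = QuotientGroup.mk' N (α x)) ∧
      (∀ α ∈ s.A, ∃ α' ∈ s'.A, ∀ (x : s.E) (y : s'.E), (y : G ⧸ N) = QuotientGroup.mk' N x →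
        (α' y : G ⧸ N) = QuotientGroup.mk' N (α x)) := by
  classical
  have := s.finite_aut
  set π := QuotientGroup.mk' N with hπ
  set E' := s.E.map π with hE'
  have hE'n : E'.Normal := s.normal.map π (QuotientGroup.mk'_surjective N)
  let ρ : s.E →* E' := π.subgroupMap s.E
  have hρ : Function.Surjective ρ := π.subgroupMap_surjective s.E
  have hρv : ∀ x : s.E, ((ρ x : E') : G ⧸ N) = π x := fun x => rfl
  have hker : ρ.ker = N.subgroupOf s.E := by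
    ext x
    rw [MonoidHom.mem_ker, Subgroup.mem_subgroupOf, ← QuotientGroup.eq_one_iff]
    exact ⟨fun h => congrArg Subtype.val h, fun h => Subtype.ext h⟩
  haveI hN' : (N.subgroupOf s.E).Normal := hNn.subgroupOf s.E
  have hmap : ∀ γ : s.A, (N.subgroupOf s.E).map γ.1.toMonoidHom = N.subgroupOf s.E :=
    fun γ => map_mk_eq fun x hx => hinv γ.1 γ.2 x hx
  let e : (↥s.E ⧸ N.subgroupOf s.E) ≃* E' :=
    (QuotientGroup.quotientMulEquivOfEq hker.symm).trans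
      (QuotientGroup.quotientKerEquivOfSurjective ρ hρ)
  have he : ∀ x : s.E, e (QuotientGroup.mk' _ x) = ρ x := fun x => rfl
  let φ : s.A →* MulAut E' :=
    { toFun := fun γ => (e.symm.trans (QuotientGroup.congr _ _ γ.1 (hmap γ))).trans e
      map_one' := MulEquiv.ext fun y => by
        obtain ⟨x, rfl⟩ := hρ y
        show e ((QuotientGroup.congr _ _ (1 : MulAut s.E) (hmap 1)) (e.symm (ρ x))) = ρ x
        rw [← he, e.symm_apply_apply]
        rfl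
      map_mul' := fun a b => MulEquiv.ext fun y => by
        obtain ⟨x, rfl⟩ := hρ y
        show e ((QuotientGroup.congr _ _ (a * b).1 (hmap (a * b))) (e.symm (ρ x))) =
          e ((QuotientGroup.congr _ _ a.1 (hmap a)) (e.symm (e ((QuotientGroup.congr _ _ b.1 (hmap b))
            (e.symm (ρ x))))))
        rw [← he, e.symm_apply_apply, e.symm_apply_apply]
        rfl }
  have hφ : ∀ (γ : s.A) (x : s.E), φ γ (ρ x) = ρ (γ.1 x) := fun γ x => by
    show e ((QuotientGroup.congr _ _ γ.1 (hmap γ)) (e.symm (ρ x))) = _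
    rw [← he, e.symm_apply_apply]
    rfl
  let cjA : G → s.A := fun g => ⟨s.cj g, s.cj_mem g⟩
  let cj' : G ⧸ N →* MulAut E' := @MulAut.conjNormal _ _ E' hE'n
  have hcjv : ∀ (h : G ⧸ N) (y : E'), ((cj' h y : E') : G ⧸ N) = h * y * h⁻¹ :=
    fun h y => @MulAut.conjNormal_apply _ _ E' hE'n h y
  have hcj : ∀ g : G, φ (cjA g) = cj' (π g) := fun g => MulEquiv.ext fun y => by
    obtain ⟨x, rfl⟩ := hρ y
    rw [hφ]
    refine Subtype.ext ?_
    rw [hρv, hcjv, hρv]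
    show π (s.cj g x : G) = _
    rw [s.cj_apply, map_mul, map_mul, map_inv]
  have hsyl : ∀ P : Subgroup (MulAut E'), P ≤ φ.range → IsPGroup p P → cj'.range ≤ P →
      P ≤ cj'.range := by
    intro P hP hPp hle
    let T' : Sylow p φ.range := (s.sylow hG).mapSurjective φ.rangeRestrict_surjective
    have hT : (T' : Subgroup φ.range) ≤ P.subgroupOf φ.range := by
      rintro _ ⟨γ, ⟨g, hg⟩, rfl⟩
      show φ γ ∈ P
      rw [show γ = cjA g from Subtype.ext hg.symm, hcj]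
      exact hle ⟨_, rfl⟩
    have h := T'.is_maximal' (hPp.comap_of_injective φ.range.subtype Subtype.val_injective) hT
    intro y hy
    obtain ⟨γ, ⟨g, hg⟩, hγy⟩ : (⟨y, hP hy⟩ : φ.range) ∈ (T' : Subgroup φ.range) := h ▸ hy
    refine ⟨π g, ?_⟩
    rw [← hcj, show cjA g = γ from Subtype.ext hg]
    exact congrArg Subtype.val hγy
  -- the subgroup of the automorphisms inducing conjugations
  let L : Subgroup (MulAut s.E) := (cj'.range.comap φ).map s.A.subtype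
  have hLA : L ≤ s.A := Subgroup.map_subtype_le _
  have hcjL : s.cj.range ≤ L := by
    rintro _ ⟨g, rfl⟩
    exact ⟨cjA g, ⟨π g, (hcj g).symm⟩, rfl⟩
  have hmoved : ∃ α ∈ φ.range, ∃ h : G ⧸ N, α * cj' h * α⁻¹ ∉ cj'.range := by
    by_contra hcon
    push Not at hcon
    refine hmove fun α hα x hx => ?_
    refine s.apply_mem_of_trivial hG L hLA hcjL ?_ ?_
      (fun β hβ y hy => s.apply_mem_inf t hβ hy) hα hx
    · rintro γ hγ _ ⟨δ, ⟨h, hδ⟩, rfl⟩
      refine ⟨⟨γ, hγ⟩ * δ * ⟨γ, hγ⟩⁻¹, ?_, rfl⟩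
      show φ _ ∈ cj'.range
      rw [map_mul, map_mul, map_inv, ← hδ]
      exact hcon _ ⟨_, rfl⟩ h
    · rintro _ ⟨δ, ⟨h, hδ⟩, rfl⟩ y hy
      obtain ⟨g, rfl⟩ := QuotientGroup.mk'_surjective N h
      rw [← hcj] at hδ
      have h1 : π (δ.1 y : G) = π (s.cj g y : G) := by
        rw [← hρv, ← hρv, ← hφ]
        show ((φ δ (ρ y) : E') : G ⧸ N) = ((ρ ((cjA g).1 y) : E') : G ⧸ N)
        rw [← hφ, hδ]
      have h2 : (δ.1 y : G)⁻¹ * (s.cj g y : G) ∈ N := QuotientGroup.eq.1 h1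
      have h3 : (s.cj g y : G) ∈ s.E ⊓ t.E := s.pres_cj (s.inf_normal t) g y hy
      have h4 := (s.E ⊓ t.E).mul_mem h3 ((s.E ⊓ t.E).inv_mem ⟨hNs h2, hNt h2⟩)
      simpa [mul_assoc] using h4
  refine ⟨{
    E := E'
    normal := hE'n
    index := by
      rw [hE', Subgroup.index_map_eq _ (QuotientGroup.mk'_surjective N)
        (by rw [QuotientGroup.ker_mk']; exact hNs), s.index]
    A := φ.range
    conj_mem := fun h => by
      obtain ⟨g, rfl⟩ := QuotientGroup.mk'_surjective N h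
      exact ⟨cjA g, hcj g⟩
    syl := hsyl
    moved := hmoved
    inner := fun h => by
      obtain ⟨g, rfl⟩ := QuotientGroup.mk'_surjective N h
      exact mem_qB.2 ⟨MulAut.conj g, s.inner g, fun x => by
        rw [MulAut.conj_apply, MulAut.conj_apply, map_mul, map_mul, map_inv]⟩
    stable := fun β' hβ' y hy => by
      obtain ⟨β, hβ, hv⟩ := mem_qB.1 hβ'
      obtain ⟨x, hx, rfl⟩ := hy
      rw [hv]
      exact ⟨β x, s.stable β hβ x hx, rfl⟩
    restr := fun β' hβ' α' hα' => by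
      obtain ⟨β, hβ, hv⟩ := mem_qB.1 hβ'
      obtain ⟨α, hα, hαv⟩ := s.exists_restr hβ
      refine ⟨⟨α, hα⟩, MulEquiv.ext fun y => ?_⟩
      obtain ⟨x, rfl⟩ := hρ y
      rw [hφ]
      refine Subtype.ext ?_
      rw [hα', hρv, hρv, hv, hαv]
    ext := ?_ }, rfl, ?_, ?_⟩
  · rintro _ ⟨γ, rfl⟩ hn
    obtain ⟨l, ⟨δ, ⟨h, hδ⟩, rfl⟩, hl⟩ := s.exists_normalizing hG hLA hcjL (α := γ.1)
      fun x ⟨g, hg⟩ => ⟨γ * cjA g * γ⁻¹, by
        show φ _ ∈ cj'.range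
        rw [map_mul, map_mul, map_inv, hcj]
        exact hn (π g), by rw [← hg]; rfl⟩
    obtain ⟨g, rfl⟩ := QuotientGroup.mk'_surjective N h
    obtain ⟨β, hβ, hβv⟩ := s.ext (s.A.subtype δ * γ.1) (s.A.mul_mem δ.2 γ.2) hl
    refine ⟨QuotientGroup.congr N N (MulAut.conj g⁻¹ * β)
      (map_mk_eq (hN _ (B.mul_mem (s.inner _) hβ))),
      mem_qB.2 ⟨_, B.mul_mem (s.inner _) hβ, fun x => rfl⟩, fun y => ?_⟩
    obtain ⟨x, rfl⟩ := hρ y
    rw [hφ, hρv, hρv]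
    show π ((MulAut.conj g⁻¹ * β) (x : G)) = π (γ.1 x : G)
    rw [MulAut.mul_apply, hβv, MulAut.conj_apply, inv_inv, map_mul, map_mul, map_inv]
    have h1 : π ((s.A.subtype δ * γ.1) x : G) = π g * π (γ.1 x : G) * (π g)⁻¹ := by
      rw [MulAut.mul_apply, ← hρv, ← hρv, show ρ (s.A.subtype δ (γ.1 x)) = φ δ (ρ (γ.1 x)) from
        (hφ δ _).symm, ← hδ, hcjv]
    rw [h1]
    group
  · rintro _ ⟨γ, rfl⟩
    refine ⟨γ.1, γ.2, fun x y hy => ?_⟩
    obtain rfl : y = ρ x := Subtype.ext hy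
    exact congrArg Subtype.val (hφ γ x)
  · intro α hα
    refine ⟨φ ⟨α, hα⟩, ⟨_, rfl⟩, fun x y hy => ?_⟩
    obtain rfl : y = ρ x := Subtype.ext hy
    exact congrArg Subtype.val (hφ ⟨α, hα⟩ x)

/-- A `Core` in a quotient by central elements of order `p` lifts. -/
theorem exists_core_of_quotient (hG : IsPGroup p G) (hp2 : p ≠ 2) (hrk : Rank3 p G)
    {s t : Side p B} (hne : s.E ≠ t.E) (N : Subgroup G) [hNn : N.Normal]
    (hN : ∀ β ∈ B, ∀ x ∈ N, β x ∈ N) (hNs : N ≤ s.E) (hNt : N ≤ t.E)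
    (hNc : ∀ z ∈ N, ∀ g : G, g * z = z * g) (hNinv : ∀ α ∈ s.A, Pres α N)
    {s' t' : Side p (qB B N hN)}
    (hs : s'.E = s.E.map (QuotientGroup.mk' N)) (ht : t'.E = t.E.map (QuotientGroup.mk' N))
    (hsA : ∀ α' ∈ s'.A, ∃ α ∈ s.A, ∀ (x : s.E) (y : s'.E), (y : G ⧸ N) = QuotientGroup.mk' N x →
        (α' y : G ⧸ N) = QuotientGroup.mk' N (α x))
    (htA : ∀ α' ∈ t'.A, ∃ α ∈ t.A, ∀ (x : t.E) (y : t'.E), (y : G ⧸ N) = QuotientGroup.mk' N x →
        (α' y : G ⧸ N) = QuotientGroup.mk' N (α x))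
    (c : Core s' t') : Nonempty (Core s t) := by
  classical
  by_cases hW : ∃ u ∈ omegaZ p t.E, u ∉ s.E
  · exact exists_core hG hp2 hrk hne hW
  exfalso
  push Not at hW
  have := s.finite_aut
  set π := QuotientGroup.mk' N with hπ
  have hmem : ∀ {H : Subgroup G}, N ≤ H → ∀ g : G, π g ∈ H.map π → g ∈ H := by
    rintro H hH g ⟨x, hx, hxg⟩
    have h1 := hH (QuotientGroup.eq.1 hxg)
    simpa using H.mul_mem hx h1
  set K := c.K.comap π with hK
  haveI hK'n : c.K.Normal := ⟨fun k hk g => by rw [c.central k hk g, mul_inv_cancel_right]; exact hk⟩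
  haveI hKn : K.Normal := hK'n.comap π
  have hNK : N ≤ K := fun z hz => by
    rw [hK, Subgroup.mem_comap, show π z = 1 from (QuotientGroup.eq_one_iff z).2 hz]
    exact one_mem _
  have hKE : K ≤ s.E ⊓ t.E := fun x hx =>
    ⟨hmem hNs x (hs ▸ (c.K_le hx).1), hmem hNt x (ht ▸ (c.K_le hx).2)⟩
  have hKs : K ≤ s.E := hKE.trans inf_le_left
  have hidx : K.relIndex s.E = p ^ 2 := by
    rw [hK, Subgroup.relIndex_comap, ← hs]
    exact c.relIndex_sq
  obtain ⟨z, hz, hzr⟩ : ∃ z ∈ s.E ⊓ t.E, π z = c.r := by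
    obtain ⟨z, hz, hzr⟩ := hs ▸ c.r_mem.1
    refine ⟨z, ⟨hz, hmem hNt z ?_⟩, hzr⟩
    rw [hzr, ← ht]
    exact c.r_mem.2
  have hzK : z ∉ K := fun h => c.r_not (hzr ▸ h)
  obtain ⟨u, hut, huv⟩ := ht ▸ c.u_mem
  have hus : u ∉ s.E := fun h => c.u_not (by rw [← huv, hs]; exact ⟨u, h, rfl⟩)
  obtain ⟨α, hα, hαv⟩ := hsA c.α c.mem_A
  -- the pair maps onto the pair of the quotient
  let R : MulAut s.E → MulAut s'.E → Prop := fun γ γ' =>
    ∀ (x : s.E) (y : s'.E), (y : G ⧸ N) = π x → (γ' y : G ⧸ N) = π (γ x)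
  have hlift : ∀ x : s.E, ∃ y : s'.E, (y : G ⧸ N) = π x := fun x =>
    ⟨⟨π x, hs ▸ Subgroup.mem_map_of_mem π x.2⟩, rfl⟩
  have hsurj : ∀ y : s'.E, ∃ x : s.E, (y : G ⧸ N) = π x := fun y => by
    obtain ⟨x, hx, hxy⟩ := (hs ▸ y.2 : (y : G ⧸ N) ∈ s.E.map π)
    exact ⟨⟨x, hx⟩, hxy.symm⟩
  have hR1 : R 1 1 := fun x y h => h
  have hRmul : ∀ {a a' b b'}, R a a' → R b b' → R (a * b) (a' * b') := fun ha hb x y h =>
    ha _ _ (hb x y h)
  have hRinv : ∀ {a a'}, R a a' → R a⁻¹ a'⁻¹ := by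
    intro a a' ha x y h
    obtain ⟨y', hy'⟩ := hlift (a⁻¹ x)
    have h1 := ha _ y' hy'
    rw [MulAut.apply_inv_self] at h1
    rw [show y = a' y' from Subtype.ext (h.trans h1.symm), MulAut.inv_apply_self]
    exact hy'
  have hRcj : ∀ g : G, R (s.cj g) (s'.cj (π g)) := fun g x y h => by
    rw [s'.cj_apply, s.cj_apply, map_mul, map_mul, map_inv, h]
  have hRα : R α c.α := fun x y h => hαv x y h
  let P₁ : Subgroup (MulAut s.E) :=
    { carrier := {γ | ∃ γ' ∈ s'.pair c.u c.α, R γ γ'}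
      one_mem' := ⟨1, one_mem _, hR1⟩
      mul_mem' := fun ⟨a, ha, ha'⟩ ⟨b, hb, hb'⟩ => ⟨a * b, Subgroup.mul_mem _ ha hb, hRmul ha' hb'⟩
      inv_mem' := fun ⟨a, ha, ha'⟩ => ⟨a⁻¹, Subgroup.inv_mem _ ha, hRinv ha'⟩ }
  have hRu : R (α * s.cj u * α⁻¹) (c.α * s'.cj c.u * c.α⁻¹) := by
    rw [← huv]
    exact hRmul (hRmul hRα (hRcj u)) (hRinv hRα)
  have hP₁ : s.pair u α ≤ P₁ := s.pair_induction hus
    ⟨_, s'.cj_mem_pair c.u c.α _, hRcj u⟩ (fun e _ => ⟨_, s'.cj_mem_pair c.u c.α _, hRcj e⟩)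
    ⟨_, s'.conj_mem_pair c.u c.α, hRu⟩
  have hnp : ¬ IsPGroup p (s.pair u α) := by
    intro hpg
    refine c.np fun γ' => ?_
    let P₂ : Subgroup (MulAut s'.E) :=
      { carrier := {γ' | ∃ γ ∈ s.pair u α, R γ γ'}
        one_mem' := ⟨1, one_mem _, hR1⟩
        mul_mem' := fun ⟨a, ha, ha'⟩ ⟨b, hb, hb'⟩ => ⟨a * b, Subgroup.mul_mem _ ha hb, hRmul ha' hb'⟩
        inv_mem' := fun ⟨a, ha, ha'⟩ => ⟨a⁻¹, Subgroup.inv_mem _ ha, hRinv ha'⟩ }
    have hle : s'.pair c.u c.α ≤ P₂ := by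
      refine sup_le ?_ (Subgroup.zpowers_le.2 ⟨_, s.conj_mem_pair u α, hRu⟩)
      rintro _ ⟨h, rfl⟩
      obtain ⟨g, rfl⟩ := QuotientGroup.mk'_surjective N h
      exact ⟨_, s.cj_mem_pair u α g, hRcj g⟩
    obtain ⟨γ, hγ, hγR⟩ := hle γ'.2
    obtain ⟨k, hk⟩ := hpg ⟨γ, hγ⟩
    have hk' : γ ^ p ^ k = 1 := congrArg Subtype.val hk
    have hRpow : ∀ n : ℕ, R (γ ^ n) ((γ' : MulAut s'.E) ^ n) := by
      intro n
      induction n with
      | zero => exact hR1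
      | succ n ih => rw [pow_succ, pow_succ]; exact hRmul ih hγR
    refine ⟨k, Subtype.ext (MulEquiv.ext fun y => Subtype.ext ?_)⟩
    obtain ⟨x, hx⟩ := hsurj y
    rw [SubgroupClass.coe_pow, hRpow (p ^ k) x y hx, hk']
    exact hx.symm
  have htrivK : ∀ γ ∈ s.pair u α, Triv γ N K := by
    intro γ hγ x hx
    obtain ⟨γ', hγ', hR⟩ := hP₁ hγ
    obtain ⟨y, hy⟩ := hlift x
    have h1 := hR x y hy
    rw [c.fix γ' hγ' y (by rw [hy]; exact hx), hy] at h1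
    exact QuotientGroup.eq.1 h1
  have hfixN : ∀ γ ∈ s.pair u α, Triv γ ⊥ N := s.pair_triv_of_comm hus hα Subgroup.normal_bot hNn
    (fun δ _ x hx => by rw [show x = 1 from Subtype.ext (Subgroup.mem_bot.1 hx), map_one]; exact one_mem _)
    hNinv (fun x hx => by rw [commutatorElement_eq_one_iff_mul_comm.2 (hNc x hx u)]; exact one_mem _)
    fun e _ x hx => by rw [commutatorElement_eq_one_iff_mul_comm.2 (hNc x hx e)]; exact one_mem _
  have hfixK : ∀ γ ∈ s.pair u α, (orderOf γ).Coprime p → ∀ x : s.E, (x : G) ∈ K → γ x = x :=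
    fun γ hγ hco => fix_step hG hco (fix_of_triv_bot hG hco (hfixN γ hγ)) (htrivK γ hγ)
  have hcomm : ∀ x ∈ s.E, ∀ y ∈ s.E, ⁅x, y⁆ ∈ K := fun x hx y hy => by
    rw [hK, Subgroup.mem_comap, map_commutatorElement]
    exact c.comm _ (hs ▸ Subgroup.mem_map_of_mem π hx) _ (hs ▸ Subgroup.mem_map_of_mem π hy)
  have hpow : ∀ x ∈ s.E, x ^ p ∈ K := fun x hx => by
    rw [hK, Subgroup.mem_comap, map_pow]
    exact c.pow_mem _ (hs ▸ Subgroup.mem_map_of_mem π hx)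
  obtain ⟨β, hβ, γ, hγ, hβγ, ⟨m, hm⟩, hβg, hβinv⟩ := s.exists_inverting hG hp2 (le_refl s.E) hKs hidx
    hcomm hpow hcomm hus hα
    (fun δ hδ => (htrivK δ hδ).pres hNK)
    (fun δ _ y _ => (δ y).2)
    (fun hall => s.not_all_fixed hnp fun δ hδ hco =>
      fix_step hG hco (hfixK δ hδ hco) (hall δ hδ hco))
  have hco : (orderOf γ).Coprime p := coprime_of_restr hG hp2 hm hβγ
  have hβK : ∀ k ∈ K, β k = k := fun k hk => by
    rw [hβγ ⟨k, hKs hk⟩, hfixK γ hγ hco ⟨k, hKs hk⟩ hk]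
  -- `β` is an involution on the first side
  have hβ2 : ∀ x ∈ s.E, β (β x) = x := by
    intro x hx
    obtain ⟨k, hk, hβx⟩ : ∃ k ∈ K, β x = x⁻¹ * k := ⟨_, hβinv x hx, (inv_mul_cancel_left _ _).symm⟩
    have h1 : β (β x) = k⁻¹ * x * k := by
      rw [hβx, map_mul, map_inv, hβx, hβK k hk]; group
    have h2 := fix_step hG (γ := γ * γ) (M := K) (N := s.E) ?_
      (fun y hy => by rw [MulAut.mul_apply, hfixK γ hγ hco y hy, hfixK γ hγ hco y hy]) ?_ ⟨x, hx⟩ hx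
    · have h3 := congrArg Subtype.val h2
      rw [MulAut.mul_apply, ← hβγ, ← hβγ] at h3
      exact h3
    · rw [← pow_two]
      exact (hco.coprime_dvd_left (orderOf_pow_dvd 2))
    · intro y hy
      obtain ⟨k, hk, hβy⟩ : ∃ k ∈ K, β y = (y : G)⁻¹ * k :=
        ⟨_, hβinv y hy, (inv_mul_cancel_left _ _).symm⟩
      have h4 : ((γ * γ) y : G) = k⁻¹ * y * k := by
        rw [MulAut.mul_apply, ← hβγ, ← hβγ, hβy, map_mul, map_inv, hβy, hβK k hk]; group
      rw [h4]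
      have h5 : (y : G)⁻¹ * (k⁻¹ * y * k) = ((y : G)⁻¹ * k⁻¹ * y) * k := by group
      rw [h5]
      have h6 := hKn.conj_mem _ (K.inv_mem hk) (y : G)⁻¹
      rw [inv_inv] at h6
      exact K.mul_mem h6 hk
  set r := z * (β z)⁻¹ with hr
  have hrE : r ∈ s.E ⊓ t.E :=
    (s.E ⊓ t.E).mul_mem hz ((s.E ⊓ t.E).inv_mem (s.apply_mem_inf t hβ hz))
  have hrK : r ∉ K := fun h => hzK (mem_of_fixed_inverted hG hp2 (v := β z)
    (by
      have h1 := hKn.conj_mem _ (K.inv_mem h) z⁻¹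
      rw [hr] at h1
      simpa [mul_assoc] using h1) (hβinv z hz.1))
  have hβr : β r = r⁻¹ := by rw [hr, map_mul, map_inv, hβ2 z hz.1, mul_inv_rev, inv_inv]
  have hgen : ∀ d ∈ s.E ⊓ t.E, ∃ k ∈ K, ∃ j : ℕ, d = k * r ^ j := by
    intro d hd
    have h12 := s.relIndex_inf t hG hne
    have h1 := Subgroup.relIndex_mul_relIndex K _ s.E hKE inf_le_left
    rw [h12, hidx, pow_two] at h1
    have h2 := Subgroup.relIndex_mul_relIndex K _ (s.E ⊓ t.E) le_sup_left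
      (sup_le hKE (Subgroup.zpowers_le.2 hrE))
    rw [relIndex_sup_zpowers (hpow r hrE.1) hrK, Nat.eq_of_mul_eq_mul_right hp.out.pos h1] at h2
    have h3 := Subgroup.relIndex_eq_one.1 (Nat.eq_of_mul_eq_mul_left hp.out.pos
      (h2.trans (mul_one p).symm)) hd
    obtain ⟨k, hk, y, hy, hdy⟩ := Subgroup.mem_sup_of_normal_left.1 h3
    obtain ⟨j, hj⟩ := mem_powers_iff_mem_zpowers.2 hy
    simp only at hj
    exact ⟨k, hk, j, by rw [hj, hdy]⟩
  have hinvcomm : ∀ a b : G, ⁅a, b⁆ ∈ N → ⁅a, b⁻¹⁆ = ⁅a, b⁆⁻¹ ∧ ⁅a⁻¹, b⁆ = ⁅a, b⁆⁻¹ := by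
    intro a b h
    have e1 : ⁅a, b⁻¹⁆ = b⁻¹ * ⁅a, b⁆⁻¹ * b := by simp only [commutatorElement_def]; group
    have e2 : ⁅a⁻¹, b⁆ = a⁻¹ * ⁅a, b⁆⁻¹ * a := by simp only [commutatorElement_def]; group
    rw [hNc _ (N.inv_mem h) b⁻¹, inv_mul_cancel_right] at e1
    rw [hNc _ (N.inv_mem h) a⁻¹, inv_mul_cancel_right] at e2
    exact ⟨e1, e2⟩
  have hsq : ∀ o : G, o ∈ N → β o = o⁻¹ → o = 1 := fun o ho h => by
    rw [hβK o (hNK ho), eq_inv_iff_mul_eq_one] at h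
    exact Subgroup.mem_bot.1 (mem_of_sq_mem hG hp2 (M := ⊥) (Subgroup.mem_bot.2 h))
  have hKr : ∀ k ∈ K, Commute k r := by
    intro k hk
    have hN1 : ⁅k, r⁆ ∈ N := by
      refine (QuotientGroup.eq_one_iff _).1 ?_
      show π ⁅k, r⁆ = 1
      rw [map_commutatorElement]
      exact commutatorElement_eq_one_iff_mul_comm.2 (c.central _ hk (π r)).symm
    refine commutatorElement_eq_one_iff_mul_comm.1 (hsq _ hN1 ?_)
    rw [map_commutatorElement, hβK k hk, hβr, (hinvcomm k r hN1).1]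
  have hru : Commute r u := by
    have hN1 : ⁅r, u⁆ ∈ N := by
      refine (QuotientGroup.eq_one_iff _).1 ?_
      show π ⁅r, u⁆ = 1
      rw [map_commutatorElement]
      exact commutatorElement_eq_one_iff_mul_comm.2
        (c.abelian _ (ht ▸ Subgroup.mem_map_of_mem π hrE.2) _ (ht ▸ Subgroup.mem_map_of_mem π hut))
    refine commutatorElement_eq_one_iff_mul_comm.1 (hsq _ hN1 ?_)
    have he : u⁻¹ * β u ∈ s.E ⊓ t.E := by
      exact ⟨hβg u, t.E.mul_mem (t.E.inv_mem hut) (t.stable β hβ u hut)⟩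
    obtain ⟨k, hk, j, hkj⟩ := hgen _ he
    have hce : ⁅r⁻¹, u⁻¹ * β u⁆ = 1 := by
      rw [hkj]
      exact commutatorElement_eq_one_iff_mul_comm.2
        ((((hKr k hk).symm).inv_left.mul_right ((Commute.refl r).inv_left.pow_right j))).eq
    rw [map_commutatorElement, hβr, show β u = u * (u⁻¹ * β u) from (mul_inv_cancel_left _ _).symm,
      comm_mul_right, hce, mul_one, mul_inv_cancel, mul_one, (hinvcomm r u hN1).2]
  have hrp : r ^ p = 1 := by
    refine Subgroup.mem_bot.1 (mem_of_fixed_inverted hG hp2 (v := β (r ^ p)) ?_ ?_)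
    · rw [hβK _ (hpow r hrE.1), inv_mul_cancel]; exact one_mem _
    · rw [map_pow, hβr, inv_pow, mul_inv_cancel]; exact one_mem _
  have hrW : r ∈ omegaZ p t.E := by
    refine ⟨hrE.2, hrp, fun e he => ?_⟩
    obtain ⟨n, d, hd, rfl⟩ := t.exists_form s hut hus he
    obtain ⟨k, hk, j, rfl⟩ := hgen d ⟨hd.2, hd.1⟩
    exact ((hru.symm.pow_left n).mul_left ((hKr k hk).mul_left ((Commute.refl r).pow_left j))).eq
  -- the image of the socle
  refine c.false_of_elem (hG.to_quotient N) hp2 (hrk.quotient N) ?_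
    (P := (omegaZ p t.E).map π) ?_ ?_ ?_ ⟨π r, Subgroup.mem_map_of_mem π hrW, hrK⟩
  · intro h
    obtain ⟨x, hx, hxt⟩ := s.exists_mem_not_mem t hne
    exact hxt (hmem hNt x (by rw [← ht, ← h, hs]; exact Subgroup.mem_map_of_mem π hx))
  · rintro _ ⟨w, hw, rfl⟩
    exact ⟨hs ▸ Subgroup.mem_map_of_mem π (hW w hw), ht ▸ Subgroup.mem_map_of_mem π (omegaZ_le hw)⟩
  · intro γ' hγ' y hy
    obtain ⟨w, hw, hwy⟩ := hy
    obtain ⟨γ, hγ, hγv⟩ := htA γ' hγ'
    exact ⟨_, pres_omegaZ γ ⟨w, omegaZ_le hw⟩ hw, (hγv ⟨w, omegaZ_le hw⟩ y hwy.symm).symm⟩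
  · refine ⟨?_, ?_⟩
    · rintro _ ⟨a, ha, rfl⟩ _ ⟨b, hb, rfl⟩
      rw [← map_mul, ← map_mul, elem_omegaZ.1 a ha b hb]
    · rintro _ ⟨a, ha, rfl⟩
      rw [← map_pow, ha.2.1, map_one]

end CfsgLib.FusionTwoEssentials
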