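import Cfsg.Agent.FusionTwoEssentials.Basic
import Cfsg.Agent.FusionRankTwo.Torus

/-!
# The inverting automorphism of a natural section
-/

set_option autoImplicit false

namespace CfsgLib.FusionTwoEssentials

open scoped commutatorElement

variable {G : Type*} [Group G]

/-- A coset invariant under an automorphism of `2`-power order of odd size contains a fixed point. -/
theorem exists_fixed [Finite G] {p : ℕ} [Fact p.Prime] (hp2 : p ≠ 2) (hG : IsPGroup p G)
    {β : MulAut G} {a : ℕ} (hβ : β ^ 2 ^ a = 1) (M : Subgroup G) (hM : ∀ m ∈ M, β m ∈ M) {x : G}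
    (hx : x⁻¹ * β x ∈ M) : ∃ y, x⁻¹ * y ∈ M ∧ β y = y := by
  have : Fact (Nat.Prime 2) := ⟨Nat.prime_two⟩
  let T := {y : G // x⁻¹ * y ∈ M}
  let σ : T → T := fun y => ⟨β y, by
    have h := M.mul_mem hx (hM _ y.2)
    simpa [mul_assoc] using h⟩
  have hiter : ∀ (n : ℕ) (y : T), ((σ^[n] y) : G) = (β ^ n) (y : G) := by
    intro n
    induction n with
    | zero => simp
    | succ n ih =>
      intro y
      rw [Function.iterate_succ_apply', pow_succ', MulAut.mul_apply]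
      exact congrArg β (ih y)
  let f : T ≃ T := Equiv.ofBijective σ ((Finite.injective_iff_bijective).1 fun y z h =>
    Subtype.ext (β.injective (congrArg Subtype.val h)))
  have hf : ∀ (n : ℕ) (y : T), (((f ^ n) y : T) : G) = (β ^ n) (y : G) := by
    intro n
    induction n with
    | zero => simp
    | succ n ih =>
      intro y
      rw [pow_succ', Equiv.Perm.mul_apply, pow_succ', MulAut.mul_apply, ← ih y]
      rfl
  have hcard : ¬ 2 ∣ Nat.card T := by
    have he : Nat.card T = Nat.card M := Nat.card_congr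
      { toFun := fun y => (⟨_, y.2⟩ : M)
        invFun := fun m => ⟨x * m, by simp⟩
        left_inv := fun y => Subtype.ext (by simp)
        right_inv := fun m => Subtype.ext (by simp) }
    obtain ⟨k, hk⟩ := IsPGroup.iff_card.1 (hG.to_subgroup M)
    rw [he, hk]
    intro h
    exact hp2 ((Nat.prime_dvd_prime_iff_eq Nat.prime_two (Fact.out : p.Prime)).1
      (Nat.prime_two.dvd_of_dvd_pow h)).symm
  have h2 : IsPGroup 2 (Subgroup.zpowers f) := by
    have hfa : f ^ 2 ^ a = 1 := Equiv.ext fun y => Subtype.ext (by rw [hf, hβ]; rfl)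
    rintro ⟨y, n, rfl⟩
    exact ⟨a, Subtype.ext (by
      rw [SubgroupClass.coe_pow, ← zpow_natCast, ← zpow_mul, mul_comm, zpow_mul, zpow_natCast, hfa,
        one_zpow]; rfl)⟩
  obtain ⟨y, hy⟩ := h2.nonempty_fixed_point_of_prime_not_dvd_card T hcard
  exact ⟨y, y.2, congrArg Subtype.val (hy ⟨f, Subgroup.mem_zpowers f⟩)⟩

/-- The displacement of an involution is inverted. -/
theorem apply_disp {β : MulAut G} (hβ : ∀ x, β (β x) = x) (x : G) :
    β (x * (β x)⁻¹) = (x * (β x)⁻¹)⁻¹ := by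
  rw [map_mul, map_inv, hβ, mul_inv_rev, inv_inv]

namespace Side

variable {p : ℕ} {B : Subgroup (MulAut G)} (s : Side p B)

/-- The conjugations together with one further conjugate of a generator. -/
def pair (u : G) (α : MulAut s.E) : Subgroup (MulAut s.E) :=
  s.cj.range ⊔ Subgroup.zpowers (α * s.cj u * α⁻¹)

theorem cj_mem_pair (u : G) (α : MulAut s.E) (g : G) : s.cj g ∈ s.pair u α :=
  Subgroup.mem_sup_left ⟨g, rfl⟩

theorem conj_mem_pair (u : G) (α : MulAut s.E) : α * s.cj u * α⁻¹ ∈ s.pair u α :=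
  Subgroup.mem_sup_right (Subgroup.mem_zpowers _)

theorem pair_le_A {u : G} {α : MulAut s.E} (hα : α ∈ s.A) : s.pair u α ≤ s.A := by
  refine sup_le ?_ (Subgroup.zpowers_le.2 (s.A.mul_mem (s.A.mul_mem hα (s.cj_mem u)) (s.A.inv_mem hα)))
  rintro _ ⟨g, rfl⟩
  exact s.cj_mem g

/-- A property closed under products holds on `pair` if it holds for its generators. -/
theorem pair_induction [Finite G] [Fact p.Prime] {u : G} (hu : u ∉ s.E) {α : MulAut s.E}
    {C : Subgroup (MulAut s.E)} (hu' : s.cj u ∈ C) (he : ∀ e ∈ s.E, s.cj e ∈ C)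
    (hc : α * s.cj u * α⁻¹ ∈ C) : s.pair u α ≤ C := by
  refine sup_le ?_ (Subgroup.zpowers_le.2 hc)
  rintro _ ⟨g, rfl⟩
  obtain ⟨n, e, hme, rfl⟩ := s.exists_pow_mul hu g
  rw [map_mul, map_pow]
  exact C.mul_mem (C.pow_mem hu' n) (he e hme)

variable [Finite G] [hp : Fact p.Prime]

/-- A `pair` that is a `p`-group cannot move the conjugations. -/
theorem exists_pair (hG : IsPGroup p G) {u : G} (hu : u ∉ s.E) :
    ∃ α ∈ s.A, ¬ IsPGroup p (s.pair u α) := by
  obtain ⟨α, hα, h⟩ := s.exists_moved hG hu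
  refine ⟨α, hα, fun hp' => h (hp'.to_le ((Subgroup.closure_le _).2 ?_))⟩
  rintro x (rfl | rfl)
  exacts [s.cj_mem_pair u α u, s.conj_mem_pair u α]

/-- On a natural section some element of a `pair` inverts and extends to an element of `B` of
`2`-power order centralizing `G` modulo `E`. -/
theorem exists_inverting (hG : IsPGroup p G) (hp2 : p ≠ 2) {M N : Subgroup G} [hMn : M.Normal]
    (hNE : N ≤ s.E) (hMN : M ≤ N) (hidx : M.relIndex N = p ^ 2)
    (hcomm : ∀ x ∈ N, ∀ y ∈ N, ⁅x, y⁆ ∈ M) (hpow : ∀ x ∈ N, x ^ p ∈ M)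
    (htriv : ∀ e ∈ s.E, ∀ x ∈ N, ⁅e, x⁆ ∈ M) {u : G} (hu : u ∉ s.E) {α : MulAut s.E}
    (hα : α ∈ s.A) (hpM : ∀ γ ∈ s.pair u α, ∀ x : s.E, (x : G) ∈ M → (γ x : G) ∈ M)
    (hpN : ∀ γ ∈ s.pair u α, ∀ x : s.E, (x : G) ∈ N → (γ x : G) ∈ N)
    (hnp : ¬ ∀ γ ∈ s.pair u α, (orderOf γ).Coprime p →
      ∀ x : s.E, (x : G) ∈ N → (x : G)⁻¹ * (γ x : G) ∈ M) :
    ∃ β ∈ B, ∃ γ ∈ s.pair u α, (∀ x : s.E, β (x : G) = (γ x : G)) ∧ (∃ a : ℕ, β ^ 2 ^ a = 1) ∧
      (∀ g : G, g⁻¹ * β g ∈ s.E) ∧ ∀ x ∈ N, x * β x ∈ M := by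
  have := s.finite_aut
  haveI : (M.subgroupOf N).Normal := hMn.subgroupOf N
  let π := QuotientGroup.mk' (M.subgroupOf N)
  let P := s.pair u α
  let r : P →* MulAut N :=
    { toFun := fun γ =>
        { toFun := fun x => ⟨(γ.1 ⟨x, hNE x.2⟩ : G), hpN _ γ.2 _ x.2⟩
          invFun := fun x => ⟨(γ.1⁻¹ ⟨x, hNE x.2⟩ : G), hpN _ (P.inv_mem γ.2) _ x.2⟩
          left_inv := fun x => Subtype.ext (by
            show ((γ.1⁻¹ (γ.1 ⟨x, hNE x.2⟩) : s.E) : G) = x
            rw [MulAut.inv_apply_self])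
          right_inv := fun x => Subtype.ext (by
            show ((γ.1 (γ.1⁻¹ ⟨x, hNE x.2⟩) : s.E) : G) = x
            rw [MulAut.apply_inv_self])
          map_mul' := fun x y => Subtype.ext (by
            show ((γ.1 (⟨x, hNE x.2⟩ * ⟨y, hNE y.2⟩) : s.E) : G) = _
            rw [map_mul]; rfl) }
      map_one' := MulEquiv.ext fun x => rfl
      map_mul' := fun _ _ => MulEquiv.ext fun x => rfl }
  have hr : ∀ (γ : P) (x : N), (r γ x : G) = (γ.1 ⟨x, hNE x.2⟩ : G) := fun γ x => rfl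
  have hrM : ∀ γ : P, (M.subgroupOf N).map (r γ).toMonoidHom = M.subgroupOf N := by
    intro γ
    refine Subgroup.eq_of_le_of_card_ge ?_ (by rw [Subgroup.card_map_of_injective (r γ).injective])
    rintro _ ⟨x, hx, rfl⟩
    exact hpM _ γ.2 _ hx
  let ψ : P →* MulAut (↥N ⧸ M.subgroupOf N) :=
    { toFun := fun γ => QuotientGroup.congr _ _ (r γ) (hrM γ)
      map_one' := MulEquiv.ext fun x => by
        obtain ⟨x, rfl⟩ := QuotientGroup.mk'_surjective _ x
        rfl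
      map_mul' := fun _ _ => MulEquiv.ext fun x => by
        obtain ⟨x, rfl⟩ := QuotientGroup.mk'_surjective _ x
        rfl }
  have hψ : ∀ (γ : P) (x : N), ψ γ (π x) = π (r γ x) := fun γ x => rfl
  have hπ : ∀ x y : N, π x = π y ↔ (x : G)⁻¹ * y ∈ M := fun x y => QuotientGroup.eq
  have htriv' : ∀ γ : P, ψ γ = 1 → ∀ x : s.E, (x : G) ∈ N → (x : G)⁻¹ * (γ.1 x : G) ∈ M := by
    intro γ h x hx
    exact (hπ ⟨x, hx⟩ (r γ ⟨x, hx⟩)).1 (by rw [← hψ, h]; rfl)
  have hVc : ∀ a b : ↥N ⧸ M.subgroupOf N, a * b = b * a := by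
    intro a b
    obtain ⟨a, rfl⟩ := QuotientGroup.mk'_surjective _ a
    obtain ⟨b, rfl⟩ := QuotientGroup.mk'_surjective _ b
    rw [← commutatorElement_eq_one_iff_mul_comm, ← map_commutatorElement]
    exact (QuotientGroup.eq_one_iff _).2 (hcomm _ a.2 _ b.2)
  have hVp : ∀ a : ↥N ⧸ M.subgroupOf N, a ^ p = 1 := by
    intro a
    obtain ⟨a, rfl⟩ := QuotientGroup.mk'_surjective _ a
    rw [← map_pow]
    exact (QuotientGroup.eq_one_iff _).2 (hpow _ a.2)
  have hV : Nat.card (↥N ⧸ M.subgroupOf N) = p ^ 2 := by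
    rw [← Subgroup.index_eq_card]; exact hidx
  let U : P := ⟨s.cj u, s.cj_mem_pair u α u⟩
  let W : P := ⟨α * s.cj u * α⁻¹, s.conj_mem_pair u α⟩
  have hψE : ∀ e ∈ s.E, ψ ⟨s.cj e, s.cj_mem_pair u α e⟩ = 1 := by
    intro e he
    refine MulEquiv.ext fun v => ?_
    obtain ⟨x, rfl⟩ := QuotientGroup.mk'_surjective _ v
    rw [hψ, MulAut.one_apply, eq_comm, hπ, hr, cj_apply]
    have h := M.mul_mem (hMn.conj_mem _ (htriv e he x x.2) (x : G)⁻¹) M.one_mem
    simpa [commutatorElement_def, mul_assoc] using h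
  have hUp : ψ U ^ p = 1 := by
    rw [← map_pow, ← hψE _ (s.pow_mem u)]
    exact congrArg ψ (Subtype.ext (map_pow s.cj u p).symm)
  have hWp : ψ W ^ p = 1 := by
    rw [← map_pow, ← hψE _ (α ⟨_, s.pow_mem u⟩).2]
    refine congrArg ψ (Subtype.ext ?_)
    show (α * s.cj u * α⁻¹) ^ p = s.cj _
    rw [← s.cj_conj, ← MulAut.conj_apply, ← map_pow, ← map_pow s.cj, MulAut.conj_apply]
  -- the images do not commute
  have hgenP : ∀ Q : Subgroup (MulAut (↥N ⧸ M.subgroupOf N)), ψ U ∈ Q → ψ W ∈ Q → ∀ γ : P, ψ γ ∈ Q := by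
    intro Q h1 h2
    let C : Subgroup (MulAut s.E) := (Q.comap ψ).map P.subtype
    have hC : s.pair u α ≤ C := s.pair_induction hu ⟨U, h1, rfl⟩
      (fun e he => ⟨⟨_, s.cj_mem_pair u α e⟩, by
        show ψ _ ∈ Q
        rw [hψE e he]; exact Q.one_mem, rfl⟩) ⟨W, h2, rfl⟩
    intro γ
    obtain ⟨δ, hδ, hδγ⟩ := hC γ.2
    rwa [show δ = γ from Subtype.ext hδγ] at hδ
  have hne : ψ U * ψ W ≠ ψ W * ψ U := by
    intro hc
    refine hnp fun γ hγ hco => htriv' ⟨γ, hγ⟩ ?_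
    let Q : Subgroup (MulAut (↥N ⧸ M.subgroupOf N)) := Subgroup.closure {ψ U, ψ W}
    have hQ' : Q ≤ Subgroup.centralizer ({ψ U, ψ W} : Set _) := (Subgroup.closure_le _).2 (by
      rintro x (rfl | rfl) <;> rw [SetLike.mem_coe, Subgroup.mem_centralizer_iff] <;>
        rintro y (rfl | rfl)
      exacts [rfl, hc.symm, hc, rfl])
    have hQcomm : ∀ x ∈ Q, ∀ y ∈ Q, y * x = x * y := by
      intro x hx y hy
      have h : Q ≤ Subgroup.centralizer ({x} : Set _) := (Subgroup.closure_le _).2 (by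
        intro z hz
        rw [SetLike.mem_coe, Subgroup.mem_centralizer_iff]
        rintro _ rfl
        exact (Subgroup.mem_centralizer_iff.1 (hQ' hx) z hz).symm)
      exact (Subgroup.mem_centralizer_iff.1 (h hy) x rfl).symm
    have hQc : ∀ x ∈ Q, x ^ p = 1 := by
      intro x hx
      induction hx using Subgroup.closure_induction with
      | mem x hx => rcases hx with rfl | rfl <;> assumption
      | one => exact one_pow p
      | mul x y hx hy h1 h2 =>
        rw [(show Commute x y from (hQcomm x hx y hy).symm).mul_pow, h1, h2, one_mul]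
      | inv x _ h => rw [inv_pow, h, inv_one]
    have h1 := hQc _ (hgenP Q (Subgroup.subset_closure (Set.mem_insert _ _))
      (Subgroup.subset_closure (Set.mem_insert_of_mem _ rfl)) ⟨γ, hγ⟩)
    have h2 : ψ ⟨γ, hγ⟩ ^ orderOf γ = 1 := by
      rw [← map_pow, ← map_one ψ]
      exact congrArg ψ (Subtype.ext (pow_orderOf_eq_one γ))
    have h3 := pow_gcd_eq_one.2 ⟨h2, h1⟩
    rwa [hco.gcd_eq_one, pow_one] at h3
  have hU1 : ψ U ≠ 1 := fun h => hne (by rw [h, one_mul, mul_one])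
  -- the inversion
  obtain ⟨e, f, -, -, -, -, hspan, htor⟩ := FusionRankTwo.exists_torus hVc hVp hV ψ (a := U) (b := W)
    (i := 1) (j := 1) (k := 1) (by rwa [pow_one]) (by rwa [pow_one]) hne (u := U) (by rwa [pow_one]) hU1
  obtain ⟨t, hte, htf, -⟩ := htor (p - 1) (p - 1) (by
    rw [Nat.cast_sub hp.out.one_le, ZMod.natCast_self]; simp)
  have hinv : ∀ v, ψ t v = v⁻¹ := by
    intro v
    obtain ⟨i, j, rfl⟩ := hspan v
    have hp1 : ∀ w : ↥N ⧸ M.subgroupOf N, w ^ (p - 1) = w⁻¹ := fun w =>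
      eq_inv_of_mul_eq_one_left (by rw [← pow_succ, Nat.sub_add_cancel hp.out.one_le, hVp])
    rw [map_mul, map_pow, map_pow, hte, htf, hp1, hp1, inv_pow, inv_pow, ← mul_inv_rev, hVc]
  have hcent : ∀ x : MulAut (↥N ⧸ M.subgroupOf N), ψ t * x * (ψ t)⁻¹ = x := by
    intro x
    rw [mul_inv_eq_iff_eq_mul]
    exact MulEquiv.ext fun v => by rw [MulAut.mul_apply, MulAut.mul_apply, hinv, hinv, map_inv]
  have ht2 : ψ t * ψ t = 1 := MulEquiv.ext fun v => by
    rw [MulAut.mul_apply, hinv, hinv, inv_inv, MulAut.one_apply]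
  -- normalize the conjugations
  let L : Subgroup (MulAut s.E) := ((Subgroup.zpowers (ψ U)).comap ψ).map P.subtype
  have hLP : L ≤ P := Subgroup.map_subtype_le _
  have hRL : s.cj.range ≤ L := by
    rintro _ ⟨g, rfl⟩
    obtain ⟨n, x, hx, rfl⟩ := s.exists_pow_mul hu g
    refine ⟨U ^ n * ⟨_, s.cj_mem_pair u α x⟩, ?_, by simp [map_mul, map_pow, U]⟩
    show ψ _ ∈ Subgroup.zpowers (ψ U)
    rw [map_mul, map_pow, hψE x hx, mul_one]
    exact Subgroup.pow_mem _ (Subgroup.mem_zpowers _) n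
  obtain ⟨l, hlL, hn⟩ := s.exists_normalizing hG (hLP.trans (s.pair_le_A hα)) hRL
    (α := (t : MulAut s.E)) (fun x hx => by
      obtain ⟨δ, hδ, rfl⟩ := hRL hx
      refine ⟨t * δ * t⁻¹, ?_, by simp⟩
      show ψ _ ∈ Subgroup.zpowers (ψ U)
      rw [map_mul, map_mul, map_inv, hcent]
      exact hδ)
  obtain ⟨l, ⟨i, hi⟩, rfl⟩ := hlL
  simp only at hi
  set n : P := l * t with hndef
  obtain ⟨β₀, hβ₀, hβ₀v⟩ := s.ext n.1 (s.pair_le_A hα n.2) hn
  have : Finite (MulAut G) := Finite.of_injective (fun φ => (φ : G → G)) DFunLike.coe_injective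
  obtain ⟨a, m, hm, ham⟩ := Nat.exists_eq_pow_mul_and_not_dvd (orderOf_pos β₀).ne' 2 (by norm_num)
  have hmodd : Odd m := Nat.odd_iff.2 (by omega)
  have hβv : ∀ (k : ℕ) (x : s.E), (β₀ ^ k) (x : G) = ((n ^ k : P).1 x : G) := by
    intro k
    induction k with
    | zero => simp
    | succ k ih =>
      intro x
      rw [pow_succ', pow_succ', MulAut.mul_apply, ih, Subgroup.coe_mul, MulAut.mul_apply, hβ₀v]
  set γ : P := n ^ m with hγ
  have hβa : (β₀ ^ m) ^ 2 ^ a = 1 := by rw [← pow_mul, mul_comm, ← ham, pow_orderOf_eq_one]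
  have hγa : γ ^ 2 ^ a = 1 := by
    refine Subtype.ext (MulEquiv.ext fun x => Subtype.ext ?_)
    rw [hγ, ← pow_mul, ← hβv, pow_mul, hβa]
    rfl
  have hψγ : ψ γ = ψ t := by
    have hc : Commute (ψ U ^ i) (ψ t) := by
      show ψ U ^ i * ψ t = ψ t * ψ U ^ i
      exact (mul_inv_eq_iff_eq_mul.1 (hcent _)).symm
    have h1 : ψ γ = (ψ U ^ i) ^ m * ψ t := by
      rw [hγ, map_pow, hndef, map_mul, ← hi, hc.mul_pow]
      obtain ⟨k, hk⟩ := hmodd
      rw [hk, pow_succ (ψ t) (2 * k), pow_mul (ψ t), sq, ht2, one_pow, one_mul]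
    suffices (ψ U ^ i) ^ m = 1 by rw [h1, this, one_mul]
    have h2 : ((ψ U ^ i) ^ m) ^ 2 ^ (a + 1) = 1 := by
      have h3 : ψ γ ^ 2 ^ (a + 1) = 1 := by
        rw [pow_succ 2 a, pow_mul, ← map_pow, hγa, map_one, one_pow]
      rw [h1, (hc.pow_left m).mul_pow, pow_succ' 2 a, pow_mul (ψ t), sq, ht2, one_pow, mul_one,
        ← pow_succ' 2 a] at h3
      exact h3
    have h4 : ((ψ U ^ i) ^ m) ^ p = 1 := by
      have h : (ψ U ^ i) ^ p = 1 := by
        rw [← zpow_natCast, ← zpow_mul, mul_comm, zpow_mul, zpow_natCast, hUp, one_zpow]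
      rw [← pow_mul, mul_comm, pow_mul, h, one_pow]
    have h5 := pow_gcd_eq_one.2 ⟨h2, h4⟩
    rwa [((Nat.coprime_primes Nat.prime_two hp.out).2 (Ne.symm hp2)).pow_left (a + 1) |>.gcd_eq_one,
      pow_one] at h5
  have hβE : ∀ x ∈ s.E, (β₀ ^ m) x ∈ s.E := fun x hx => by
    rw [hβv m ⟨x, hx⟩]; exact (γ.1 _).2
  have hconj : γ.1 * s.cj u * γ.1⁻¹ = s.cj ((β₀ ^ m) u) := by
    refine MulEquiv.ext fun x => Subtype.ext ?_
    rw [MulAut.mul_apply, MulAut.mul_apply, cj_apply, ← hβv, cj_apply, map_mul, map_mul, map_inv,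
      hβv m (γ.1⁻¹ x)]
    congr 2
    exact congrArg Subtype.val (MulAut.apply_inv_self s.E γ.1 x)
  obtain ⟨k, x, hx, hk⟩ := s.exists_pow_mul hu ((β₀ ^ m) u)
  have hψu : ψ U ^ k = ψ U := by
    have h1 : γ * U * γ⁻¹ = U ^ k * ⟨_, s.cj_mem_pair u α x⟩ := Subtype.ext (by
      simp only [Subgroup.coe_mul, Subgroup.coe_inv, SubgroupClass.coe_pow, U]
      rw [hconj, hk, map_mul, map_pow])
    have h2 := congrArg ψ h1
    rw [map_mul, map_mul, map_inv, hψγ, map_mul, map_pow, hψE x hx, mul_one, hcent] at h2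
    exact h2.symm
  have huk : u⁻¹ * (β₀ ^ m) u ∈ s.E := by
    haveI := s.normal
    rw [← QuotientGroup.eq, hk, QuotientGroup.mk_mul, (QuotientGroup.eq_one_iff x).2 hx, mul_one,
      QuotientGroup.mk_pow]
    have h1 : orderOf (ψ U) = p := orderOf_eq_prime hUp hU1
    have h2 : k ≡ 1 [MOD p] := by
      rw [← h1, ← pow_eq_pow_iff_modEq, pow_one]; exact hψu
    have h3 : orderOf (QuotientGroup.mk' s.E u) ∣ p := orderOf_dvd_of_pow_eq_one (by
      rw [← map_pow]; exact (QuotientGroup.eq_one_iff _).2 (s.pow_mem u))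
    have h4 := (pow_eq_pow_iff_modEq (x := QuotientGroup.mk' s.E u)).2 (h2.of_dvd h3)
    rw [pow_one] at h4
    exact h4.symm
  refine ⟨β₀ ^ m, B.pow_mem hβ₀ m, γ.1, γ.2, fun x => hβv m x, ⟨a, hβa⟩, fun g => ?_, fun x hx => ?_⟩
  · haveI := s.normal
    obtain ⟨j, e', he', rfl⟩ := s.exists_pow_mul hu g
    rw [← QuotientGroup.eq, map_mul, map_pow, QuotientGroup.mk_mul, QuotientGroup.mk_mul,
      QuotientGroup.mk_pow, QuotientGroup.mk_pow, (QuotientGroup.eq_one_iff _).2 he',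
      (QuotientGroup.eq_one_iff _).2 (hβE e' he'), QuotientGroup.eq.2 huk]
  · have h1 : π (⟨x, hx⟩ * r γ ⟨x, hx⟩) = 1 := by
      rw [map_mul, ← hψ, hψγ, hinv, mul_inv_cancel]
    have h2 := (QuotientGroup.eq_one_iff (N := M.subgroupOf N) _).1 h1
    rw [Subgroup.mem_subgroupOf, Subgroup.coe_mul, hr] at h2
    rwa [hβv m ⟨x, hNE hx⟩]

end Side

end CfsgLib.FusionTwoEssentials
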